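import Cfsg.Agent.Lib.Helper27.M12Order

/-!
# Stabilisers of configurations as subgroups of `↥M24`, and their conjugation onto standard fixers
-/

set_option autoImplicit false

namespace Cfsg.Agent.Lib.Helper27

open Cfsg
open scoped Pointwise

/-- the subgroup of `↥M24` fixing every set of the list. -/
def flagStab (ss : List (Finset GolayPt)) : Subgroup ↥M24 where
  carrier := {g | ∀ s ∈ ss, g • s = s}
  one_mem' := fun _ _ => one_smul _ _
  mul_mem' := fun {a b} ha hb s hs => by rw [mul_smul, hb s hs, ha s hs]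
  inv_mem' := fun {a} ha s hs => by rw [inv_smul_eq_iff, ha s hs]

theorem mem_flagStab {ss : List (Finset GolayPt)} {g : ↥M24} :
    g ∈ flagStab ss ↔ ∀ s ∈ ss, g • s = s := Iff.rfl

theorem flagStab_nil : flagStab [] = ⊤ := by
  ext g; simp [mem_flagStab]

theorem flagStab_cons_set (s : Finset GolayPt) (ss : List (Finset GolayPt)) :
    flagStab (s :: ss) = flagStab ss ⊓ MulAction.stabilizer M24 s := by
  ext g
  simp only [mem_flagStab, List.mem_cons, forall_eq_or_imp, Subgroup.mem_inf,
    MulAction.mem_stabilizer_iff]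
  tauto

theorem flagStab_cons_pt (p : GolayPt) (ss : List (Finset GolayPt)) :
    flagStab ({p} :: ss) = flagStab ss ⊓ MulAction.stabilizer M24 p := by
  rw [flagStab_cons_set]
  congr 1
  ext g
  simp only [MulAction.mem_stabilizer_iff, Finset.smul_finset_singleton, Finset.singleton_inj]

theorem flagStab_singleton_set (s : Finset GolayPt) : flagStab [s] = MulAction.stabilizer M24 s := by
  rw [flagStab_cons_set, flagStab_nil, top_inf_eq]

theorem flagStab_singleton_pt (p : GolayPt) : flagStab [{p}] = MulAction.stabilizer M24 p := by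
  rw [flagStab_cons_pt, flagStab_nil, top_inf_eq]

theorem Maps.conj_inv_fixes {t k : Equiv.Perm GolayPt} {ss : List (Finset GolayPt)} {ms : List ℕ}
    (h : Maps t ss ms) (hk : ∀ m ∈ ms, k • unmask m = unmask m) :
    ∀ s ∈ ss, (t⁻¹ * k * t) • s = s := by
  induction h with
  | nil => intro s hs; simp at hs
  | cons h1 _ ih =>
    intro s hs
    rcases List.mem_cons.1 hs with rfl | hs
    · rw [mul_smul, mul_smul, h1, hk _ List.mem_cons_self, ← h1, inv_smul_smul]
    · exact ih (fun m hm => hk m (List.mem_cons_of_mem _ hm)) s hs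

/-- the stabiliser of a configuration is isomorphic to the standard fixer. -/
noncomputable def flagStabEquiv {t : Equiv.Perm GolayPt} {ss : List (Finset GolayPt)} {ms : List ℕ}
    (ht : t ∈ M24) (h : Maps t ss ms) : flagStab ss ≃* fixer ms where
  toFun g := ⟨t * (g : ↥M24) * t⁻¹, h.conj_mem_fixer ht g.1.2 g.2⟩
  invFun k := ⟨⟨t⁻¹ * k * t, M24.mul_mem (M24.mul_mem (M24.inv_mem ht) k.2.1) ht⟩,
    h.conj_inv_fixes k.2.2⟩
  left_inv g := by
    apply Subtype.ext; apply Subtype.ext
    show t⁻¹ * (t * ((g : ↥M24) : Equiv.Perm GolayPt) * t⁻¹) * t = _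
    group
  right_inv k := by
    apply Subtype.ext
    show t * (t⁻¹ * (k : Equiv.Perm GolayPt) * t) * t⁻¹ = _
    group
  map_mul' a b := by
    apply Subtype.ext
    show t * (((a : ↥M24) : Equiv.Perm GolayPt) * ((b : ↥M24) : Equiv.Perm GolayPt)) * t⁻¹ =
      (t * ((a : ↥M24) : Equiv.Perm GolayPt) * t⁻¹) * (t * ((b : ↥M24) : Equiv.Perm GolayPt) * t⁻¹)
    group

theorem card_flagStab {t : Equiv.Perm GolayPt} {ss : List (Finset GolayPt)} {ms : List ℕ}
    (ht : t ∈ M24) (h : Maps t ss ms) : Nat.card (flagStab ss) = Nat.card (fixer ms) :=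
  Nat.card_congr (flagStabEquiv ht h).toEquiv

end Cfsg.Agent.Lib.Helper27
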