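import Cfsg.Agent.Lib.Helper27.FrobSpec

/-!
# A Frobenius group of order `13 ^ 4 * 48` (helper27; generated)
-/

set_option autoImplicit false
set_option maxRecDepth 100000

namespace Cfsg.Agent.Lib.Helper27.Frob13

open Cfsg.Agent.Lib.Helper27.FrobSpec Matrix

def a : Mat 13 := !![0, 6, 0, 0; 3, 0, 0, 0; 0, 0, 0, 9; 0, 0, 11, 0]
def a' : Mat 13 := !![0, 9, 0, 0; 11, 0, 0, 0; 0, 0, 0, 6; 0, 0, 3, 0]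
def b : Mat 13 := !![11, 0, 10, 0; 0, 11, 0, 10; 11, 0, 3, 0; 0, 11, 0, 3]
def b' : Mat 13 := !![3, 0, 3, 0; 0, 3, 0, 3; 2, 0, 11, 0; 0, 2, 0, 11]
def a2 : Mat 13 := !![5, 0, 0, 0; 0, 5, 0, 0; 0, 0, 8, 0; 0, 0, 0, 8]
def a4 : Mat 13 := !![12, 0, 0, 0; 0, 12, 0, 0; 0, 0, 12, 0; 0, 0, 0, 12]
def b2 : Mat 13 := !![10, 0, 10, 0; 0, 10, 0, 10; 11, 0, 2, 0; 0, 11, 0, 2]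
def b4 : Mat 13 := !![2, 0, 3, 0; 0, 2, 0, 3; 2, 0, 10, 0; 0, 2, 0, 10]
def R : List (Mat 13 × Mat 13 × Mat 13 × Mat 13) := [
  (!![1, 0, 0, 0; 0, 1, 0, 0; 0, 0, 1, 0; 0, 0, 0, 1], !![1, 0, 0, 0; 0, 1, 0, 0; 0, 0, 1, 0; 0, 0, 0, 1], !![1, 0, 0, 0; 0, 1, 0, 0; 0, 0, 1, 0; 0, 0, 0, 1], !![0, 0, 0, 0; 0, 0, 0, 0; 0, 0, 0, 0; 0, 0, 0, 0]),
  (!![0, 6, 0, 0; 3, 0, 0, 0; 0, 0, 0, 9; 0, 0, 11, 0], !![5, 0, 0, 0; 0, 5, 0, 0; 0, 0, 8, 0; 0, 0, 0, 8], !![12, 0, 0, 0; 0, 12, 0, 0; 0, 0, 12, 0; 0, 0, 0, 12], !![10, 8, 0, 0; 4, 10, 0, 0; 0, 0, 2, 5; 0, 0, 9, 2]),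
  (!![11, 0, 10, 0; 0, 11, 0, 10; 11, 0, 3, 0; 0, 11, 0, 3], !![10, 0, 10, 0; 0, 10, 0, 10; 11, 0, 2, 0; 0, 11, 0, 2], !![2, 0, 3, 0; 0, 2, 0, 3; 2, 0, 10, 0; 0, 2, 0, 10], !![2, 0, 3, 0; 0, 2, 0, 3; 2, 0, 10, 0; 0, 2, 0, 10]),
  (!![5, 0, 0, 0; 0, 5, 0, 0; 0, 0, 8, 0; 0, 0, 0, 8], !![12, 0, 0, 0; 0, 12, 0, 0; 0, 0, 12, 0; 0, 0, 0, 12], !![1, 0, 0, 0; 0, 1, 0, 0; 0, 0, 1, 0; 0, 0, 0, 1], !![10, 0, 0, 0; 0, 10, 0, 0; 0, 0, 2, 0; 0, 0, 0, 2]),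
  (!![0, 1, 0, 8; 7, 0, 4, 0; 0, 8, 0, 1; 4, 0, 7, 0], !![0, 0, 8, 0; 0, 0, 0, 8; 8, 0, 0, 0; 0, 8, 0, 0], !![12, 0, 0, 0; 0, 12, 0, 0; 0, 0, 12, 0; 0, 0, 0, 12], !![6, 0, 9, 5; 0, 6, 9, 9; 9, 5, 6, 0; 9, 9, 0, 6]),
  (!![0, 1, 0, 12; 7, 0, 6, 0; 0, 1, 0, 1; 7, 0, 7, 0], !![0, 0, 12, 0; 0, 0, 0, 12; 1, 0, 0, 0; 0, 1, 0, 0], !![12, 0, 0, 0; 0, 12, 0, 0; 0, 0, 12, 0; 0, 0, 0, 12], !![6, 0, 7, 1; 0, 6, 7, 7; 6, 12, 6, 0; 6, 6, 0, 6]),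
  (!![10, 0, 10, 0; 0, 10, 0, 10; 11, 0, 2, 0; 0, 11, 0, 2], !![2, 0, 3, 0; 0, 2, 0, 3; 2, 0, 10, 0; 0, 2, 0, 10], !![10, 0, 10, 0; 0, 10, 0, 10; 11, 0, 2, 0; 0, 11, 0, 2], !![9, 0, 1, 0; 0, 9, 0, 1; 5, 0, 3, 0; 0, 5, 0, 3]),
  (!![0, 4, 0, 0; 2, 0, 0, 0; 0, 0, 0, 7; 0, 0, 10, 0], !![8, 0, 0, 0; 0, 8, 0, 0; 0, 0, 5, 0; 0, 0, 0, 5], !![12, 0, 0, 0; 0, 12, 0, 0; 0, 0, 12, 0; 0, 0, 0, 12], !![2, 8, 0, 0; 4, 2, 0, 0; 0, 0, 10, 5; 0, 0, 9, 10]),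
  (!![3, 0, 11, 0; 0, 3, 0, 11; 10, 0, 11, 0; 0, 10, 0, 11], !![2, 0, 11, 0; 0, 2, 0, 11; 10, 0, 10, 0; 0, 10, 0, 10], !![10, 0, 2, 0; 0, 10, 0, 2; 3, 0, 2, 0; 0, 3, 0, 2], !![10, 0, 2, 0; 0, 10, 0, 2; 3, 0, 2, 0; 0, 3, 0, 2]),
  (!![3, 0, 10, 0; 0, 3, 0, 10; 11, 0, 11, 0; 0, 11, 0, 11], !![2, 0, 10, 0; 0, 2, 0, 10; 11, 0, 10, 0; 0, 11, 0, 10], !![10, 0, 3, 0; 0, 10, 0, 3; 2, 0, 2, 0; 0, 2, 0, 2], !![10, 0, 3, 0; 0, 10, 0, 3; 2, 0, 2, 0; 0, 2, 0, 2]),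
  (!![0, 8, 0, 8; 4, 0, 4, 0; 0, 8, 0, 5; 4, 0, 9, 0], !![12, 0, 0, 0; 0, 12, 0, 0; 0, 0, 12, 0; 0, 0, 0, 12], !![1, 0, 0, 0; 0, 1, 0, 0; 0, 0, 1, 0; 0, 0, 0, 1], !![6, 9, 0, 9; 11, 6, 11, 0; 0, 9, 6, 4; 11, 0, 2, 6]),
  (!![3, 0, 2, 0; 0, 3, 0, 2; 3, 0, 11, 0; 0, 3, 0, 11], !![2, 0, 2, 0; 0, 2, 0, 2; 3, 0, 10, 0; 0, 3, 0, 10], !![10, 0, 11, 0; 0, 10, 0, 11; 10, 0, 2, 0; 0, 10, 0, 2], !![10, 0, 11, 0; 0, 10, 0, 11; 10, 0, 2, 0; 0, 10, 0, 2]),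
  (!![0, 0, 0, 7; 0, 0, 10, 0; 0, 9, 0, 0; 11, 0, 0, 0], !![12, 0, 0, 0; 0, 12, 0, 0; 0, 0, 12, 0; 0, 0, 0, 12], !![1, 0, 0, 0; 0, 1, 0, 0; 0, 0, 1, 0; 0, 0, 0, 1], !![6, 0, 0, 3; 0, 6, 8, 0; 0, 2, 6, 0; 1, 0, 0, 6]),
  (!![0, 8, 0, 12; 4, 0, 6, 0; 0, 1, 0, 5; 7, 0, 9, 0], !![12, 0, 0, 0; 0, 12, 0, 0; 0, 0, 12, 0; 0, 0, 0, 12], !![1, 0, 0, 0; 0, 1, 0, 0; 0, 0, 1, 0; 0, 0, 0, 1], !![6, 9, 0, 7; 11, 6, 10, 0; 0, 6, 6, 4; 3, 0, 2, 6]),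
  (!![12, 0, 0, 0; 0, 12, 0, 0; 0, 0, 12, 0; 0, 0, 0, 12], !![1, 0, 0, 0; 0, 1, 0, 0; 0, 0, 1, 0; 0, 0, 0, 1], !![1, 0, 0, 0; 0, 1, 0, 0; 0, 0, 1, 0; 0, 0, 0, 1], !![6, 0, 0, 0; 0, 6, 0, 0; 0, 0, 6, 0; 0, 0, 0, 6]),
  (!![0, 5, 0, 1; 9, 0, 7, 0; 0, 12, 0, 8; 6, 0, 4, 0], !![12, 0, 0, 0; 0, 12, 0, 0; 0, 0, 12, 0; 0, 0, 0, 12], !![1, 0, 0, 0; 0, 1, 0, 0; 0, 0, 1, 0; 0, 0, 0, 1], !![6, 4, 0, 6; 2, 6, 3, 0; 0, 7, 6, 9; 10, 0, 11, 6]),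
  (!![0, 5, 0, 8; 9, 0, 4, 0; 0, 8, 0, 8; 4, 0, 4, 0], !![12, 0, 0, 0; 0, 12, 0, 0; 0, 0, 12, 0; 0, 0, 0, 12], !![1, 0, 0, 0; 0, 1, 0, 0; 0, 0, 1, 0; 0, 0, 0, 1], !![6, 4, 0, 9; 2, 6, 11, 0; 0, 9, 6, 9; 11, 0, 11, 6]),
  (!![11, 0, 11, 0; 0, 11, 0, 11; 10, 0, 3, 0; 0, 10, 0, 3], !![10, 0, 11, 0; 0, 10, 0, 11; 10, 0, 2, 0; 0, 10, 0, 2], !![2, 0, 2, 0; 0, 2, 0, 2; 3, 0, 10, 0; 0, 3, 0, 10], !![2, 0, 2, 0; 0, 2, 0, 2; 3, 0, 10, 0; 0, 3, 0, 10]),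
  (!![0, 5, 0, 12; 9, 0, 6, 0; 0, 1, 0, 8; 7, 0, 4, 0], !![12, 0, 0, 0; 0, 12, 0, 0; 0, 0, 12, 0; 0, 0, 0, 12], !![1, 0, 0, 0; 0, 1, 0, 0; 0, 0, 1, 0; 0, 0, 0, 1], !![6, 4, 0, 7; 2, 6, 10, 0; 0, 6, 6, 9; 3, 0, 11, 6]),
  (!![0, 0, 8, 0; 0, 0, 0, 8; 8, 0, 0, 0; 0, 8, 0, 0], !![12, 0, 0, 0; 0, 12, 0, 0; 0, 0, 12, 0; 0, 0, 0, 12], !![1, 0, 0, 0; 0, 1, 0, 0; 0, 0, 1, 0; 0, 0, 0, 1], !![6, 0, 9, 0; 0, 6, 0, 9; 9, 0, 6, 0; 0, 9, 0, 6]),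
  (!![0, 7, 0, 0; 10, 0, 0, 0; 0, 0, 0, 4; 0, 0, 2, 0], !![5, 0, 0, 0; 0, 5, 0, 0; 0, 0, 8, 0; 0, 0, 0, 8], !![12, 0, 0, 0; 0, 12, 0, 0; 0, 0, 12, 0; 0, 0, 0, 12], !![10, 5, 0, 0; 9, 10, 0, 0; 0, 0, 2, 8; 0, 0, 4, 2]),
  (!![0, 5, 0, 5; 9, 0, 9, 0; 0, 5, 0, 8; 9, 0, 4, 0], !![12, 0, 0, 0; 0, 12, 0, 0; 0, 0, 12, 0; 0, 0, 0, 12], !![1, 0, 0, 0; 0, 1, 0, 0; 0, 0, 1, 0; 0, 0, 0, 1], !![6, 4, 0, 4; 2, 6, 2, 0; 0, 4, 6, 9; 2, 0, 11, 6]),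
  (!![0, 0, 12, 0; 0, 0, 0, 12; 1, 0, 0, 0; 0, 1, 0, 0], !![12, 0, 0, 0; 0, 12, 0, 0; 0, 0, 12, 0; 0, 0, 0, 12], !![1, 0, 0, 0; 0, 1, 0, 0; 0, 0, 1, 0; 0, 0, 0, 1], !![6, 0, 7, 0; 0, 6, 0, 7; 6, 0, 6, 0; 0, 6, 0, 6]),
  (!![0, 12, 0, 8; 6, 0, 4, 0; 0, 8, 0, 12; 4, 0, 6, 0], !![0, 0, 5, 0; 0, 0, 0, 5; 5, 0, 0, 0; 0, 5, 0, 0], !![12, 0, 0, 0; 0, 12, 0, 0; 0, 0, 12, 0; 0, 0, 0, 12], !![6, 0, 4, 5; 0, 6, 9, 4; 4, 5, 6, 0; 9, 4, 0, 6]),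
  (!![11, 0, 2, 0; 0, 11, 0, 2; 3, 0, 3, 0; 0, 3, 0, 3], !![10, 0, 2, 0; 0, 10, 0, 2; 3, 0, 2, 0; 0, 3, 0, 2], !![2, 0, 11, 0; 0, 2, 0, 11; 10, 0, 10, 0; 0, 10, 0, 10], !![2, 0, 11, 0; 0, 2, 0, 11; 10, 0, 10, 0; 0, 10, 0, 10]),
  (!![0, 12, 0, 12; 6, 0, 6, 0; 0, 1, 0, 12; 7, 0, 6, 0], !![0, 0, 1, 0; 0, 0, 0, 1; 12, 0, 0, 0; 0, 12, 0, 0], !![12, 0, 0, 0; 0, 12, 0, 0; 0, 0, 12, 0; 0, 0, 0, 12], !![6, 0, 6, 1; 0, 6, 7, 6; 7, 12, 6, 0; 6, 7, 0, 6]),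
  (!![2, 0, 3, 0; 0, 2, 0, 3; 2, 0, 10, 0; 0, 2, 0, 10], !![10, 0, 10, 0; 0, 10, 0, 10; 11, 0, 2, 0; 0, 11, 0, 2], !![2, 0, 3, 0; 0, 2, 0, 3; 2, 0, 10, 0; 0, 2, 0, 10], !![3, 0, 12, 0; 0, 3, 0, 12; 8, 0, 9, 0; 0, 8, 0, 9]),
  (!![2, 0, 11, 0; 0, 2, 0, 11; 10, 0, 10, 0; 0, 10, 0, 10], !![10, 0, 2, 0; 0, 10, 0, 2; 3, 0, 2, 0; 0, 3, 0, 2], !![2, 0, 11, 0; 0, 2, 0, 11; 10, 0, 10, 0; 0, 10, 0, 10], !![3, 0, 5, 0; 0, 3, 0, 5; 1, 0, 9, 0; 0, 1, 0, 9]),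
  (!![0, 1, 0, 1; 7, 0, 7, 0; 0, 12, 0, 1; 6, 0, 7, 0], !![0, 0, 1, 0; 0, 0, 0, 1; 12, 0, 0, 0; 0, 12, 0, 0], !![12, 0, 0, 0; 0, 12, 0, 0; 0, 0, 12, 0; 0, 0, 0, 12], !![6, 0, 6, 12; 0, 6, 6, 6; 7, 1, 6, 0; 7, 7, 0, 6]),
  (!![2, 0, 10, 0; 0, 2, 0, 10; 11, 0, 10, 0; 0, 11, 0, 10], !![10, 0, 3, 0; 0, 10, 0, 3; 2, 0, 2, 0; 0, 2, 0, 2], !![2, 0, 10, 0; 0, 2, 0, 10; 11, 0, 10, 0; 0, 11, 0, 10], !![3, 0, 1, 0; 0, 3, 0, 1; 5, 0, 9, 0; 0, 5, 0, 9]),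
  (!![0, 0, 0, 9; 0, 0, 11, 0; 0, 7, 0, 0; 10, 0, 0, 0], !![12, 0, 0, 0; 0, 12, 0, 0; 0, 0, 12, 0; 0, 0, 0, 12], !![1, 0, 0, 0; 0, 1, 0, 0; 0, 0, 1, 0; 0, 0, 0, 1], !![6, 0, 0, 2; 0, 6, 1, 0; 0, 3, 6, 0; 8, 0, 0, 6]),
  (!![8, 0, 0, 0; 0, 8, 0, 0; 0, 0, 5, 0; 0, 0, 0, 5], !![12, 0, 0, 0; 0, 12, 0, 0; 0, 0, 12, 0; 0, 0, 0, 12], !![1, 0, 0, 0; 0, 1, 0, 0; 0, 0, 1, 0; 0, 0, 0, 1], !![2, 0, 0, 0; 0, 2, 0, 0; 0, 0, 10, 0; 0, 0, 0, 10]),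
  (!![2, 0, 2, 0; 0, 2, 0, 2; 3, 0, 10, 0; 0, 3, 0, 10], !![10, 0, 11, 0; 0, 10, 0, 11; 10, 0, 2, 0; 0, 10, 0, 2], !![2, 0, 2, 0; 0, 2, 0, 2; 3, 0, 10, 0; 0, 3, 0, 10], !![3, 0, 8, 0; 0, 3, 0, 8; 12, 0, 9, 0; 0, 12, 0, 9]),
  (!![10, 0, 11, 0; 0, 10, 0, 11; 10, 0, 2, 0; 0, 10, 0, 2], !![2, 0, 2, 0; 0, 2, 0, 2; 3, 0, 10, 0; 0, 3, 0, 10], !![10, 0, 11, 0; 0, 10, 0, 11; 10, 0, 2, 0; 0, 10, 0, 2], !![9, 0, 5, 0; 0, 9, 0, 5; 1, 0, 3, 0; 0, 1, 0, 3]),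
  (!![0, 12, 0, 5; 6, 0, 9, 0; 0, 5, 0, 12; 9, 0, 6, 0], !![0, 0, 8, 0; 0, 0, 0, 8; 8, 0, 0, 0; 0, 8, 0, 0], !![12, 0, 0, 0; 0, 12, 0, 0; 0, 0, 12, 0; 0, 0, 0, 12], !![6, 0, 9, 8; 0, 6, 4, 9; 9, 8, 6, 0; 4, 9, 0, 6]),
  (!![0, 0, 0, 4; 0, 0, 2, 0; 0, 6, 0, 0; 3, 0, 0, 0], !![12, 0, 0, 0; 0, 12, 0, 0; 0, 0, 12, 0; 0, 0, 0, 12], !![1, 0, 0, 0; 0, 1, 0, 0; 0, 0, 1, 0; 0, 0, 0, 1], !![6, 0, 0, 11; 0, 6, 12, 0; 0, 10, 6, 0; 5, 0, 0, 6]),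
  (!![0, 12, 0, 1; 6, 0, 7, 0; 0, 12, 0, 12; 6, 0, 6, 0], !![0, 0, 12, 0; 0, 0, 0, 12; 1, 0, 0, 0; 0, 1, 0, 0], !![12, 0, 0, 0; 0, 12, 0, 0; 0, 0, 12, 0; 0, 0, 0, 12], !![6, 0, 7, 12; 0, 6, 6, 7; 6, 1, 6, 0; 7, 6, 0, 6]),
  (!![0, 1, 0, 5; 7, 0, 9, 0; 0, 5, 0, 1; 9, 0, 7, 0], !![0, 0, 5, 0; 0, 0, 0, 5; 5, 0, 0, 0; 0, 5, 0, 0], !![12, 0, 0, 0; 0, 12, 0, 0; 0, 0, 12, 0; 0, 0, 0, 12], !![6, 0, 4, 8; 0, 6, 4, 4; 4, 8, 6, 0; 4, 4, 0, 6]),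
  (!![10, 0, 2, 0; 0, 10, 0, 2; 3, 0, 2, 0; 0, 3, 0, 2], !![2, 0, 11, 0; 0, 2, 0, 11; 10, 0, 10, 0; 0, 10, 0, 10], !![10, 0, 2, 0; 0, 10, 0, 2; 3, 0, 2, 0; 0, 3, 0, 2], !![9, 0, 8, 0; 0, 9, 0, 8; 12, 0, 3, 0; 0, 12, 0, 3]),
  (!![3, 0, 3, 0; 0, 3, 0, 3; 2, 0, 11, 0; 0, 2, 0, 11], !![2, 0, 3, 0; 0, 2, 0, 3; 2, 0, 10, 0; 0, 2, 0, 10], !![10, 0, 10, 0; 0, 10, 0, 10; 11, 0, 2, 0; 0, 11, 0, 2], !![10, 0, 10, 0; 0, 10, 0, 10; 11, 0, 2, 0; 0, 11, 0, 2]),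
  (!![0, 0, 1, 0; 0, 0, 0, 1; 12, 0, 0, 0; 0, 12, 0, 0], !![12, 0, 0, 0; 0, 12, 0, 0; 0, 0, 12, 0; 0, 0, 0, 12], !![1, 0, 0, 0; 0, 1, 0, 0; 0, 0, 1, 0; 0, 0, 0, 1], !![6, 0, 6, 0; 0, 6, 0, 6; 7, 0, 6, 0; 0, 7, 0, 6]),
  (!![0, 9, 0, 0; 11, 0, 0, 0; 0, 0, 0, 6; 0, 0, 3, 0], !![8, 0, 0, 0; 0, 8, 0, 0; 0, 0, 5, 0; 0, 0, 0, 5], !![12, 0, 0, 0; 0, 12, 0, 0; 0, 0, 12, 0; 0, 0, 0, 12], !![2, 5, 0, 0; 9, 2, 0, 0; 0, 0, 10, 8; 0, 0, 4, 10]),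
  (!![0, 8, 0, 1; 4, 0, 7, 0; 0, 12, 0, 5; 6, 0, 9, 0], !![12, 0, 0, 0; 0, 12, 0, 0; 0, 0, 12, 0; 0, 0, 0, 12], !![1, 0, 0, 0; 0, 1, 0, 0; 0, 0, 1, 0; 0, 0, 0, 1], !![6, 9, 0, 6; 11, 6, 3, 0; 0, 7, 6, 4; 10, 0, 2, 6]),
  (!![10, 0, 3, 0; 0, 10, 0, 3; 2, 0, 2, 0; 0, 2, 0, 2], !![2, 0, 10, 0; 0, 2, 0, 10; 11, 0, 10, 0; 0, 11, 0, 10], !![10, 0, 3, 0; 0, 10, 0, 3; 2, 0, 2, 0; 0, 2, 0, 2], !![9, 0, 12, 0; 0, 9, 0, 12; 8, 0, 3, 0; 0, 8, 0, 3]),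
  (!![0, 0, 5, 0; 0, 0, 0, 5; 5, 0, 0, 0; 0, 5, 0, 0], !![12, 0, 0, 0; 0, 12, 0, 0; 0, 0, 12, 0; 0, 0, 0, 12], !![1, 0, 0, 0; 0, 1, 0, 0; 0, 0, 1, 0; 0, 0, 0, 1], !![6, 0, 4, 0; 0, 6, 0, 4; 4, 0, 6, 0; 0, 4, 0, 6]),
  (!![0, 0, 0, 6; 0, 0, 3, 0; 0, 4, 0, 0; 2, 0, 0, 0], !![12, 0, 0, 0; 0, 12, 0, 0; 0, 0, 12, 0; 0, 0, 0, 12], !![1, 0, 0, 0; 0, 1, 0, 0; 0, 0, 1, 0; 0, 0, 0, 1], !![6, 0, 0, 10; 0, 6, 5, 0; 0, 11, 6, 0; 12, 0, 0, 6]),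
  (!![0, 8, 0, 5; 4, 0, 9, 0; 0, 5, 0, 5; 9, 0, 9, 0], !![12, 0, 0, 0; 0, 12, 0, 0; 0, 0, 12, 0; 0, 0, 0, 12], !![1, 0, 0, 0; 0, 1, 0, 0; 0, 0, 1, 0; 0, 0, 0, 1], !![6, 9, 0, 4; 11, 6, 2, 0; 0, 4, 6, 4; 2, 0, 2, 6]),
  (!![11, 0, 3, 0; 0, 11, 0, 3; 2, 0, 3, 0; 0, 2, 0, 3], !![10, 0, 3, 0; 0, 10, 0, 3; 2, 0, 2, 0; 0, 2, 0, 2], !![2, 0, 10, 0; 0, 2, 0, 10; 11, 0, 10, 0; 0, 11, 0, 10], !![2, 0, 10, 0; 0, 2, 0, 10; 11, 0, 10, 0; 0, 11, 0, 10])]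
def L : List (Mat 13) := R.map (fun r => r.1)

theorem chk : ∀ r ∈ R, r.2.1 = r.1 * r.1 ∧ r.2.2.1 = r.2.1 * r.2.1 ∧
    (r.2.2.1 * r.2.2.1 = 1 ∨ r.2.1 * r.2.1 * r.2.1 = 1) ∧ (r.1 = 1 ∨ r.2.2.2 * (r.1 - 1) = 1) ∧
    r.1 * a ∈ L ∧ r.1 * a' ∈ L ∧ r.1 * b ∈ L ∧ r.1 * b' ∈ L := by decide +kernel

theorem aa' : a * a' = 1 := by decide +kernel
theorem a'a : a' * a = 1 := by decide +kernel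
theorem bb' : b * b' = 1 := by decide +kernel
theorem b'b : b' * b = 1 := by decide +kernel
theorem one_mem : (1 : Mat 13) ∈ L := by decide +kernel
theorem a2_eq : a2 = a * a := by decide +kernel
theorem a4_eq : a4 = a2 * a2 := by decide +kernel
theorem a8_eq : a4 * a4 = 1 := by decide +kernel
theorem a4_ne : a4 ≠ 1 := by decide +kernel
theorem b2_eq : b2 = b * b := by decide +kernel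
theorem b4_eq : b4 = b2 * b2 := by decide +kernel

theorem exists_group : ∃ (H : Type) (_ : Group H) (_ : Fintype H), Group.IsSolvable H ∧
    Set.range (orderOf : H → ℕ) = {m | m ∣ 13 ∨ m ∣ 8 ∨ m ∣ 6} := by
  haveI : Fact (Nat.Prime 13) := ⟨by norm_num⟩
  have hR : ∀ M ∈ L, ∃ r ∈ R, r.1 = M := by
    intro M hM
    obtain ⟨r, hr, e⟩ := List.mem_map.mp hM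
    exact ⟨r, hr, e⟩
  apply main 13 6 a a' b b' L aa' a'a bb' b'b one_mem
  · intro M hM
    obtain ⟨r, hr, rfl⟩ := hR M hM
    exact (chk r hr).2.2.2.2
  · intro M hM
    obtain ⟨r, hr, rfl⟩ := hR M hM
    obtain ⟨c1, c2, c3, -⟩ := chk r hr
    rcases c3 with c3 | c3
    · left
      rw [mpow8 _ _ _ c1 c2, c3]
    · right
      rw [mpow6 _ _ c1, c3]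
  · intro M hM
    obtain ⟨r, hr, rfl⟩ := hR M hM
    obtain ⟨-, -, -, c4, -⟩ := chk r hr
    rcases c4 with c4 | c4
    · exact Or.inl c4
    · exact Or.inr ⟨_, c4⟩
  · apply orderOf_eight
    · rw [mpow8 _ _ _ a2_eq a4_eq, a8_eq]
    · rw [mpow4 _ _ a2_eq, ← a4_eq]
      exact a4_ne
  · apply orderOf_six
    · rw [mpow6 _ _ b2_eq]
      decide +kernel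
    · rw [mpow2, ← b2_eq]
      decide +kernel
    · rw [mpow3, ← b2_eq]
      decide +kernel
  · exact Or.inl rfl

end Cfsg.Agent.Lib.Helper27.Frob13
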