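import Cfsg.Agent.Lib.Helper27.FrobSpec

/-!
# A Frobenius group of order `7 ^ 4 * 48` (helper27; generated)
-/

set_option autoImplicit false
set_option maxRecDepth 100000

namespace Cfsg.Agent.Lib.Helper27.Frob7

open Cfsg.Agent.Lib.Helper27.FrobSpec Matrix

def a : Mat 7 := !![0, 0, 0, 6; 0, 0, 6, 0; 0, 1, 0, 3; 1, 0, 3, 0]
def a' : Mat 7 := !![0, 3, 0, 1; 3, 0, 1, 0; 0, 6, 0, 0; 6, 0, 0, 0]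
def b : Mat 7 := !![2, 0, 2, 0; 0, 4, 0, 4; 3, 0, 5, 0; 0, 6, 0, 3]
def b' : Mat 7 := !![3, 0, 3, 0; 0, 5, 0, 5; 1, 0, 4, 0; 0, 4, 0, 2]
def a2 : Mat 7 := !![6, 0, 4, 0; 0, 6, 0, 4; 3, 0, 1, 0; 0, 3, 0, 1]
def a4 : Mat 7 := !![6, 0, 0, 0; 0, 6, 0, 0; 0, 0, 6, 0; 0, 0, 0, 6]
def b2 : Mat 7 := !![3, 0, 0, 0; 0, 5, 0, 0; 0, 0, 3, 0; 0, 0, 0, 5]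
def b4 : Mat 7 := !![2, 0, 0, 0; 0, 4, 0, 0; 0, 0, 2, 0; 0, 0, 0, 4]
def R : List (Mat 7 × Mat 7 × Mat 7 × Mat 7) := [
  (!![1, 0, 0, 0; 0, 1, 0, 0; 0, 0, 1, 0; 0, 0, 0, 1], !![1, 0, 0, 0; 0, 1, 0, 0; 0, 0, 1, 0; 0, 0, 0, 1], !![1, 0, 0, 0; 0, 1, 0, 0; 0, 0, 1, 0; 0, 0, 0, 1], !![0, 0, 0, 0; 0, 0, 0, 0; 0, 0, 0, 0; 0, 0, 0, 0]),
  (!![0, 0, 0, 6; 0, 0, 6, 0; 0, 1, 0, 3; 1, 0, 3, 0], !![6, 0, 4, 0; 0, 6, 0, 4; 3, 0, 1, 0; 0, 3, 0, 1], !![6, 0, 0, 0; 0, 6, 0, 0; 0, 0, 6, 0; 0, 0, 0, 6], !![0, 5, 5, 1; 5, 0, 1, 5; 2, 6, 6, 2; 6, 2, 2, 6]),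
  (!![2, 0, 2, 0; 0, 4, 0, 4; 3, 0, 5, 0; 0, 6, 0, 3], !![3, 0, 0, 0; 0, 5, 0, 0; 0, 0, 3, 0; 0, 0, 0, 5], !![2, 0, 0, 0; 0, 4, 0, 0; 0, 0, 2, 0; 0, 0, 0, 4], !![5, 0, 1, 0; 0, 3, 0, 1; 5, 0, 3, 0; 0, 5, 0, 1]),
  (!![6, 0, 4, 0; 0, 6, 0, 4; 3, 0, 1, 0; 0, 3, 0, 1], !![6, 0, 0, 0; 0, 6, 0, 0; 0, 0, 6, 0; 0, 0, 0, 6], !![1, 0, 0, 0; 0, 1, 0, 0; 0, 0, 1, 0; 0, 0, 0, 1], !![0, 0, 5, 0; 0, 0, 0, 5; 2, 0, 6, 0; 0, 2, 0, 6]),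
  (!![0, 1, 0, 4; 4, 0, 2, 0; 0, 1, 0, 6; 4, 0, 3, 0], !![6, 0, 0, 0; 0, 6, 0, 0; 0, 0, 6, 0; 0, 0, 0, 6], !![1, 0, 0, 0; 0, 1, 0, 0; 0, 0, 1, 0; 0, 0, 0, 1], !![3, 3, 0, 5; 5, 3, 6, 0; 0, 3, 3, 4; 5, 0, 2, 3]),
  (!![0, 2, 0, 4; 4, 0, 1, 0; 0, 5, 0, 5; 3, 0, 3, 0], !![6, 0, 0, 0; 0, 6, 0, 0; 0, 0, 6, 0; 0, 0, 0, 6], !![1, 0, 0, 0; 0, 1, 0, 0; 0, 0, 1, 0; 0, 0, 0, 1], !![3, 6, 0, 5; 5, 3, 3, 0; 0, 1, 3, 1; 2, 0, 2, 3]),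
  (!![3, 0, 0, 0; 0, 5, 0, 0; 0, 0, 3, 0; 0, 0, 0, 5], !![2, 0, 0, 0; 0, 4, 0, 0; 0, 0, 2, 0; 0, 0, 0, 4], !![4, 0, 0, 0; 0, 2, 0, 0; 0, 0, 4, 0; 0, 0, 0, 2], !![4, 0, 0, 0; 0, 2, 0, 0; 0, 0, 4, 0; 0, 0, 0, 2]),
  (!![0, 4, 0, 6; 4, 0, 6, 0; 0, 1, 0, 0; 1, 0, 0, 0], !![1, 0, 3, 0; 0, 1, 0, 3; 4, 0, 6, 0; 0, 4, 0, 6], !![6, 0, 0, 0; 0, 6, 0, 0; 0, 0, 6, 0; 0, 0, 0, 6], !![6, 5, 2, 1; 5, 6, 1, 2; 5, 6, 0, 2; 6, 5, 2, 0]),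
  (!![3, 0, 4, 0; 0, 6, 0, 1; 2, 0, 4, 0; 0, 4, 0, 1], !![3, 0, 0, 0; 0, 5, 0, 0; 0, 0, 3, 0; 0, 0, 0, 5], !![2, 0, 0, 0; 0, 4, 0, 0; 0, 0, 2, 0; 0, 0, 0, 4], !![2, 0, 2, 0; 0, 0, 0, 2; 1, 0, 6, 0; 0, 1, 0, 4]),
  (!![4, 0, 4, 0; 0, 2, 0, 2; 6, 0, 3, 0; 0, 3, 0, 5], !![5, 0, 0, 0; 0, 3, 0, 0; 0, 0, 5, 0; 0, 0, 0, 3], !![4, 0, 0, 0; 0, 2, 0, 0; 0, 0, 4, 0; 0, 0, 0, 2], !![3, 0, 1, 0; 0, 5, 0, 1; 5, 0, 1, 0; 0, 5, 0, 3]),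
  (!![0, 0, 0, 2; 0, 0, 4, 0; 0, 5, 0, 1; 3, 0, 2, 0], !![6, 0, 4, 0; 0, 6, 0, 4; 3, 0, 1, 0; 0, 3, 0, 1], !![6, 0, 0, 0; 0, 6, 0, 0; 0, 0, 6, 0; 0, 0, 0, 6], !![0, 4, 5, 5; 1, 0, 3, 5; 2, 2, 6, 3; 4, 2, 6, 6]),
  (!![4, 0, 3, 0; 0, 1, 0, 6; 5, 0, 3, 0; 0, 3, 0, 6], !![3, 0, 0, 0; 0, 5, 0, 0; 0, 0, 3, 0; 0, 0, 0, 5], !![2, 0, 0, 0; 0, 4, 0, 0; 0, 0, 2, 0; 0, 0, 0, 4], !![6, 0, 5, 0; 0, 4, 0, 5; 6, 0, 2, 0; 0, 6, 0, 0]),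
  (!![0, 0, 0, 4; 0, 0, 2, 0; 0, 3, 0, 2; 5, 0, 1, 0], !![6, 0, 4, 0; 0, 6, 0, 4; 3, 0, 1, 0; 0, 3, 0, 1], !![6, 0, 0, 0; 0, 6, 0, 0; 0, 0, 6, 0; 0, 0, 0, 6], !![0, 1, 5, 3; 4, 0, 5, 5; 2, 4, 6, 6; 2, 2, 3, 6]),
  (!![6, 0, 6, 0; 0, 6, 0, 6; 2, 0, 1, 0; 0, 2, 0, 1], !![6, 0, 0, 0; 0, 6, 0, 0; 0, 0, 6, 0; 0, 0, 0, 6], !![1, 0, 0, 0; 0, 1, 0, 0; 0, 0, 1, 0; 0, 0, 0, 1], !![0, 0, 4, 0; 0, 0, 0, 4; 6, 0, 6, 0; 0, 6, 0, 6]),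
  (!![6, 0, 0, 0; 0, 6, 0, 0; 0, 0, 6, 0; 0, 0, 0, 6], !![1, 0, 0, 0; 0, 1, 0, 0; 0, 0, 1, 0; 0, 0, 0, 1], !![1, 0, 0, 0; 0, 1, 0, 0; 0, 0, 1, 0; 0, 0, 0, 1], !![3, 0, 0, 0; 0, 3, 0, 0; 0, 0, 3, 0; 0, 0, 0, 3]),
  (!![0, 3, 0, 6; 5, 0, 3, 0; 0, 4, 0, 4; 2, 0, 2, 0], !![6, 0, 0, 0; 0, 6, 0, 0; 0, 0, 6, 0; 0, 0, 0, 6], !![1, 0, 0, 0; 0, 1, 0, 0; 0, 0, 1, 0; 0, 0, 0, 1], !![3, 2, 0, 4; 1, 3, 2, 0; 0, 5, 3, 5; 6, 0, 6, 3]),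
  (!![0, 4, 0, 2; 1, 0, 4, 0; 0, 4, 0, 3; 1, 0, 6, 0], !![6, 0, 0, 0; 0, 6, 0, 0; 0, 0, 6, 0; 0, 0, 0, 6], !![1, 0, 0, 0; 0, 1, 0, 0; 0, 0, 1, 0; 0, 0, 0, 1], !![3, 5, 0, 6; 3, 3, 5, 0; 0, 5, 3, 2; 3, 0, 4, 3]),
  (!![4, 0, 5, 0; 0, 2, 0, 6; 2, 0, 3, 0; 0, 1, 0, 5], !![5, 0, 0, 0; 0, 3, 0, 0; 0, 0, 5, 0; 0, 0, 0, 3], !![4, 0, 0, 0; 0, 2, 0, 0; 0, 0, 4, 0; 0, 0, 0, 2], !![3, 0, 3, 0; 0, 5, 0, 3; 4, 0, 1, 0; 0, 4, 0, 3]),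
  (!![0, 4, 0, 1; 2, 0, 4, 0; 0, 3, 0, 3; 5, 0, 5, 0], !![6, 0, 0, 0; 0, 6, 0, 0; 0, 0, 6, 0; 0, 0, 0, 6], !![1, 0, 0, 0; 0, 1, 0, 0; 0, 0, 1, 0; 0, 0, 0, 1], !![3, 5, 0, 3; 6, 3, 5, 0; 0, 2, 3, 2; 1, 0, 1, 3]),
  (!![2, 0, 6, 0; 0, 4, 0, 5; 1, 0, 5, 0; 0, 2, 0, 3], !![3, 0, 0, 0; 0, 5, 0, 0; 0, 0, 3, 0; 0, 0, 0, 5], !![2, 0, 0, 0; 0, 4, 0, 0; 0, 0, 2, 0; 0, 0, 0, 4], !![5, 0, 3, 0; 0, 3, 0, 3; 4, 0, 3, 0; 0, 4, 0, 1]),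
  (!![0, 5, 0, 6; 5, 0, 6, 0; 0, 5, 0, 2; 5, 0, 2, 0], !![6, 0, 0, 0; 0, 6, 0, 0; 0, 0, 6, 0; 0, 0, 0, 6], !![1, 0, 0, 0; 0, 1, 0, 0; 0, 0, 1, 0; 0, 0, 0, 1], !![3, 1, 0, 4; 1, 3, 4, 0; 0, 1, 3, 6; 1, 0, 6, 3]),
  (!![0, 3, 0, 5; 6, 0, 3, 0; 0, 3, 0, 4; 6, 0, 1, 0], !![6, 0, 0, 0; 0, 6, 0, 0; 0, 0, 6, 0; 0, 0, 0, 6], !![1, 0, 0, 0; 0, 1, 0, 0; 0, 0, 1, 0; 0, 0, 0, 1], !![3, 2, 0, 1; 4, 3, 2, 0; 0, 2, 3, 5; 4, 0, 3, 3]),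
  (!![3, 0, 2, 0; 0, 5, 0, 1; 5, 0, 4, 0; 0, 6, 0, 2], !![5, 0, 0, 0; 0, 3, 0, 0; 0, 0, 5, 0; 0, 0, 0, 3], !![4, 0, 0, 0; 0, 2, 0, 0; 0, 0, 4, 0; 0, 0, 0, 2], !![1, 0, 4, 0; 0, 3, 0, 4; 3, 0, 3, 0; 0, 3, 0, 5]),
  (!![0, 6, 0, 5; 6, 0, 5, 0; 0, 1, 0, 1; 1, 0, 1, 0], !![6, 0, 0, 0; 0, 6, 0, 0; 0, 0, 6, 0; 0, 0, 0, 6], !![1, 0, 0, 0; 0, 1, 0, 0; 0, 0, 1, 0; 0, 0, 0, 1], !![3, 4, 0, 1; 4, 3, 1, 0; 0, 3, 3, 3; 3, 0, 3, 3]),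
  (!![2, 0, 0, 0; 0, 4, 0, 0; 0, 0, 2, 0; 0, 0, 0, 4], !![4, 0, 0, 0; 0, 2, 0, 0; 0, 0, 4, 0; 0, 0, 0, 2], !![2, 0, 0, 0; 0, 4, 0, 0; 0, 0, 2, 0; 0, 0, 0, 4], !![1, 0, 0, 0; 0, 5, 0, 0; 0, 0, 1, 0; 0, 0, 0, 5]),
  (!![0, 0, 0, 1; 0, 0, 1, 0; 0, 6, 0, 4; 6, 0, 4, 0], !![6, 0, 4, 0; 0, 6, 0, 4; 3, 0, 1, 0; 0, 3, 0, 1], !![6, 0, 0, 0; 0, 6, 0, 0; 0, 0, 6, 0; 0, 0, 0, 6], !![0, 2, 5, 6; 2, 0, 6, 5; 2, 1, 6, 5; 1, 2, 5, 6]),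
  (!![5, 0, 5, 0; 0, 3, 0, 3; 4, 0, 2, 0; 0, 1, 0, 4], !![3, 0, 0, 0; 0, 5, 0, 0; 0, 0, 3, 0; 0, 0, 0, 5], !![2, 0, 0, 0; 0, 4, 0, 0; 0, 0, 2, 0; 0, 0, 0, 4], !![3, 0, 6, 0; 0, 1, 0, 6; 2, 0, 5, 0; 0, 2, 0, 3]),
  (!![6, 0, 1, 0; 0, 3, 0, 4; 4, 0, 1, 0; 0, 2, 0, 4], !![5, 0, 0, 0; 0, 3, 0, 0; 0, 0, 5, 0; 0, 0, 0, 3], !![4, 0, 0, 0; 0, 2, 0, 0; 0, 0, 4, 0; 0, 0, 0, 2], !![0, 0, 2, 0; 0, 2, 0, 2; 1, 0, 4, 0; 0, 1, 0, 6]),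
  (!![0, 6, 0, 2; 5, 0, 4, 0; 0, 5, 0, 0; 3, 0, 0, 0], !![1, 0, 3, 0; 0, 1, 0, 3; 4, 0, 6, 0; 0, 4, 0, 6], !![6, 0, 0, 0; 0, 6, 0, 0; 0, 0, 6, 0; 0, 0, 0, 6], !![6, 4, 2, 5; 1, 6, 3, 2; 5, 2, 0, 3; 4, 5, 6, 0]),
  (!![0, 5, 0, 4; 6, 0, 2, 0; 0, 3, 0, 0; 5, 0, 0, 0], !![1, 0, 3, 0; 0, 1, 0, 3; 4, 0, 6, 0; 0, 4, 0, 6], !![6, 0, 0, 0; 0, 6, 0, 0; 0, 0, 6, 0; 0, 0, 0, 6], !![6, 1, 2, 3; 4, 6, 5, 2; 5, 4, 0, 6; 2, 5, 3, 0]),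
  (!![2, 0, 5, 0; 0, 2, 0, 5; 6, 0, 5, 0; 0, 6, 0, 5], !![6, 0, 0, 0; 0, 6, 0, 0; 0, 0, 6, 0; 0, 0, 0, 6], !![1, 0, 0, 0; 0, 1, 0, 0; 0, 0, 1, 0; 0, 0, 0, 1], !![2, 0, 1, 0; 0, 2, 0, 1; 4, 0, 4, 0; 0, 4, 0, 4]),
  (!![1, 0, 6, 0; 0, 4, 0, 3; 3, 0, 6, 0; 0, 5, 0, 3], !![5, 0, 0, 0; 0, 3, 0, 0; 0, 0, 5, 0; 0, 0, 0, 3], !![4, 0, 0, 0; 0, 2, 0, 0; 0, 0, 4, 0; 0, 0, 0, 2], !![4, 0, 5, 0; 0, 6, 0, 5; 6, 0, 0, 0; 0, 6, 0, 2]),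
  (!![0, 1, 0, 5; 2, 0, 3, 0; 0, 2, 0, 0; 4, 0, 0, 0], !![1, 0, 3, 0; 0, 1, 0, 3; 4, 0, 6, 0; 0, 4, 0, 6], !![6, 0, 0, 0; 0, 6, 0, 0; 0, 0, 6, 0; 0, 0, 0, 6], !![6, 3, 2, 2; 6, 6, 4, 2; 5, 5, 0, 4; 3, 5, 1, 0]),
  (!![0, 0, 0, 3; 0, 0, 5, 0; 0, 4, 0, 5; 2, 0, 6, 0], !![6, 0, 4, 0; 0, 6, 0, 4; 3, 0, 1, 0; 0, 3, 0, 1], !![6, 0, 0, 0; 0, 6, 0, 0; 0, 0, 6, 0; 0, 0, 0, 6], !![0, 6, 5, 4; 3, 0, 2, 5; 2, 3, 6, 1; 5, 2, 4, 6]),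
  (!![0, 2, 0, 3; 1, 0, 5, 0; 0, 4, 0, 0; 2, 0, 0, 0], !![1, 0, 3, 0; 0, 1, 0, 3; 4, 0, 6, 0; 0, 4, 0, 6], !![6, 0, 0, 0; 0, 6, 0, 0; 0, 0, 6, 0; 0, 0, 0, 6], !![6, 6, 2, 4; 3, 6, 2, 2; 5, 3, 0, 1; 5, 5, 4, 0]),
  (!![5, 0, 2, 0; 0, 5, 0, 2; 1, 0, 2, 0; 0, 1, 0, 2], !![6, 0, 0, 0; 0, 6, 0, 0; 0, 0, 6, 0; 0, 0, 0, 6], !![1, 0, 0, 0; 0, 1, 0, 0; 0, 0, 1, 0; 0, 0, 0, 1], !![4, 0, 6, 0; 0, 4, 0, 6; 3, 0, 2, 0; 0, 3, 0, 2]),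
  (!![0, 0, 0, 5; 0, 0, 3, 0; 0, 2, 0, 6; 4, 0, 5, 0], !![6, 0, 4, 0; 0, 6, 0, 4; 3, 0, 1, 0; 0, 3, 0, 1], !![6, 0, 0, 0; 0, 6, 0, 0; 0, 0, 6, 0; 0, 0, 0, 6], !![0, 3, 5, 2; 6, 0, 4, 5; 2, 5, 6, 4; 3, 2, 1, 6]),
  (!![1, 0, 3, 0; 0, 1, 0, 3; 4, 0, 6, 0; 0, 4, 0, 6], !![6, 0, 0, 0; 0, 6, 0, 0; 0, 0, 6, 0; 0, 0, 0, 6], !![1, 0, 0, 0; 0, 1, 0, 0; 0, 0, 1, 0; 0, 0, 0, 1], !![6, 0, 2, 0; 0, 6, 0, 2; 5, 0, 0, 0; 0, 5, 0, 0]),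
  (!![0, 6, 0, 3; 3, 0, 5, 0; 0, 6, 0, 1; 3, 0, 4, 0], !![6, 0, 0, 0; 0, 6, 0, 0; 0, 0, 6, 0; 0, 0, 0, 6], !![1, 0, 0, 0; 0, 1, 0, 0; 0, 0, 1, 0; 0, 0, 0, 1], !![3, 4, 0, 2; 2, 3, 1, 0; 0, 4, 3, 3; 2, 0, 5, 3]),
  (!![0, 5, 0, 3; 3, 0, 6, 0; 0, 2, 0, 2; 4, 0, 4, 0], !![6, 0, 0, 0; 0, 6, 0, 0; 0, 0, 6, 0; 0, 0, 0, 6], !![1, 0, 0, 0; 0, 1, 0, 0; 0, 0, 1, 0; 0, 0, 0, 1], !![3, 1, 0, 2; 2, 3, 4, 0; 0, 6, 3, 6; 5, 0, 5, 3]),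
  (!![4, 0, 0, 0; 0, 2, 0, 0; 0, 0, 4, 0; 0, 0, 0, 2], !![2, 0, 0, 0; 0, 4, 0, 0; 0, 0, 2, 0; 0, 0, 0, 4], !![4, 0, 0, 0; 0, 2, 0, 0; 0, 0, 4, 0; 0, 0, 0, 2], !![5, 0, 0, 0; 0, 1, 0, 0; 0, 0, 5, 0; 0, 0, 0, 1]),
  (!![0, 1, 0, 2; 1, 0, 2, 0; 0, 6, 0, 6; 6, 0, 6, 0], !![6, 0, 0, 0; 0, 6, 0, 0; 0, 0, 6, 0; 0, 0, 0, 6], !![1, 0, 0, 0; 0, 1, 0, 0; 0, 0, 1, 0; 0, 0, 0, 1], !![3, 3, 0, 6; 3, 3, 6, 0; 0, 4, 3, 4; 4, 0, 4, 3]),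
  (!![5, 0, 1, 0; 0, 3, 0, 2; 6, 0, 2, 0; 0, 5, 0, 4], !![3, 0, 0, 0; 0, 5, 0, 0; 0, 0, 3, 0; 0, 0, 0, 5], !![2, 0, 0, 0; 0, 4, 0, 0; 0, 0, 2, 0; 0, 0, 0, 4], !![3, 0, 4, 0; 0, 1, 0, 4; 3, 0, 5, 0; 0, 3, 0, 3]),
  (!![5, 0, 0, 0; 0, 3, 0, 0; 0, 0, 5, 0; 0, 0, 0, 3], !![4, 0, 0, 0; 0, 2, 0, 0; 0, 0, 4, 0; 0, 0, 0, 2], !![2, 0, 0, 0; 0, 4, 0, 0; 0, 0, 2, 0; 0, 0, 0, 4], !![2, 0, 0, 0; 0, 4, 0, 0; 0, 0, 2, 0; 0, 0, 0, 4]),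
  (!![0, 2, 0, 1; 2, 0, 1, 0; 0, 2, 0, 5; 2, 0, 5, 0], !![6, 0, 0, 0; 0, 6, 0, 0; 0, 0, 6, 0; 0, 0, 0, 6], !![1, 0, 0, 0; 0, 1, 0, 0; 0, 0, 1, 0; 0, 0, 0, 1], !![3, 6, 0, 3; 6, 3, 3, 0; 0, 6, 3, 1; 6, 0, 1, 3]),
  (!![0, 3, 0, 1; 3, 0, 1, 0; 0, 6, 0, 0; 6, 0, 0, 0], !![1, 0, 3, 0; 0, 1, 0, 3; 4, 0, 6, 0; 0, 4, 0, 6], !![6, 0, 0, 0; 0, 6, 0, 0; 0, 0, 6, 0; 0, 0, 0, 6], !![6, 2, 2, 6; 2, 6, 6, 2; 5, 1, 0, 5; 1, 5, 5, 0]),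
  (!![3, 0, 3, 0; 0, 5, 0, 5; 1, 0, 4, 0; 0, 4, 0, 2], !![5, 0, 0, 0; 0, 3, 0, 0; 0, 0, 5, 0; 0, 0, 0, 3], !![4, 0, 0, 0; 0, 2, 0, 0; 0, 0, 4, 0; 0, 0, 0, 2], !![1, 0, 6, 0; 0, 3, 0, 6; 2, 0, 3, 0; 0, 2, 0, 5]),
  (!![1, 0, 1, 0; 0, 1, 0, 1; 5, 0, 6, 0; 0, 5, 0, 6], !![6, 0, 0, 0; 0, 6, 0, 0; 0, 0, 6, 0; 0, 0, 0, 6], !![1, 0, 0, 0; 0, 1, 0, 0; 0, 0, 1, 0; 0, 0, 0, 1], !![6, 0, 3, 0; 0, 6, 0, 3; 1, 0, 0, 0; 0, 1, 0, 0])]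
def L : List (Mat 7) := R.map (fun r => r.1)

theorem chk : ∀ r ∈ R, r.2.1 = r.1 * r.1 ∧ r.2.2.1 = r.2.1 * r.2.1 ∧
    (r.2.2.1 * r.2.2.1 = 1 ∨ r.2.2.1 * r.2.2.1 * r.2.2.1 = 1) ∧ (r.1 = 1 ∨ r.2.2.2 * (r.1 - 1) = 1) ∧
    r.1 * a ∈ L ∧ r.1 * a' ∈ L ∧ r.1 * b ∈ L ∧ r.1 * b' ∈ L := by decide +kernel

theorem aa' : a * a' = 1 := by decide +kernel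
theorem a'a : a' * a = 1 := by decide +kernel
theorem bb' : b * b' = 1 := by decide +kernel
theorem b'b : b' * b = 1 := by decide +kernel
theorem one_mem : (1 : Mat 7) ∈ L := by decide +kernel
theorem a2_eq : a2 = a * a := by decide +kernel
theorem a4_eq : a4 = a2 * a2 := by decide +kernel
theorem a8_eq : a4 * a4 = 1 := by decide +kernel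
theorem a4_ne : a4 ≠ 1 := by decide +kernel
theorem b2_eq : b2 = b * b := by decide +kernel
theorem b4_eq : b4 = b2 * b2 := by decide +kernel

theorem exists_group : ∃ (H : Type) (_ : Group H) (_ : Fintype H), Group.IsSolvable H ∧
    Set.range (orderOf : H → ℕ) = {m | m ∣ 7 ∨ m ∣ 8 ∨ m ∣ 12} := by
  haveI : Fact (Nat.Prime 7) := ⟨by norm_num⟩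
  have hR : ∀ M ∈ L, ∃ r ∈ R, r.1 = M := by
    intro M hM
    obtain ⟨r, hr, e⟩ := List.mem_map.mp hM
    exact ⟨r, hr, e⟩
  apply main 7 12 a a' b b' L aa' a'a bb' b'b one_mem
  · intro M hM
    obtain ⟨r, hr, rfl⟩ := hR M hM
    exact (chk r hr).2.2.2.2
  · intro M hM
    obtain ⟨r, hr, rfl⟩ := hR M hM
    obtain ⟨c1, c2, c3, -⟩ := chk r hr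
    rcases c3 with c3 | c3
    · left
      rw [mpow8 _ _ _ c1 c2, c3]
    · right
      rw [mpow12 _ _ _ c1 c2, c3]
  · intro M hM
    obtain ⟨r, hr, rfl⟩ := hR M hM
    obtain ⟨-, -, -, c4, -⟩ := chk r hr
    rcases c4 with c4 | c4
    · exact Or.inl c4
    · exact Or.inr ⟨_, c4⟩
  · apply orderOf_eight
    · rw [mpow8 _ _ _ a2_eq a4_eq, a8_eq]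
    · rw [mpow4 _ _ a2_eq, ← a4_eq]
      exact a4_ne
  · apply orderOf_twelve
    · rw [mpow12 _ _ _ b2_eq b4_eq]
      decide +kernel
    · rw [mpow6 _ _ b2_eq]
      decide +kernel
    · rw [mpow4 _ _ b2_eq, ← b4_eq]
      decide +kernel
  · exact Or.inr rfl

end Cfsg.Agent.Lib.Helper27.Frob7
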