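import Cfsg.Agent.Lib.Helper27.G3POrb
import Cfsg.Agent.Lib.Helper27.PCCent
import Cfsg.Agent.Lib.Helper27.G3PLk0
import Cfsg.Agent.Lib.Helper27.G3PLk1
import Cfsg.Agent.Lib.Helper27.G3PLk2

set_option autoImplicit false
set_option maxRecDepth 100000

namespace Cfsg.Agent.Lib.Helper27.G3P

open Cfsg.Agent.Lib.Helper28 Cfsg.Agent.Lib.Helper27.PC

theorem lvl2 : Finite (Sg (val V) [36, 37, 38, 39]) ∧
    Nat.card (Sg (val V) [36, 37, 38, 39]) = 24 * Nat.card (Sg (val V) []) ∧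
    ∀ g ∈ Sg (val V) [36, 37, 38, 39], g 284 = 284 → g ∈ Sg (val V) [] :=
  level_orbit V relOK G3PLk2.Lk [36, 37, 38, 39] [] G3PLk2.ok lev2 [5, 0] lev2_ok
    (by decide +kernel) (by decide +kernel) (by decide +kernel) rfl (by rw [Sg_nil]; infer_instance)
theorem lvl1 : Finite (Sg (val V) [24, 25, 26, 27, 28, 29, 30, 31, 32, 33, 34, 35, 36, 37, 38, 39]) ∧
    Nat.card (Sg (val V) [24, 25, 26, 27, 28, 29, 30, 31, 32, 33, 34, 35, 36, 37, 38, 39]) = 243 * Nat.card (Sg (val V) [36, 37, 38, 39]) ∧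
    ∀ g ∈ Sg (val V) [24, 25, 26, 27, 28, 29, 30, 31, 32, 33, 34, 35, 36, 37, 38, 39], g 5 = 5 → g ∈ Sg (val V) [36, 37, 38, 39] :=
  level_orbit V relOK G3PLk1.Lk [24, 25, 26, 27, 28, 29, 30, 31, 32, 33, 34, 35, 36, 37, 38, 39] [36, 37, 38, 39] G3PLk1.ok lev1 [0] lev1_ok
    (by decide +kernel) (by decide +kernel) (by decide +kernel) rfl lvl2.1
theorem lvl0 : Finite (Sg (val V) [0, 1, 2, 3, 4, 5, 6, 7, 8, 9, 10, 11, 12, 13, 14, 15, 16, 17, 18, 19, 20, 21, 22, 23, 24, 25, 26, 27, 28, 29, 30, 31, 32, 33, 34, 35, 36, 37, 38, 39]) ∧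
    Nat.card (Sg (val V) [0, 1, 2, 3, 4, 5, 6, 7, 8, 9, 10, 11, 12, 13, 14, 15, 16, 17, 18, 19, 20, 21, 22, 23, 24, 25, 26, 27, 28, 29, 30, 31, 32, 33, 34, 35, 36, 37, 38, 39]) = 728 * Nat.card (Sg (val V) [24, 25, 26, 27, 28, 29, 30, 31, 32, 33, 34, 35, 36, 37, 38, 39]) ∧
    ∀ g ∈ Sg (val V) [0, 1, 2, 3, 4, 5, 6, 7, 8, 9, 10, 11, 12, 13, 14, 15, 16, 17, 18, 19, 20, 21, 22, 23, 24, 25, 26, 27, 28, 29, 30, 31, 32, 33, 34, 35, 36, 37, 38, 39], g 0 = 0 → g ∈ Sg (val V) [24, 25, 26, 27, 28, 29, 30, 31, 32, 33, 34, 35, 36, 37, 38, 39] :=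
  level_orbit V relOK G3PLk0.Lk [0, 1, 2, 3, 4, 5, 6, 7, 8, 9, 10, 11, 12, 13, 14, 15, 16, 17, 18, 19, 20, 21, 22, 23, 24, 25, 26, 27, 28, 29, 30, 31, 32, 33, 34, 35, 36, 37, 38, 39] [24, 25, 26, 27, 28, 29, 30, 31, 32, 33, 34, 35, 36, 37, 38, 39] G3PLk0.ok lev0 [] lev0_ok
    (by decide +kernel) (by decide +kernel) (by decide +kernel) rfl lvl1.1
abbrev LP : List ℕ := [0, 1, 2, 3, 4, 5, 6, 7, 8, 9, 10, 11, 12, 13, 14, 15, 16, 17, 18, 19, 20, 21, 22, 23, 24, 25, 26, 27, 28, 29, 30, 31, 32, 33, 34, 35, 36, 37, 38, 39]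
abbrev LA : List ℕ := [24, 25, 26, 27, 28, 29, 30, 31, 32, 33, 34, 35, 36, 37, 38, 39]
abbrev LB2 : List ℕ := [36, 37, 38, 39]
abbrev Ltop : List ℕ := [0, 1, 2, 3, 4, 5, 6, 7, 8, 9, 10, 11, 12, 13, 14, 15, 16, 17, 18, 19, 20, 21, 22, 23]
theorem cardP : Nat.card (Sg (val V) LP) = 4245696 := by
  rw [lvl0.2.1, lvl1.2.1, lvl2.2.1, Sg_nil, Subgroup.card_bot]
def defs0 : List (ℕ × List ℕ) := [(24, [0]), (26, [2]), (28, [4]), (30, [6]), (32, [14]), (34, [8]), (36, [32]), (38, [34])]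
/-- all letters are words in the top letters -/
theorem P_eq_top : Sg (val V) LP = Sg (val V) Ltop := by
  apply le_antisymm _ (Sg_mono _ (by decide +kernel))
  have key := defs_mem (val V) (Sg (val V) Ltop) W L.inv (relOK.eval V) defs0 Ltop
    (fun y hy => Subgroup.subset_closure ⟨y, hy, rfl⟩)
    (fun d hd => val_inv V ((by decide +kernel : ∀ d ∈ defs0, d.1 < L.K) d hd)) (by decide +kernel)
  unfold Sg
  rw [Subgroup.closure_le]
  rintro _ ⟨y, hy, rfl⟩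
  exact key y ((by decide +kernel : ∀ y ∈ LP, y ∈ defsKnown L.inv Ltop defs0) y hy)
def wx : List ℕ := [0, 2, 6, 22]
def wy : List ℕ := [38, 0, 2, 6, 22]
def w6 : List ℕ := [0, 23]
def orbX : List ℕ := [0, 5, 284, 38, 681, 198, 354]
def orbY : List ℕ := [0, 5, 284, 468, 28, 424, 419, 707, 244, 173, 222, 114, 405]
def pr0 : List (ℕ × List ℕ) := [
  (0, []),
  (1, [12]),
  (7, [13]),
  (2, [16]),
  (17, [17]),
  (3, [18]),
  (23, [19]),
  (4, [20]),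
  (28, [21]),
  (5, [22]),
  (30, [23]),
  (6, [12, 10]),
  (34, [12, 11]),
  (8, [12, 14]),
  (47, [12, 15]),
  (9, [12, 16]),
  (55, [12, 17]),
  (10, [12, 18]),
  (63, [12, 19]),
  (11, [12, 20]),
  (71, [12, 21]),
  (12, [12, 22]),
  (76, [12, 23]),
  (41, [13, 10]),
  (176, [13, 11]),
  (42, [13, 14]),
  (45, [13, 15]),
  (13, [13, 16]),
  (80, [13, 17]),
  (43, [13, 18]),
  (194, [13, 19]),
  (44, [13, 20]),
  (219, [13, 21]),
  (31, [13, 22]),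
  (72, [13, 23]),
  (14, [16, 6]),
  (84, [16, 7]),
  (15, [16, 10]),
  (91, [16, 11]),
  (16, [16, 14]),
  (99, [16, 15]),
  (18, [16, 20]),
  (110, [16, 21]),
  (19, [16, 22]),
  (115, [16, 23]),
  (102, [17, 6]),
  (177, [17, 7]),
  (103, [17, 10]),
  (225, [17, 11]),
  (104, [17, 14]),
  (98, [17, 15]),
  (105, [17, 20]),
  (403, [17, 21]),
  (73, [17, 22]),
  (353, [17, 23]),
  (20, [18, 0]),
  (24, [18, 1]),
  (21, [18, 2]),
  (122, [18, 3]),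
  (22, [18, 4]),
  (127, [18, 5]),
  (25, [18, 22]),
  (140, [18, 23]),
  (130, [19, 0]),
  (120, [19, 1]),
  (131, [19, 2]),
  (501, [19, 3]),
  (132, [19, 4]),
  (178, [19, 5]),
  (133, [19, 22]),
  (468, [19, 23]),
  (26, [20, 2]),
  (141, [20, 3]),
  (27, [20, 12]),
  (147, [20, 13]),
  (29, [20, 22]),
  (157, [20, 23]),
  (151, [21, 2]),
  (179, [21, 3]),
  (152, [21, 12]),
  (341, [21, 13]),
  (153, [21, 22]),
  (154, [21, 23]),
  (158, [22, 1]),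
  (32, [22, 4]),
  (58, [22, 5]),
  (33, [22, 6]),
  (169, [22, 7]),
  (159, [23, 4]),
  (283, [23, 5]),
  (160, [23, 6]),
  (484, [23, 7]),
  (35, [12, 10, 12]),
  (36, [12, 10, 14]),
  (183, [12, 10, 15]),
  (37, [12, 10, 16]),
  (52, [12, 10, 17]),
  (38, [12, 10, 18]),
  (196, [12, 10, 19]),
  (39, [12, 10, 20]),
  (67, [12, 10, 21]),
  (40, [12, 10, 22]),
  (206, [12, 10, 23]),
  (173, [12, 11, 14]),
  (230, [12, 11, 15]),
  (174, [12, 11, 18]),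
  (564, [12, 11, 19]),
  (66, [12, 11, 20]),
  (320, [12, 11, 21]),
  (175, [12, 11, 22]),
  (252, [12, 11, 23]),
  (46, [12, 14, 12]),
  (48, [12, 14, 16]),
  (236, [12, 14, 17]),
  (49, [12, 14, 18]),
  (240, [12, 14, 19]),
  (50, [12, 14, 20]),
  (51, [12, 14, 22]),
  (251, [12, 14, 23]),
  (90, [12, 15, 12]),
  (231, [12, 15, 16]),
  (509, [12, 15, 17]),
  (62, [12, 15, 18]),
  (305, [12, 15, 19]),
  (125, [12, 15, 21]),
  (232, [12, 15, 22]),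
  (629, [12, 15, 23]),
  (53, [12, 16, 10]),
  (258, [12, 16, 11]),
  (54, [12, 16, 14]),
  (267, [12, 16, 15]),
  (56, [12, 16, 18]),
  (277, [12, 16, 19]),
  (57, [12, 16, 20]),
  (282, [12, 16, 21]),
  (285, [12, 16, 23]),
  (270, [12, 17, 10]),
  (358, [12, 17, 11]),
  (271, [12, 17, 14]),
  (376, [12, 17, 15]),
  (272, [12, 17, 18]),
  (308, [12, 17, 19]),
  (273, [12, 17, 20]),
  (613, [12, 17, 21]),
  (161, [12, 17, 22]),
  (59, [12, 18, 0]),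
  (286, [12, 18, 1]),
  (60, [12, 18, 2]),
  (293, [12, 18, 3]),
  (61, [12, 18, 4]),
  (300, [12, 18, 5]),
  (64, [12, 18, 20]),
  (314, [12, 18, 21]),
  (65, [12, 18, 22]),
  (319, [12, 18, 23]),
  (284, [12, 19, 0]),
  (686, [12, 19, 1]),
  (114, [12, 19, 2]),
  (350, [12, 19, 3]),
  (307, [12, 19, 4]),
  (566, [12, 19, 5]),
  (170, [12, 19, 20]),
  (452, [12, 19, 21]),
  (309, [12, 19, 22]),
  (681, [12, 19, 23]),
  (323, [12, 20, 3]),
  (68, [12, 20, 4]),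
  (243, [12, 20, 5]),
  (69, [12, 20, 8]),
  (333, [12, 20, 9]),
  (70, [12, 20, 12]),
  (150, [12, 20, 23]),
  (342, [12, 21, 2]),
  (327, [12, 21, 4]),
  (244, [12, 21, 5]),
  (96, [12, 21, 8]),
  (411, [12, 21, 9]),
  (343, [12, 21, 12]),
  (149, [12, 21, 22]),
  (344, [12, 22, 1]),
  (83, [12, 22, 5]),
  (74, [12, 22, 6]),
  (354, [12, 22, 7]),
  (75, [12, 22, 10]),
  (361, [12, 22, 11]),
  (365, [12, 23, 0]),
  (112, [12, 23, 5]),
  (262, [12, 23, 6]),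
  (665, [12, 23, 7]),
  (155, [12, 23, 10]),
  (540, [12, 23, 11]),
  (207, [13, 10, 14]),
  (220, [13, 10, 15]),
  (208, [13, 10, 18]),
  (563, [13, 10, 19]),
  (209, [13, 10, 20]),
  (618, [13, 10, 21]),
  (210, [13, 10, 22]),
  (379, [13, 10, 23]),
  (565, [13, 11, 14]),
  (181, [13, 11, 15]),
  (187, [13, 11, 16]),
  (77, [13, 11, 17]),
  (215, [13, 11, 20]),
  (216, [13, 11, 21]),
  (202, [13, 11, 22]),
  (201, [13, 11, 23]),
  (92, [13, 14, 13]),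
  (211, [13, 14, 16]),
  (621, [13, 14, 17]),
  (212, [13, 14, 18]),
  (601, [13, 14, 19]),
  (502, [13, 14, 21]),
  (163, [13, 14, 22]),
  (246, [13, 14, 23]),
  (242, [13, 15, 13]),
  (108, [13, 15, 16]),
  (450, [13, 15, 17]),
  (168, [13, 15, 18]),
  (229, [13, 15, 19]),
  (221, [13, 15, 20]),
  (222, [13, 15, 22]),
  (227, [13, 15, 23]),
  (78, [13, 16, 10]),
  (369, [13, 16, 11]),
  (79, [13, 16, 14]),
  (313, [13, 16, 15]),
  (81, [13, 16, 18]),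
  (340, [13, 16, 19]),
  (82, [13, 16, 20]),
  (389, [13, 16, 21]),
  (223, [13, 17, 10]),
  (530, [13, 17, 11]),
  (380, [13, 17, 14]),
  (265, [13, 17, 15]),
  (381, [13, 17, 18]),
  (487, [13, 17, 19]),
  (382, [13, 17, 20]),
  (378, [13, 17, 21]),
  (213, [13, 18, 0]),
  (543, [13, 18, 1]),
  (101, [13, 18, 2]),
  (434, [13, 18, 3]),
  (542, [13, 18, 5]),
  (214, [13, 18, 20]),
  (166, [13, 18, 21]),
  (164, [13, 18, 22]),
  (347, [13, 18, 23]),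
  (594, [13, 19, 0]),
  (651, [13, 19, 1]),
  (469, [13, 19, 2]),
  (427, [13, 19, 3]),
  (600, [13, 19, 4]),
  (266, [13, 19, 20]),
  (553, [13, 19, 21]),
  (336, [13, 19, 22]),
  (226, [13, 19, 23]),
  (499, [13, 20, 3]),
  (217, [13, 20, 4]),
  (498, [13, 20, 5]),
  (218, [13, 20, 8]),
  (595, [13, 20, 9]),
  (482, [13, 21, 2]),
  (627, [13, 21, 4]),
  (720, [13, 21, 5]),
  (306, [13, 21, 8]),
  (415, [13, 21, 9]),
  (106, [13, 22, 6]),
  (373, [13, 22, 7]),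
  (162, [13, 22, 10]),
  (384, [13, 22, 11]),
  (345, [13, 23, 6]),
  (702, [13, 23, 7]),
  (346, [13, 23, 10]),
  (610, [13, 23, 11]),
  (85, [16, 6, 10]),
  (259, [16, 6, 11]),
  (86, [16, 6, 14]),
  (87, [16, 6, 15]),
  (88, [16, 6, 20]),
  (406, [16, 6, 21]),
  (89, [16, 6, 22]),
  (410, [16, 6, 23]),
  (391, [16, 7, 10]),
  (668, [16, 7, 11]),
  (392, [16, 7, 14]),
  (401, [16, 7, 15]),
  (614, [16, 7, 21]),
  (93, [16, 10, 14]),
  (94, [16, 10, 16]),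
  (95, [16, 10, 20]),
  (423, [16, 10, 21]),
  (425, [16, 10, 23]),
  (416, [16, 11, 15]),
  (412, [16, 11, 16]),
  (137, [16, 11, 20]),
  (513, [16, 11, 21]),
  (119, [16, 11, 22]),
  (97, [16, 14, 2]),
  (100, [16, 14, 20]),
  (430, [16, 15, 2]),
  (431, [16, 15, 20]),
  (107, [16, 20, 2]),
  (444, [16, 20, 3]),
  (109, [16, 20, 12]),
  (165, [16, 20, 13]),
  (111, [16, 20, 22]),
  (460, [16, 20, 23]),
  (454, [16, 21, 0]),
  (615, [16, 21, 1]),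
  (455, [16, 21, 2]),
  (568, [16, 21, 3]),
  (418, [16, 21, 12]),
  (612, [16, 21, 13]),
  (461, [16, 22, 1]),
  (113, [16, 22, 6]),
  (464, [16, 22, 7]),
  (471, [16, 23, 0]),
  (472, [16, 23, 6]),
  (723, [16, 23, 7]),
  (435, [17, 6, 10]),
  (529, [17, 6, 11]),
  (436, [17, 6, 14]),
  (428, [17, 6, 15]),
  (437, [17, 6, 20]),
  (182, [17, 7, 10]),
  (574, [17, 7, 11]),
  (567, [17, 7, 14]),
  (128, [17, 7, 15]),
  (569, [17, 7, 22]),
  (597, [17, 7, 23]),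
  (429, [17, 10, 15]),
  (459, [17, 10, 17]),
  (421, [17, 10, 20]),
  (470, [17, 10, 21]),
  (438, [17, 10, 22]),
  (352, [17, 11, 14]),
  (171, [17, 11, 17]),
  (420, [17, 11, 20]),
  (351, [17, 11, 21]),
  (335, [17, 11, 23]),
  (297, [17, 14, 3]),
  (349, [17, 14, 21]),
  (126, [17, 15, 3]),
  (480, [17, 15, 21]),
  (439, [17, 20, 0]),
  (632, [17, 20, 1]),
  (722, [17, 20, 3]),
  (440, [17, 20, 12]),
  (463, [17, 20, 13]),
  (721, [17, 21, 2]),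
  (552, [17, 21, 12]),
  (544, [17, 21, 13]),
  (377, [17, 21, 22]),
  (596, [17, 21, 23]),
  (691, [17, 22, 1]),
  (348, [17, 22, 6]),
  (640, [17, 22, 7]),
  (695, [17, 23, 0]),
  (714, [17, 23, 6]),
  (598, [17, 23, 7]),
  (116, [18, 0, 2]),
  (117, [18, 0, 4]),
  (118, [18, 0, 12]),
  (433, [18, 0, 13]),
  (121, [18, 0, 22]),
  (324, [18, 1, 3]),
  (134, [18, 1, 4]),
  (135, [18, 1, 12]),
  (281, [18, 1, 13]),
  (172, [18, 1, 23]),
  (123, [18, 2, 4]),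
  (124, [18, 2, 18]),
  (332, [18, 3, 4]),
  (485, [18, 3, 18]),
  (129, [18, 4, 22]),
  (497, [18, 4, 23]),
  (136, [18, 22, 0]),
  (510, [18, 22, 1]),
  (138, [18, 22, 4]),
  (514, [18, 22, 5]),
  (139, [18, 22, 6]),
  (519, [18, 23, 0]),
  (520, [18, 23, 4]),
  (646, [18, 23, 5]),
  (625, [19, 0, 3]),
  (143, [19, 0, 5]),
  (500, [19, 0, 12]),
  (312, [19, 0, 13]),
  (481, [19, 1, 2]),
  (523, [19, 1, 5]),
  (269, [19, 1, 12]),
  (451, [19, 1, 13]),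
  (570, [19, 2, 5]),
  (299, [19, 2, 19]),
  (624, [19, 3, 5]),
  (167, [19, 3, 19]),
  (526, [19, 5, 22]),
  (642, [19, 5, 23]),
  (558, [19, 22, 1]),
  (503, [19, 22, 4]),
  (606, [19, 22, 5]),
  (650, [19, 23, 0]),
  (546, [19, 23, 4]),
  (453, [19, 23, 5]),
  (142, [20, 2, 12]),
  (146, [20, 2, 13]),
  (144, [20, 2, 22]),
  (326, [20, 2, 23]),
  (145, [20, 12, 6]),
  (148, [20, 12, 14]),
  (224, [20, 13, 6]),
  (414, [20, 13, 15]),
  (539, [20, 22, 3]),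
  (156, [20, 22, 4]),
  (657, [20, 23, 3]),
  (694, [20, 23, 5]),
  (393, [21, 3, 12]),
  (364, [21, 3, 13]),
  (200, [21, 3, 22]),
  (362, [21, 3, 23]),
  (253, [21, 12, 7]),
  (278, [21, 12, 15]),
  (370, [21, 13, 7]),
  (489, [21, 13, 14]),
  (536, [21, 22, 2]),
  (604, [21, 22, 5]),
  (537, [21, 23, 2]),
  (538, [21, 23, 4]),
  (180, [12, 10, 12, 22]),
  (571, [12, 10, 12, 23]),
  (184, [12, 10, 14, 16]),
  (578, [12, 10, 14, 17]),
  (185, [12, 10, 14, 18]),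
  (554, [12, 10, 14, 19]),
  (186, [12, 10, 14, 22]),
  (477, [12, 10, 14, 23]),
  (417, [12, 10, 15, 16]),
  (233, [12, 10, 15, 17]),
  (195, [12, 10, 15, 18]),
  (263, [12, 10, 15, 19]),
  (576, [12, 10, 15, 22]),
  (261, [12, 10, 15, 23]),
  (188, [12, 10, 16, 14]),
  (318, [12, 10, 16, 15]),
  (189, [12, 10, 16, 18]),
  (250, [12, 10, 16, 19]),
  (190, [12, 10, 16, 20]),
  (279, [12, 10, 16, 21]),
  (191, [12, 10, 16, 22]),
  (486, [12, 10, 16, 23]),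
  (254, [12, 10, 17, 14]),
  (363, [12, 10, 17, 15]),
  (255, [12, 10, 17, 18]),
  (383, [12, 10, 17, 19]),
  (256, [12, 10, 17, 20]),
  (589, [12, 10, 17, 21]),
  (257, [12, 10, 17, 22]),
  (588, [12, 10, 17, 23]),
  (192, [12, 10, 18, 0]),
  (241, [12, 10, 18, 1]),
  (193, [12, 10, 18, 2]),
  (458, [12, 10, 18, 3]),
  (197, [12, 10, 18, 20]),
  (328, [12, 10, 18, 21]),
  (198, [12, 10, 18, 22]),
  (234, [12, 10, 18, 23]),
  (432, [12, 10, 19, 2]),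
  (685, [12, 10, 19, 3]),
  (555, [12, 10, 19, 20]),
  (698, [12, 10, 19, 21]),
  (492, [12, 10, 19, 22]),
  (260, [12, 10, 19, 23]),
  (199, [12, 10, 20, 8]),
  (608, [12, 10, 20, 9]),
  (325, [12, 10, 21, 8]),
  (494, [12, 10, 21, 9]),
  (203, [12, 10, 22, 4]),
  (204, [12, 10, 22, 6]),
  (205, [12, 10, 22, 10]),
  (408, [12, 10, 23, 4]),
  (556, [12, 10, 23, 7]),
  (338, [12, 10, 23, 10]),
  (356, [12, 11, 14, 16]),
  (560, [12, 11, 14, 17]),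
  (561, [12, 11, 14, 22]),
  (663, [12, 11, 14, 23]),
  (291, [12, 11, 15, 16]),
  (673, [12, 11, 15, 17]),
  (638, [12, 11, 15, 22]),
  (680, [12, 11, 15, 23]),
  (562, [12, 11, 18, 2]),
  (664, [12, 11, 18, 3]),
  (727, [12, 11, 18, 5]),
  (322, [12, 11, 18, 20]),
  (237, [12, 11, 18, 21]),
  (321, [12, 11, 20, 8]),
  (317, [12, 11, 20, 9]),
  (669, [12, 11, 21, 8]),
  (493, [12, 11, 21, 9]),
  (385, [12, 14, 12, 17]),
  (228, [12, 14, 12, 20]),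
  (447, [12, 14, 16, 1]),
  (641, [12, 14, 16, 11]),
  (235, [12, 14, 16, 14]),
  (644, [12, 14, 17, 0]),
  (419, [12, 14, 17, 1]),
  (474, [12, 14, 17, 11]),
  (268, [12, 14, 17, 18]),
  (473, [12, 14, 18, 1]),
  (238, [12, 14, 18, 2]),
  (479, [12, 14, 18, 3]),
  (239, [12, 14, 18, 4]),
  (648, [12, 14, 18, 5]),
  (465, [12, 14, 19, 2]),
  (248, [12, 14, 19, 3]),
  (247, [12, 14, 19, 5]),
  (298, [12, 14, 19, 8]),
  (245, [12, 14, 20, 12]),
  (654, [12, 14, 22, 1]),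
  (388, [12, 14, 22, 3]),
  (387, [12, 14, 22, 5]),
  (249, [12, 14, 22, 6]),
  (659, [12, 14, 22, 7]),
  (527, [12, 14, 22, 11]),
  (661, [12, 14, 23, 0]),
  (505, [12, 14, 23, 2]),
  (652, [12, 14, 23, 3]),
  (512, [12, 14, 23, 4]),
  (626, [12, 14, 23, 5]),
  (662, [12, 14, 23, 6]),
  (630, [12, 14, 23, 11]),
  (409, [12, 15, 16, 0]),
  (372, [12, 15, 16, 1]),
  (705, [12, 15, 16, 11]),
  (405, [12, 15, 17, 0]),
  (607, [12, 15, 17, 11]),
  (288, [12, 15, 18, 0]),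
  (295, [12, 15, 18, 2]),
  (609, [12, 15, 18, 3]),
  (301, [12, 15, 18, 4]),
  (692, [12, 15, 18, 5]),
  (703, [12, 15, 19, 2]),
  (656, [12, 15, 19, 3]),
  (518, [12, 15, 19, 5]),
  (337, [12, 15, 19, 9]),
  (490, [12, 15, 21, 12]),
  (634, [12, 15, 22, 1]),
  (290, [12, 15, 22, 2]),
  (397, [12, 15, 22, 3]),
  (639, [12, 15, 22, 4]),
  (643, [12, 15, 22, 5]),
  (330, [12, 15, 22, 7]),
  (577, [12, 15, 22, 11]),
  (687, [12, 15, 23, 0]),
  (368, [12, 15, 23, 5]),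
  (545, [12, 15, 23, 6]),
  (551, [12, 15, 23, 11]),
  (671, [12, 16, 10, 15]),
  (623, [12, 16, 10, 23]),
  (718, [12, 16, 11, 15]),
  (592, [12, 16, 11, 16]),
  (386, [12, 16, 11, 20]),
  (660, [12, 16, 11, 23]),
  (264, [12, 16, 14, 2]),
  (334, [12, 16, 14, 3]),
  (679, [12, 16, 15, 2]),
  (395, [12, 16, 15, 3]),
  (274, [12, 16, 18, 0]),
  (620, [12, 16, 18, 1]),
  (275, [12, 16, 18, 4]),
  (683, [12, 16, 18, 5]),
  (276, [12, 16, 18, 6]),
  (593, [12, 16, 18, 7]),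
  (396, [12, 16, 19, 0]),
  (367, [12, 16, 19, 5]),
  (374, [12, 16, 20, 1]),
  (280, [12, 16, 20, 4]),
  (690, [12, 16, 20, 5]),
  (603, [12, 16, 23, 7]),
  (289, [12, 16, 23, 11]),
  (532, [12, 17, 11, 14]),
  (357, [12, 17, 11, 17]),
  (699, [12, 17, 11, 21]),
  (457, [12, 17, 11, 22]),
  (449, [12, 17, 14, 2]),
  (697, [12, 17, 14, 3]),
  (315, [12, 17, 15, 2]),
  (491, [12, 17, 15, 3]),
  (682, [12, 17, 18, 0]),
  (647, [12, 17, 18, 1]),
  (302, [12, 17, 18, 4]),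
  (645, [12, 17, 18, 5]),
  (653, [12, 17, 18, 6]),
  (587, [12, 17, 18, 7]),
  (446, [12, 17, 19, 1]),
  (583, [12, 17, 19, 5]),
  (717, [12, 17, 21, 0]),
  (591, [12, 17, 21, 4]),
  (549, [12, 17, 21, 5]),
  (441, [12, 17, 22, 6]),
  (693, [12, 17, 22, 11]),
  (287, [12, 18, 0, 2]),
  (292, [12, 18, 0, 22]),
  (329, [12, 18, 1, 3]),
  (359, [12, 18, 1, 23]),
  (294, [12, 18, 2, 4]),
  (296, [12, 18, 2, 10]),
  (398, [12, 18, 3, 4]),
  (535, [12, 18, 3, 10]),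
  (303, [12, 18, 4, 20]),
  (442, [12, 18, 4, 21]),
  (304, [12, 18, 4, 22]),
  (516, [12, 18, 4, 23]),
  (310, [12, 18, 20, 2]),
  (311, [12, 18, 20, 4]),
  (706, [12, 18, 20, 5]),
  (456, [12, 18, 21, 3]),
  (635, [12, 18, 21, 4]),
  (476, [12, 18, 21, 5]),
  (674, [12, 18, 22, 1]),
  (316, [12, 18, 22, 4]),
  (407, [12, 18, 23, 0]),
  (426, [12, 18, 23, 4]),
  (462, [12, 19, 0, 2]),
  (467, [12, 19, 0, 12]),
  (508, [12, 19, 0, 16]),
  (331, [12, 19, 0, 19]),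
  (390, [12, 19, 1, 3]),
  (602, [12, 19, 1, 12]),
  (478, [12, 19, 1, 17]),
  (667, [12, 19, 1, 19]),
  (511, [12, 19, 5, 20]),
  (515, [12, 19, 5, 21]),
  (400, [12, 19, 5, 22]),
  (611, [12, 19, 5, 23]),
  (355, [12, 19, 20, 3]),
  (547, [12, 19, 21, 2]),
  (704, [12, 19, 22, 4]),
  (599, [12, 19, 22, 5]),
  (507, [12, 19, 22, 11]),
  (548, [12, 19, 23, 4]),
  (402, [12, 19, 23, 5]),
  (709, [12, 19, 23, 11]),
  (676, [12, 20, 3, 9]),
  (710, [12, 20, 3, 12]),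
  (579, [12, 20, 4, 23]),
  (371, [12, 20, 5, 8]),
  (658, [12, 20, 5, 9]),
  (366, [12, 20, 8, 11]),
  (713, [12, 20, 12, 1]),
  (684, [12, 20, 12, 7]),
  (339, [12, 20, 12, 10]),
  (534, [12, 20, 23, 0]),
  (525, [12, 20, 23, 3]),
  (666, [12, 20, 23, 7]),
  (424, [12, 21, 2, 8]),
  (531, [12, 21, 4, 22]),
  (413, [12, 21, 5, 8]),
  (677, [12, 21, 5, 9]),
  (649, [12, 21, 9, 11]),
  (590, [12, 21, 12, 6]),
  (533, [12, 21, 12, 10]),
  (528, [12, 21, 22, 6]),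
  (404, [12, 22, 7, 13]),
  (360, [12, 22, 10, 8]),
  (445, [12, 23, 6, 13]),
  (448, [12, 23, 10, 9]),
  (616, [13, 10, 14, 16]),
  (617, [13, 10, 14, 17]),
  (696, [13, 10, 14, 23]),
  (541, [13, 10, 15, 16]),
  (637, [13, 10, 15, 17]),
  (628, [13, 10, 15, 22]),
  (585, [13, 10, 19, 0]),
  (517, [13, 10, 19, 1]),
  (707, [13, 10, 19, 2]),
  (724, [13, 10, 19, 3]),
  (678, [13, 10, 19, 20]),
  (488, [13, 10, 19, 21]),
  (619, [13, 10, 20, 8]),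
  (712, [13, 10, 20, 9]),
  (633, [13, 10, 21, 8]),
  (708, [13, 10, 21, 9]),
  (701, [13, 11, 14, 16]),
  (581, [13, 11, 14, 23]),
  (557, [13, 11, 15, 17]),
  (573, [13, 11, 15, 22]),
  (582, [13, 11, 16, 14]),
  (584, [13, 11, 16, 20]),
  (399, [13, 11, 17, 15]),
  (443, [13, 11, 17, 21]),
  (670, [13, 11, 20, 9]),
  (575, [13, 11, 21, 8]),
  (715, [13, 14, 16, 1]),
  (655, [13, 14, 17, 10]),
  (622, [13, 14, 18, 2]),
  (719, [13, 14, 19, 4]),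
  (483, [13, 14, 23, 2]),
  (522, [13, 14, 23, 7]),
  (422, [13, 15, 16, 10]),
  (725, [13, 15, 17, 0]),
  (689, [13, 15, 18, 3]),
  (636, [13, 15, 19, 4]),
  (559, [13, 15, 22, 3]),
  (631, [13, 15, 22, 6]),
  (375, [13, 16, 14, 2]),
  (716, [13, 16, 19, 1]),
  (672, [13, 16, 19, 4]),
  (711, [13, 17, 15, 3]),
  (580, [13, 17, 19, 0]),
  (726, [13, 17, 19, 4]),
  (475, [13, 18, 0, 17]),
  (605, [13, 18, 0, 18]),
  (504, [13, 18, 1, 16]),
  (700, [13, 18, 1, 18]),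
  (550, [13, 18, 22, 4]),
  (495, [13, 18, 23, 4]),
  (524, [13, 19, 20, 4]),
  (496, [13, 19, 21, 4]),
  (675, [13, 19, 22, 5]),
  (521, [13, 19, 23, 5]),
  (586, [13, 20, 4, 8]),
  (688, [13, 21, 4, 9]),
  (394, [16, 6, 10, 16]),
  (572, [16, 6, 11, 16]),
  (466, [16, 22, 6, 16]),
  (506, [16, 23, 6, 16])]
noncomputable def S0 (c : ℕ) : Bool := Nat.blt c 728 && Nat.blt 0 (lev0.flag c)
theorem S0_lt : ∀ c, S0 c = true → c < L.n := by
  intro c h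
  unfold S0 at h
  rw [Bool.and_eq_true] at h
  exact lt_of_blt h.1
theorem S0_cl : allBelow (fun c => (!S0 c) || allList (fun y => S0 (L.actN y c)) LP) L.n = true := by decide +kernel
theorem pts0_eq : (pr0.map Prod.snd).map (fun u => L.traceN u 0) = pr0.map Prod.fst := by decide +kernel
theorem S0_cov : allBelow (fun c => (!S0 c) || (pr0.map Prod.fst).contains c) L.n = true := by decide +kernel
theorem enum0 : ∀ g ∈ Sg (val V) LP, ∃ p ∈ pr0, ∃ h ∈ Sg (val V) LA, g = LB.elt V p.2 * h := by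
  intro g hg
  obtain ⟨u, hu, h, hh, e⟩ := enum_level V LP LA 0 (by decide +kernel) (by decide +kernel) lvl0.2.2 S0 (by decide +kernel)
    (cl_of_check S0 LP S0_cl) (pr0.map Prod.snd) (by decide +kernel)
    (cover_of_check S0 0 (pr0.map Prod.snd) (pr0.map Prod.fst) pts0_eq S0_cov S0_lt) g hg
  obtain ⟨p, hp, rfl⟩ := List.mem_map.mp hu
  exact ⟨p, hp, h, hh, e⟩
theorem k0 : ∀ p ∈ pr0, (∀ y ∈ p.2, y < L.K) ∧ L.traceN p.2 0 = p.1 := by decide +kernel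
def pr1 : List (ℕ × List ℕ) := [
  (5, []),
  (30, [24]),
  (158, [25]),
  (31, [26]),
  (12, [27]),
  (32, [28]),
  (58, [29]),
  (33, [30]),
  (169, [31]),
  (76, [24, 26]),
  (72, [24, 27]),
  (159, [24, 28]),
  (283, [24, 29]),
  (160, [24, 30]),
  (484, [24, 31]),
  (365, [25, 26]),
  (344, [25, 27]),
  (208, [25, 28]),
  (564, [25, 29]),
  (444, [25, 30]),
  (721, [25, 31]),
  (161, [26, 28]),
  (19, [26, 29]),
  (106, [26, 30]),
  (373, [26, 31]),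
  (163, [26, 32]),
  (222, [26, 33]),
  (73, [27, 28]),
  (83, [27, 29]),
  (74, [27, 30]),
  (354, [27, 31]),
  (51, [27, 32]),
  (232, [27, 33]),
  (165, [28, 30]),
  (166, [28, 31]),
  (170, [29, 30]),
  (552, [29, 31]),
  (115, [24, 26, 28]),
  (112, [24, 26, 29]),
  (262, [24, 26, 30]),
  (665, [24, 26, 31]),
  (251, [24, 26, 32]),
  (629, [24, 26, 33]),
  (285, [24, 27, 28]),
  (353, [24, 27, 29]),
  (345, [24, 27, 30]),
  (702, [24, 27, 31]),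
  (246, [24, 27, 32]),
  (227, [24, 27, 33]),
  (214, [24, 28, 30]),
  (544, [24, 28, 31]),
  (109, [24, 29, 30]),
  (452, [24, 29, 31]),
  (471, [25, 26, 28]),
  (461, [25, 26, 29]),
  (18, [25, 26, 30]),
  (88, [25, 26, 31]),
  (661, [25, 26, 32]),
  (687, [25, 26, 33]),
  (691, [25, 27, 28]),
  (695, [25, 27, 29]),
  (107, [25, 27, 30]),
  (403, [25, 27, 31]),
  (654, [25, 27, 32]),
  (634, [25, 27, 33]),
  (541, [25, 28, 30]),
  (617, [25, 28, 31]),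
  (356, [25, 29, 30]),
  (673, [25, 29, 31]),
  (441, [26, 28, 30]),
  (551, [26, 28, 31]),
  (57, [26, 28, 32]),
  (269, [26, 28, 33]),
  (113, [26, 29, 30]),
  (464, [26, 29, 31]),
  (101, [26, 29, 32]),
  (95, [26, 29, 33]),
  (432, [26, 30, 32]),
  (631, [26, 30, 33]),
  (690, [26, 31, 32]),
  (422, [26, 31, 33]),
  (549, [26, 32, 26]),
  (263, [26, 32, 27]),
  (256, [26, 32, 28]),
  (622, [26, 32, 29]),
  (153, [26, 32, 35]),
  (448, [26, 33, 26]),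
  (559, [26, 33, 27]),
  (630, [26, 33, 28]),
  (396, [26, 33, 29]),
  (29, [26, 33, 34]),
  (348, [27, 28, 30]),
  (640, [27, 28, 31]),
  (350, [27, 28, 32]),
  (351, [27, 28, 33]),
  (355, [27, 29, 30]),
  (405, [27, 29, 31]),
  (378, [27, 29, 32]),
  (281, [27, 29, 33]),
  (249, [27, 30, 32]),
  (607, [27, 30, 33]),
  (659, [27, 31, 32]),
  (330, [27, 31, 33]),
  (247, [27, 32, 26]),
  (388, [27, 32, 27]),
  (248, [27, 32, 28]),
  (387, [27, 32, 29]),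
  (290, [27, 33, 26]),
  (397, [27, 33, 27]),
  (639, [27, 33, 28]),
  (643, [27, 33, 29]),
  (472, [24, 26, 28, 30]),
  (723, [24, 26, 28, 31]),
  (137, [24, 26, 28, 32]),
  (114, [24, 26, 28, 33]),
  (447, [24, 26, 29, 30]),
  (547, [24, 26, 29, 31]),
  (433, [24, 26, 29, 32]),
  (82, [24, 26, 29, 33]),
  (662, [24, 26, 30, 32]),
  (545, [24, 26, 30, 33]),
  (641, [24, 26, 31, 32]),
  (505, [24, 26, 32, 26]),
  (652, [24, 26, 32, 27]),
  (512, [24, 26, 32, 28]),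
  (626, [24, 26, 32, 29]),
  (157, [24, 26, 32, 35]),
  (518, [24, 26, 33, 27]),
  (703, [24, 26, 33, 28]),
  (368, [24, 26, 33, 29]),
  (154, [24, 26, 33, 34]),
  (527, [24, 27, 28, 30]),
  (603, [24, 27, 28, 31]),
  (500, [24, 27, 28, 32]),
  (613, [24, 27, 28, 33]),
  (714, [24, 27, 29, 30]),
  (598, [24, 27, 29, 31]),
  (470, [24, 27, 29, 32]),
  (434, [24, 27, 29, 33]),
  (655, [24, 27, 30, 32]),
  (522, [24, 27, 31, 32]),
  (685, [24, 27, 31, 33]),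
  (483, [24, 27, 32, 26]),
  (360, [24, 27, 32, 27]),
  (577, [24, 27, 32, 28]),
  (446, [24, 27, 32, 29]),
  (554, [24, 27, 33, 26]),
  (279, [24, 27, 33, 28]),
  (689, [24, 27, 33, 29]),
  (108, [25, 26, 28, 30]),
  (404, [25, 26, 28, 31]),
  (374, [25, 26, 28, 32]),
  (462, [25, 26, 28, 33]),
  (48, [25, 26, 29, 30]),
  (233, [25, 26, 29, 31]),
  (693, [25, 26, 29, 32]),
  (386, [25, 26, 29, 33]),
  (100, [25, 26, 30, 32]),
  (431, [25, 26, 30, 33]),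
  (646, [25, 26, 32, 27]),
  (81, [25, 26, 32, 28]),
  (383, [25, 26, 32, 29]),
  (542, [25, 26, 32, 35]),
  (503, [25, 26, 33, 27]),
  (367, [25, 26, 33, 28]),
  (277, [25, 26, 33, 29]),
  (307, [25, 26, 33, 34]),
  (445, [25, 27, 28, 30]),
  (621, [25, 27, 28, 31]),
  (390, [25, 27, 28, 32]),
  (717, [25, 27, 28, 33]),
  (184, [25, 27, 29, 30]),
  (509, [25, 27, 29, 31]),
  (699, [25, 27, 29, 32]),
  (289, [25, 27, 29, 33]),
  (349, [25, 27, 31, 32]),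
  (480, [25, 27, 31, 33]),
  (546, [25, 27, 32, 26]),
  (583, [25, 27, 32, 28]),
  (308, [25, 27, 32, 29]),
  (514, [25, 27, 33, 26]),
  (381, [25, 27, 33, 28]),
  (250, [25, 27, 33, 29]),
  (234, [26, 28, 30, 33]),
  (540, [26, 28, 31, 32]),
  (510, [26, 28, 32, 27]),
  (280, [26, 28, 32, 28]),
  (139, [26, 28, 32, 35]),
  (686, [26, 28, 33, 27]),
  (537, [26, 28, 33, 28]),
  (121, [26, 28, 33, 34]),
  (43, [26, 29, 32, 27]),
  (25, [26, 29, 32, 35]),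
  (468, [26, 29, 33, 27]),
  (133, [26, 29, 33, 34]),
  (196, [26, 30, 32, 27]),
  (516, [26, 30, 32, 34]),
  (138, [26, 30, 32, 35]),
  (538, [26, 30, 33, 27]),
  (555, [26, 30, 33, 34]),
  (656, [26, 30, 33, 35]),
  (657, [26, 31, 32, 34]),
  (346, [26, 31, 33, 35]),
  (591, [26, 32, 26, 29]),
  (536, [26, 32, 26, 35]),
  (519, [26, 32, 27, 28]),
  (212, [26, 32, 27, 29]),
  (610, [26, 32, 27, 35]),
  (213, [26, 32, 28, 35]),
  (604, [26, 32, 29, 35]),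
  (298, [26, 33, 26, 28]),
  (155, [26, 33, 26, 34]),
  (698, [26, 33, 27, 28]),
  (172, [26, 33, 27, 29]),
  (539, [26, 33, 27, 34]),
  (156, [26, 33, 28, 34]),
  (284, [26, 33, 29, 34]),
  (63, [27, 28, 32, 26]),
  (140, [27, 28, 33, 26]),
  (558, [27, 29, 32, 26]),
  (543, [27, 29, 33, 26]),
  (566, [27, 31, 32, 26]),
  (606, [27, 31, 32, 35]),
  (694, [27, 31, 33, 26]),
  (515, [27, 31, 33, 34]),
  (240, [27, 32, 26, 28]),
  (650, [27, 32, 26, 29]),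
  (465, [27, 32, 27, 28]),
  (136, [27, 33, 26, 28]),
  (511, [27, 33, 26, 29]),
  (235, [27, 33, 27, 29]),
  (304, [24, 26, 28, 32, 28]),
  (162, [24, 26, 28, 33, 28]),
  (453, [24, 26, 30, 33, 34]),
  (198, [24, 26, 30, 33, 35]),
  (361, [24, 26, 31, 32, 34]),
  (268, [24, 26, 32, 26, 29]),
  (384, [24, 26, 32, 26, 35]),
  (305, [24, 26, 33, 27, 28]),
  (75, [24, 26, 33, 27, 34]),
  (520, [24, 27, 31, 33, 34]),
  (337, [24, 27, 32, 27, 28]),
  (168, [24, 27, 33, 26, 29])]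
noncomputable def S1 (c : ℕ) : Bool := Nat.blt c 728 && Nat.blt 0 (lev1.flag c)
theorem S1_lt : ∀ c, S1 c = true → c < L.n := by
  intro c h
  unfold S1 at h
  rw [Bool.and_eq_true] at h
  exact lt_of_blt h.1
theorem S1_cl : allBelow (fun c => (!S1 c) || allList (fun y => S1 (L.actN y c)) LA) L.n = true := by decide +kernel
theorem pts1_eq : (pr1.map Prod.snd).map (fun u => L.traceN u 5) = pr1.map Prod.fst := by decide +kernel
theorem S1_cov : allBelow (fun c => (!S1 c) || (pr1.map Prod.fst).contains c) L.n = true := by decide +kernel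
theorem enum1 : ∀ g ∈ Sg (val V) LA, ∃ p ∈ pr1, ∃ h ∈ Sg (val V) LB2, g = LB.elt V p.2 * h := by
  intro g hg
  obtain ⟨u, hu, h, hh, e⟩ := enum_level V LA LB2 5 (by decide +kernel) (by decide +kernel) lvl1.2.2 S1 (by decide +kernel)
    (cl_of_check S1 LA S1_cl) (pr1.map Prod.snd) (by decide +kernel)
    (cover_of_check S1 5 (pr1.map Prod.snd) (pr1.map Prod.fst) pts1_eq S1_cov S1_lt) g hg
  obtain ⟨p, hp, rfl⟩ := List.mem_map.mp hu
  exact ⟨p, hp, h, hh, e⟩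
theorem k1 : ∀ p ∈ pr1, (∀ y ∈ p.2, y < L.K) ∧ L.traceN p.2 5 = p.1 := by decide +kernel
def pr2 : List (ℕ × List ℕ) := [
  (284, []),
  (555, [36]),
  (606, [37]),
  (387, [38]),
  (396, [39]),
  (656, [36, 38]),
  (631, [36, 39]),
  (659, [37, 38]),
  (234, [37, 39]),
  (516, [38, 36]),
  (405, [38, 37]),
  (113, [39, 36]),
  (280, [39, 37]),
  (639, [36, 38, 36]),
  (640, [36, 38, 37]),
  (106, [36, 39, 36]),
  (432, [36, 39, 37]),
  (330, [37, 38, 36]),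
  (354, [37, 38, 37]),
  (441, [37, 39, 36]),
  (256, [37, 39, 37]),
  (138, [38, 36, 38]),
  (515, [39, 37, 39]),
  (213, [36, 38, 36, 38])]
noncomputable def S2 (c : ℕ) : Bool := Nat.blt c 728 && Nat.blt 0 (lev2.flag c)
theorem S2_lt : ∀ c, S2 c = true → c < L.n := by
  intro c h
  unfold S2 at h
  rw [Bool.and_eq_true] at h
  exact lt_of_blt h.1
theorem S2_cl : allBelow (fun c => (!S2 c) || allList (fun y => S2 (L.actN y c)) LB2) L.n = true := by decide +kernel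
theorem pts2_eq : (pr2.map Prod.snd).map (fun u => L.traceN u 284) = pr2.map Prod.fst := by decide +kernel
theorem S2_cov : allBelow (fun c => (!S2 c) || (pr2.map Prod.fst).contains c) L.n = true := by decide +kernel
theorem enum2 : ∀ g ∈ Sg (val V) LB2, ∃ p ∈ pr2, ∃ h ∈ Sg (val V) [], g = LB.elt V p.2 * h := by
  intro g hg
  obtain ⟨u, hu, h, hh, e⟩ := enum_level V LB2 [] 284 (by decide +kernel) (by decide +kernel) lvl2.2.2 S2 (by decide +kernel)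
    (cl_of_check S2 LB2 S2_cl) (pr2.map Prod.snd) (by decide +kernel)
    (cover_of_check S2 284 (pr2.map Prod.snd) (pr2.map Prod.fst) pts2_eq S2_cov S2_lt) g hg
  obtain ⟨p, hp, rfl⟩ := List.mem_map.mp hu
  exact ⟨p, hp, h, hh, e⟩
theorem k2 : ∀ p ∈ pr2, (∀ y ∈ p.2, y < L.K) ∧ L.traceN p.2 284 = p.1 := by decide +kernel
theorem f1 : ∀ g ∈ Sg (val V) LA, g 0 = 0 := Sg_fix V LA 0 (by decide) (by decide +kernel)
theorem f2 : ∀ g ∈ Sg (val V) LB2, g 5 = 5 := Sg_fix V LB2 5 (by decide) (by decide +kernel)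
theorem wx_K : ∀ y ∈ wx, y < L.K := by decide +kernel
theorem wy_K : ∀ y ∈ wy, y < L.K := by decide +kernel
theorem w6_K : ∀ y ∈ w6, y < L.K := by decide +kernel
theorem centX : ∀ g ∈ Sg (val V) LP, g * LB.elt V wx = LB.elt V wx * g → g 0 ∈ orbX :=
  cent_image V LP LA LB2 0 5 284 pr0 pr1 pr2 enum0 enum1 enum2 f1 f2 k0 k1 k2 wx wx_K
    (by decide +kernel) (by decide +kernel) orbX (by decide +kernel)
theorem centY : ∀ g ∈ Sg (val V) LP, g * LB.elt V wy = LB.elt V wy * g → g 0 ∈ orbY :=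
  cent_image V LP LA LB2 0 5 284 pr0 pr1 pr2 enum0 enum1 enum2 f1 f2 k0 k1 k2 wy wy_K
    (by decide +kernel) (by decide +kernel) orbY (by decide +kernel)
theorem fixX : ∀ g ∈ Sg (val V) LP, g * LB.elt V wx = LB.elt V wx * g → g 0 = 0 → g = 1 :=
  cent_fix V LP LA LB2 0 5 284 lvl0.2.2 lvl1.2.2 lvl2.2.2 wx wx_K (by decide +kernel) (by decide +kernel)
theorem fixY : ∀ g ∈ Sg (val V) LP, g * LB.elt V wy = LB.elt V wy * g → g 0 = 0 → g = 1 :=
  cent_fix V LP LA LB2 0 5 284 lvl0.2.2 lvl1.2.2 lvl2.2.2 wy wy_K (by decide +kernel) (by decide +kernel)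
/-- an element fixing the base is trivial -/
theorem eq_one_of_base : ∀ g ∈ Sg (val V) LP, g 0 = 0 → g 5 = 5 → g 284 = 284 → g = 1 := by
  intro g hg h1 h2 h3
  have := lvl2.2.2 g (lvl1.2.2 g (lvl0.2.2 g hg h1) h2) h3
  rw [Sg_nil] at this
  exact Subgroup.mem_bot.mp this
theorem wx_mem : LB.elt V wx ∈ Sg (val V) LP := elt_mem_Sg V LP wx (by decide +kernel)
theorem wy_mem : LB.elt V wy ∈ Sg (val V) LP := elt_mem_Sg V LP wy (by decide +kernel)
theorem w6_mem : LB.elt V w6 ∈ Sg (val V) LP := elt_mem_Sg V LP w6 (by decide +kernel)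
theorem orderX : orderOf (LB.elt V wx) = 7 :=
  order_prime_of_base V (Sg (val V) LP) 0 5 284 eq_one_of_base wx wx_K wx_mem 7 (by norm_num)
    (by decide +kernel) (by decide +kernel) (by decide +kernel) (by decide +kernel)
theorem orderY : orderOf (LB.elt V wy) = 13 :=
  order_prime_of_base V (Sg (val V) LP) 0 5 284 eq_one_of_base wy wy_K wy_mem 13 (by norm_num)
    (by decide +kernel) (by decide +kernel) (by decide +kernel) (by decide +kernel)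
theorem order6 : orderOf (LB.elt V w6) = 6 :=
  order_six_of_base V (Sg (val V) LP) 0 5 284 eq_one_of_base w6 w6_K w6_mem
    (by decide +kernel) (by decide +kernel) (by decide +kernel) 0 (by decide +kernel) 1 (by decide +kernel)

end Cfsg.Agent.Lib.Helper27.G3P
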