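import Cfsg.Agent.Lib.Helper27.G3PMat
import Cfsg.Agent.Lib.Helper27.G3PMain

set_option autoImplicit false
set_option maxRecDepth 100000

namespace Cfsg.Agent.Lib.Helper27.G3P

open Cfsg.Agent.Lib.Helper28 Cfsg.Agent.Lib.Helper27.PC Cfsg.Agent.Lib.Helper27.G2Vec Cfsg.Lie Matrix

noncomputable def orbC : Tr := .node (.node (.node (.node (.leaf 0x86973c942a850d51123119145dee8c9e2e5f75a0a4bfa4006d563578bc0183300203d8ed6fc21edd53dae0b89fc50025d4010ba800573104095748fec004f080000d988762105aaeaab72801cc6800a170000240000d9b59783191a46182e4c29ed20741180111f00781e002275f632b08bf3e21a72e21a76445bc988c7c9652448db3c4801b3a8d551d00604e00801c00ea030db2e1049868b770000ead800a0e000048000121853db000894116d660074940001f800009) (.leaf 0x2d92bc010f39625771b67c430a7d8421cb4cb9ec1b9f1e2e1d47086000009e5b2780732809269693cb61e41fe5b7890fcb10f97cf8b371e335890edcb001b0d3b881b5d73e6a1134991675ec8ca2ef6ed6be02f1cc47e11908b4f07774a262e30e5dbcee1b8dd768236b108a6ae08522b8ee5155a036a2d9bd45f8b171c672ecc6201007401de9abcf8e6f9aacae3a41463c4237b2a212fa7094f40b84af3caf6b7844dd123f78ca0823ce53979713affefd95d99cbc3bd3))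 (.node (.leaf 0x1aaf1c3fa9547c3c90fd341206f66c1cb04a49352a4fb3586ddcb79cc16ef87c71caf81bf105b4d6a2e1453f7f9138a68c9970a925de3a06fc44ebf2f17c3c0bab1daaf2994a75d687768917bcd976c213a752f003a71d46822500cb46447a8b9a698e2a84354db64f0cc8e7c5dd41e4bf87b27e0ede510dbe227b2a78838471dc0933ba1331eda78cf02ebf9e0104a21bb2dbcef642934dc92d1e4815368d5beb7ab74adb44f16297a0d07dd00660c00bd78d13e33c42b3) (.leaf 0))) (.node (.node (.leaf 0x32b4da8eed3573c951715cf0072e4bc5ec9834cdb8b45f0025e6010b60005779853ea002250421af401cab80002d0066f0689c3400502c436d53e2c00e21115a0439bf6af449569cd3c479bce1da775c17ae49d03e5218d5b036b3e16323e6c29e99c66184220d18203fd03c2b1c6a5e802afc00222ca2b885468271719420077ee00f06c0217e289457211e9000eff400445bc12597837b2fd8ee9f71b73ed85d46332021c9922179f9037e221a8b0437089312d38fd867) (.leaf 0x8bb0e4d0f838e42501efe6488dad516e96cbae0d16cd7c655692ebaabdd35432381b863890b008c55fcd74944a2689279b0d744dd8ad6a657ab4a15649e7ca183cb393ff08292e0cb0b0a87f3fa8f8f582876e840b3a1aec3aac3ffa27f42450126865cf9002aba3a72ceb9cb0da13d01a40ae1981c8ec3269eaf42ac6f5884980e3f67bdc7fb545f82c89667f1d85a50f7933d51c8544b2d1ba73c7f035a62d284f27f8f51fdd3ec272014217f4c38b90a3600c36352778))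 (.node (.leaf 0x713e271cb29dbe747b6b1ed5cd2867bfae9bdc441f14ed3c91a2b19d00c438a96b9c30077a0e9edc9d39583afbbf84755852212c7ee908f847b545bea3415457853b8cca9847307d1d367533708ae89124023a2720dc8eb538144da92803783f935468a6d9c83dc1f3a00656a28ea65e9a40fd1ad04c78c4f9b06cc35092c6879e4b989f89f613943dfb2890d087113a01578c456d4293ae06d9b4c015750cb6df00557b0e41d55dd78c757828e46931c4284f192438e5f1) (.leaf 0)))) (.node (.node (.node (.leaf 0x1037e24080604399bb0634210d4d022dcfa379ae90e4ad4fa8768c21f443d7788c8a06356f30d96bdc509a3291ec6100f46e0bb1c417e37b9f56dd688db40c0f23d61758a30081d200cd09d31133b04702916b24089a46a9170ccd638e00aa75adf068c31803333005e6200c8a0d2098b426842882ae342c740190b0019a16557c11c1c4de19328036901aca1400c0e40101130c18b824852dbb1898e265b0db11105a948248586634608c0271049902070bc812962db63f) (.leaf 0x7e23583e5d70f7ff2ae49195de78500b084b5fcc1e49ab84857b17459a2535e13f70421310cf33e8086e469087822da10cf3576da9412a4c8b42d797640e015a79519c54c737082661b5d1e2c8e9d69fd2e1732e4207928f410f9a347afc2d16cc58e29533af38d6a4e0ea961e561f6e288bb5578facd83c40d2d41adee5827f9bca872e10e6551c67e079eb208ed1d1326b499746149cb485c3cd0ca058abd71f912eb65c7a41790b43096932920b07ff102453ed27eb46))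 (.node (.leaf 0x798d3cb9feb5f7fd89768900066bb11d3dd275e01034571ac382fbd61da143d1d4f651a22fe00cc3c017aac45e858b941e346c29860a3802b0228a0d8a27391c7b89c7612b292b56010098f96523883937169b6d0fc79955b917126b78918d0dfc0e12e4337cbde49b6cb044bb5b769c30dae841688220b41c0156f2dc317514af282267e449c2148db04a620c3584e47c913886ab53fca56ec76cd180319fe66d1190ba81e1a0661dc08bfc01048f893dc0465e67881c2b) (.leaf 0))) (.node (.node (.leaf 0x5757bc3450bc0191d0019d77ad130fe4fa226303c89d868e75fd1dd4c10ddc2887bb910e5c2010fed55f97c86da84ecdca9f8d113d57c2013a17f23f1220cedaf77f403f123a9c7c004b85774fd1ba02a806e185d6d2801ffc8043d70081f7127ae884c1d000add2092485b19e0847d31040a2209252de7229d2cb6bcbfd438d0dc0066f081c00b1914300277261b70d051a21ba13634b5da61b698c43a4a080f119a09317a37ce9d80bae1e05b7cf6a84f8157095aab6f3) (.leaf 0x30a7a6bc3658f95929959ea6a0d947844dda033e90e52a573b525117b5e29292dd18538cc2ee2ca1104d4093f1f8204d9e82ae513e0e213ef2332e716ae58a96e5392c5c97)) (.node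 (.leaf 0x7eea3efb3779b06fbaae99d4a4ecc784905ec3dd21e5f288fa5042401086a05c3876e2080da4373b11b8d72637b24755de3e54147c5338fd57720637c86cd346877e2ee0296120c2689ddd6d779b4077e8e897e4123e0872b2bb264c4f98ccab621128a682e52ae43a9bec283b93ded2b7b9946355c911969d523f1c6e338546d3a784cda4452535ed763ff6fd0db7e5948d4277dde3ffb30ab1f7d7806cb089c436cb8e6e13a6433afb5d8d1547d347cb73cbb11744bdf6) (.leaf 0))))
noncomputable def orb : ℕ → ℕ := field [orbC] 6 63 23 8388607 0
noncomputable def vec (i : ℕ) : chevG2.Idx → ZMod 3 := vecOf (orb i)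
theorem a0_0_chk : allBelow (fun i => chkRows rm0_0 (orb i) (orb i)) 728 = true := by decide +kernel
theorem a0_0_act : ∀ i < 728, chevG2.xMat (ZMod 3) ⟨0, by decide⟩ 0 *ᵥ vec i = vec (i) := by
  intro i hi
  unfold vec
  rw [hm0_0.mulVec _ _ (allBelow_iff.mp a0_0_chk i hi)]
theorem a0_1_chk : allBelow (fun i => chkRows rm0_1 (orb i) (orb (L.pt 0 i - 1))) 728 = true := by decide +kernel
theorem a0_1_act : ∀ i < 728, chevG2.xMat (ZMod 3) ⟨0, by decide⟩ 1 *ᵥ vec i = vec (LB.perm V 0 i) := by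
  intro i hi
  unfold vec
  rw [hm0_1.mulVec _ _ (allBelow_iff.mp a0_1_chk i hi)]
  rw [LB.perm_apply V (by decide : 0 < L.K)]
  unfold LB.actN
  rw [if_pos (show i < L.n from hi)]
theorem a0_2_chk : allBelow (fun i => chkRows rm0_2 (orb i) (orb (L.pt 1 i - 1))) 728 = true := by decide +kernel
theorem a0_2_act : ∀ i < 728, chevG2.xMat (ZMod 3) ⟨0, by decide⟩ 2 *ᵥ vec i = vec (LB.perm V 1 i) := by
  intro i hi
  unfold vec
  rw [hm0_2.mulVec _ _ (allBelow_iff.mp a0_2_chk i hi)]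
  rw [LB.perm_apply V (by decide : 1 < L.K)]
  unfold LB.actN
  rw [if_pos (show i < L.n from hi)]
theorem a1_0_chk : allBelow (fun i => chkRows rm1_0 (orb i) (orb i)) 728 = true := by decide +kernel
theorem a1_0_act : ∀ i < 728, chevG2.xMat (ZMod 3) ⟨1, by decide⟩ 0 *ᵥ vec i = vec (i) := by
  intro i hi
  unfold vec
  rw [hm1_0.mulVec _ _ (allBelow_iff.mp a1_0_chk i hi)]
theorem a1_1_chk : allBelow (fun i => chkRows rm1_1 (orb i) (orb (L.pt 2 i - 1))) 728 = true := by decide +kernel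
theorem a1_1_act : ∀ i < 728, chevG2.xMat (ZMod 3) ⟨1, by decide⟩ 1 *ᵥ vec i = vec (LB.perm V 2 i) := by
  intro i hi
  unfold vec
  rw [hm1_1.mulVec _ _ (allBelow_iff.mp a1_1_chk i hi)]
  rw [LB.perm_apply V (by decide : 2 < L.K)]
  unfold LB.actN
  rw [if_pos (show i < L.n from hi)]
theorem a1_2_chk : allBelow (fun i => chkRows rm1_2 (orb i) (orb (L.pt 3 i - 1))) 728 = true := by decide +kernel
theorem a1_2_act : ∀ i < 728, chevG2.xMat (ZMod 3) ⟨1, by decide⟩ 2 *ᵥ vec i = vec (LB.perm V 3 i) := by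
  intro i hi
  unfold vec
  rw [hm1_2.mulVec _ _ (allBelow_iff.mp a1_2_chk i hi)]
  rw [LB.perm_apply V (by decide : 3 < L.K)]
  unfold LB.actN
  rw [if_pos (show i < L.n from hi)]
theorem a2_0_chk : allBelow (fun i => chkRows rm2_0 (orb i) (orb i)) 728 = true := by decide +kernel
theorem a2_0_act : ∀ i < 728, chevG2.xMat (ZMod 3) ⟨2, by decide⟩ 0 *ᵥ vec i = vec (i) := by
  intro i hi
  unfold vec
  rw [hm2_0.mulVec _ _ (allBelow_iff.mp a2_0_chk i hi)]
theorem a2_1_chk : allBelow (fun i => chkRows rm2_1 (orb i) (orb (L.pt 4 i - 1))) 728 = true := by decide +kernel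
theorem a2_1_act : ∀ i < 728, chevG2.xMat (ZMod 3) ⟨2, by decide⟩ 1 *ᵥ vec i = vec (LB.perm V 4 i) := by
  intro i hi
  unfold vec
  rw [hm2_1.mulVec _ _ (allBelow_iff.mp a2_1_chk i hi)]
  rw [LB.perm_apply V (by decide : 4 < L.K)]
  unfold LB.actN
  rw [if_pos (show i < L.n from hi)]
theorem a2_2_chk : allBelow (fun i => chkRows rm2_2 (orb i) (orb (L.pt 5 i - 1))) 728 = true := by decide +kernel
theorem a2_2_act : ∀ i < 728, chevG2.xMat (ZMod 3) ⟨2, by decide⟩ 2 *ᵥ vec i = vec (LB.perm V 5 i) := by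
  intro i hi
  unfold vec
  rw [hm2_2.mulVec _ _ (allBelow_iff.mp a2_2_chk i hi)]
  rw [LB.perm_apply V (by decide : 5 < L.K)]
  unfold LB.actN
  rw [if_pos (show i < L.n from hi)]
theorem a3_0_chk : allBelow (fun i => chkRows rm3_0 (orb i) (orb i)) 728 = true := by decide +kernel
theorem a3_0_act : ∀ i < 728, chevG2.xMat (ZMod 3) ⟨3, by decide⟩ 0 *ᵥ vec i = vec (i) := by
  intro i hi
  unfold vec
  rw [hm3_0.mulVec _ _ (allBelow_iff.mp a3_0_chk i hi)]
theorem a3_1_chk : allBelow (fun i => chkRows rm3_1 (orb i) (orb (L.pt 6 i - 1))) 728 = true := by decide +kernel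
theorem a3_1_act : ∀ i < 728, chevG2.xMat (ZMod 3) ⟨3, by decide⟩ 1 *ᵥ vec i = vec (LB.perm V 6 i) := by
  intro i hi
  unfold vec
  rw [hm3_1.mulVec _ _ (allBelow_iff.mp a3_1_chk i hi)]
  rw [LB.perm_apply V (by decide : 6 < L.K)]
  unfold LB.actN
  rw [if_pos (show i < L.n from hi)]
theorem a3_2_chk : allBelow (fun i => chkRows rm3_2 (orb i) (orb (L.pt 7 i - 1))) 728 = true := by decide +kernel
theorem a3_2_act : ∀ i < 728, chevG2.xMat (ZMod 3) ⟨3, by decide⟩ 2 *ᵥ vec i = vec (LB.perm V 7 i) := by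
  intro i hi
  unfold vec
  rw [hm3_2.mulVec _ _ (allBelow_iff.mp a3_2_chk i hi)]
  rw [LB.perm_apply V (by decide : 7 < L.K)]
  unfold LB.actN
  rw [if_pos (show i < L.n from hi)]
theorem a4_0_chk : allBelow (fun i => chkRows rm4_0 (orb i) (orb i)) 728 = true := by decide +kernel
theorem a4_0_act : ∀ i < 728, chevG2.xMat (ZMod 3) ⟨4, by decide⟩ 0 *ᵥ vec i = vec (i) := by
  intro i hi
  unfold vec
  rw [hm4_0.mulVec _ _ (allBelow_iff.mp a4_0_chk i hi)]
theorem a4_1_chk : allBelow (fun i => chkRows rm4_1 (orb i) (orb (L.pt 8 i - 1))) 728 = true := by decide +kernel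
theorem a4_1_act : ∀ i < 728, chevG2.xMat (ZMod 3) ⟨4, by decide⟩ 1 *ᵥ vec i = vec (LB.perm V 8 i) := by
  intro i hi
  unfold vec
  rw [hm4_1.mulVec _ _ (allBelow_iff.mp a4_1_chk i hi)]
  rw [LB.perm_apply V (by decide : 8 < L.K)]
  unfold LB.actN
  rw [if_pos (show i < L.n from hi)]
theorem a4_2_chk : allBelow (fun i => chkRows rm4_2 (orb i) (orb (L.pt 9 i - 1))) 728 = true := by decide +kernel
theorem a4_2_act : ∀ i < 728, chevG2.xMat (ZMod 3) ⟨4, by decide⟩ 2 *ᵥ vec i = vec (LB.perm V 9 i) := by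
  intro i hi
  unfold vec
  rw [hm4_2.mulVec _ _ (allBelow_iff.mp a4_2_chk i hi)]
  rw [LB.perm_apply V (by decide : 9 < L.K)]
  unfold LB.actN
  rw [if_pos (show i < L.n from hi)]
theorem a5_0_chk : allBelow (fun i => chkRows rm5_0 (orb i) (orb i)) 728 = true := by decide +kernel
theorem a5_0_act : ∀ i < 728, chevG2.xMat (ZMod 3) ⟨5, by decide⟩ 0 *ᵥ vec i = vec (i) := by
  intro i hi
  unfold vec
  rw [hm5_0.mulVec _ _ (allBelow_iff.mp a5_0_chk i hi)]
theorem a5_1_chk : allBelow (fun i => chkRows rm5_1 (orb i) (orb (L.pt 10 i - 1))) 728 = true := by decide +kernel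
theorem a5_1_act : ∀ i < 728, chevG2.xMat (ZMod 3) ⟨5, by decide⟩ 1 *ᵥ vec i = vec (LB.perm V 10 i) := by
  intro i hi
  unfold vec
  rw [hm5_1.mulVec _ _ (allBelow_iff.mp a5_1_chk i hi)]
  rw [LB.perm_apply V (by decide : 10 < L.K)]
  unfold LB.actN
  rw [if_pos (show i < L.n from hi)]
theorem a5_2_chk : allBelow (fun i => chkRows rm5_2 (orb i) (orb (L.pt 11 i - 1))) 728 = true := by decide +kernel
theorem a5_2_act : ∀ i < 728, chevG2.xMat (ZMod 3) ⟨5, by decide⟩ 2 *ᵥ vec i = vec (LB.perm V 11 i) := by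
  intro i hi
  unfold vec
  rw [hm5_2.mulVec _ _ (allBelow_iff.mp a5_2_chk i hi)]
  rw [LB.perm_apply V (by decide : 11 < L.K)]
  unfold LB.actN
  rw [if_pos (show i < L.n from hi)]
theorem a6_0_chk : allBelow (fun i => chkRows rm6_0 (orb i) (orb i)) 728 = true := by decide +kernel
theorem a6_0_act : ∀ i < 728, chevG2.xMat (ZMod 3) ⟨6, by decide⟩ 0 *ᵥ vec i = vec (i) := by
  intro i hi
  unfold vec
  rw [hm6_0.mulVec _ _ (allBelow_iff.mp a6_0_chk i hi)]
theorem a6_1_chk : allBelow (fun i => chkRows rm6_1 (orb i) (orb (L.pt 12 i - 1))) 728 = true := by decide +kernel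
theorem a6_1_act : ∀ i < 728, chevG2.xMat (ZMod 3) ⟨6, by decide⟩ 1 *ᵥ vec i = vec (LB.perm V 12 i) := by
  intro i hi
  unfold vec
  rw [hm6_1.mulVec _ _ (allBelow_iff.mp a6_1_chk i hi)]
  rw [LB.perm_apply V (by decide : 12 < L.K)]
  unfold LB.actN
  rw [if_pos (show i < L.n from hi)]
theorem a6_2_chk : allBelow (fun i => chkRows rm6_2 (orb i) (orb (L.pt 13 i - 1))) 728 = true := by decide +kernel
theorem a6_2_act : ∀ i < 728, chevG2.xMat (ZMod 3) ⟨6, by decide⟩ 2 *ᵥ vec i = vec (LB.perm V 13 i) := by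
  intro i hi
  unfold vec
  rw [hm6_2.mulVec _ _ (allBelow_iff.mp a6_2_chk i hi)]
  rw [LB.perm_apply V (by decide : 13 < L.K)]
  unfold LB.actN
  rw [if_pos (show i < L.n from hi)]
theorem a7_0_chk : allBelow (fun i => chkRows rm7_0 (orb i) (orb i)) 728 = true := by decide +kernel
theorem a7_0_act : ∀ i < 728, chevG2.xMat (ZMod 3) ⟨7, by decide⟩ 0 *ᵥ vec i = vec (i) := by
  intro i hi
  unfold vec
  rw [hm7_0.mulVec _ _ (allBelow_iff.mp a7_0_chk i hi)]
theorem a7_1_chk : allBelow (fun i => chkRows rm7_1 (orb i) (orb (L.pt 14 i - 1))) 728 = true := by decide +kernel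
theorem a7_1_act : ∀ i < 728, chevG2.xMat (ZMod 3) ⟨7, by decide⟩ 1 *ᵥ vec i = vec (LB.perm V 14 i) := by
  intro i hi
  unfold vec
  rw [hm7_1.mulVec _ _ (allBelow_iff.mp a7_1_chk i hi)]
  rw [LB.perm_apply V (by decide : 14 < L.K)]
  unfold LB.actN
  rw [if_pos (show i < L.n from hi)]
theorem a7_2_chk : allBelow (fun i => chkRows rm7_2 (orb i) (orb (L.pt 15 i - 1))) 728 = true := by decide +kernel
theorem a7_2_act : ∀ i < 728, chevG2.xMat (ZMod 3) ⟨7, by decide⟩ 2 *ᵥ vec i = vec (LB.perm V 15 i) := by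
  intro i hi
  unfold vec
  rw [hm7_2.mulVec _ _ (allBelow_iff.mp a7_2_chk i hi)]
  rw [LB.perm_apply V (by decide : 15 < L.K)]
  unfold LB.actN
  rw [if_pos (show i < L.n from hi)]
theorem a8_0_chk : allBelow (fun i => chkRows rm8_0 (orb i) (orb i)) 728 = true := by decide +kernel
theorem a8_0_act : ∀ i < 728, chevG2.xMat (ZMod 3) ⟨8, by decide⟩ 0 *ᵥ vec i = vec (i) := by
  intro i hi
  unfold vec
  rw [hm8_0.mulVec _ _ (allBelow_iff.mp a8_0_chk i hi)]
theorem a8_1_chk : allBelow (fun i => chkRows rm8_1 (orb i) (orb (L.pt 16 i - 1))) 728 = true := by decide +kernel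
theorem a8_1_act : ∀ i < 728, chevG2.xMat (ZMod 3) ⟨8, by decide⟩ 1 *ᵥ vec i = vec (LB.perm V 16 i) := by
  intro i hi
  unfold vec
  rw [hm8_1.mulVec _ _ (allBelow_iff.mp a8_1_chk i hi)]
  rw [LB.perm_apply V (by decide : 16 < L.K)]
  unfold LB.actN
  rw [if_pos (show i < L.n from hi)]
theorem a8_2_chk : allBelow (fun i => chkRows rm8_2 (orb i) (orb (L.pt 17 i - 1))) 728 = true := by decide +kernel
theorem a8_2_act : ∀ i < 728, chevG2.xMat (ZMod 3) ⟨8, by decide⟩ 2 *ᵥ vec i = vec (LB.perm V 17 i) := by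
  intro i hi
  unfold vec
  rw [hm8_2.mulVec _ _ (allBelow_iff.mp a8_2_chk i hi)]
  rw [LB.perm_apply V (by decide : 17 < L.K)]
  unfold LB.actN
  rw [if_pos (show i < L.n from hi)]
theorem a9_0_chk : allBelow (fun i => chkRows rm9_0 (orb i) (orb i)) 728 = true := by decide +kernel
theorem a9_0_act : ∀ i < 728, chevG2.xMat (ZMod 3) ⟨9, by decide⟩ 0 *ᵥ vec i = vec (i) := by
  intro i hi
  unfold vec
  rw [hm9_0.mulVec _ _ (allBelow_iff.mp a9_0_chk i hi)]
theorem a9_1_chk : allBelow (fun i => chkRows rm9_1 (orb i) (orb (L.pt 18 i - 1))) 728 = true := by decide +kernel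
theorem a9_1_act : ∀ i < 728, chevG2.xMat (ZMod 3) ⟨9, by decide⟩ 1 *ᵥ vec i = vec (LB.perm V 18 i) := by
  intro i hi
  unfold vec
  rw [hm9_1.mulVec _ _ (allBelow_iff.mp a9_1_chk i hi)]
  rw [LB.perm_apply V (by decide : 18 < L.K)]
  unfold LB.actN
  rw [if_pos (show i < L.n from hi)]
theorem a9_2_chk : allBelow (fun i => chkRows rm9_2 (orb i) (orb (L.pt 19 i - 1))) 728 = true := by decide +kernel
theorem a9_2_act : ∀ i < 728, chevG2.xMat (ZMod 3) ⟨9, by decide⟩ 2 *ᵥ vec i = vec (LB.perm V 19 i) := by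
  intro i hi
  unfold vec
  rw [hm9_2.mulVec _ _ (allBelow_iff.mp a9_2_chk i hi)]
  rw [LB.perm_apply V (by decide : 19 < L.K)]
  unfold LB.actN
  rw [if_pos (show i < L.n from hi)]
theorem a10_0_chk : allBelow (fun i => chkRows rm10_0 (orb i) (orb i)) 728 = true := by decide +kernel
theorem a10_0_act : ∀ i < 728, chevG2.xMat (ZMod 3) ⟨10, by decide⟩ 0 *ᵥ vec i = vec (i) := by
  intro i hi
  unfold vec
  rw [hm10_0.mulVec _ _ (allBelow_iff.mp a10_0_chk i hi)]
theorem a10_1_chk : allBelow (fun i => chkRows rm10_1 (orb i) (orb (L.pt 20 i - 1))) 728 = true := by decide +kernel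
theorem a10_1_act : ∀ i < 728, chevG2.xMat (ZMod 3) ⟨10, by decide⟩ 1 *ᵥ vec i = vec (LB.perm V 20 i) := by
  intro i hi
  unfold vec
  rw [hm10_1.mulVec _ _ (allBelow_iff.mp a10_1_chk i hi)]
  rw [LB.perm_apply V (by decide : 20 < L.K)]
  unfold LB.actN
  rw [if_pos (show i < L.n from hi)]
theorem a10_2_chk : allBelow (fun i => chkRows rm10_2 (orb i) (orb (L.pt 21 i - 1))) 728 = true := by decide +kernel
theorem a10_2_act : ∀ i < 728, chevG2.xMat (ZMod 3) ⟨10, by decide⟩ 2 *ᵥ vec i = vec (LB.perm V 21 i) := by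
  intro i hi
  unfold vec
  rw [hm10_2.mulVec _ _ (allBelow_iff.mp a10_2_chk i hi)]
  rw [LB.perm_apply V (by decide : 21 < L.K)]
  unfold LB.actN
  rw [if_pos (show i < L.n from hi)]
theorem a11_0_chk : allBelow (fun i => chkRows rm11_0 (orb i) (orb i)) 728 = true := by decide +kernel
theorem a11_0_act : ∀ i < 728, chevG2.xMat (ZMod 3) ⟨11, by decide⟩ 0 *ᵥ vec i = vec (i) := by
  intro i hi
  unfold vec
  rw [hm11_0.mulVec _ _ (allBelow_iff.mp a11_0_chk i hi)]
theorem a11_1_chk : allBelow (fun i => chkRows rm11_1 (orb i) (orb (L.pt 22 i - 1))) 728 = true := by decide +kernel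
theorem a11_1_act : ∀ i < 728, chevG2.xMat (ZMod 3) ⟨11, by decide⟩ 1 *ᵥ vec i = vec (LB.perm V 22 i) := by
  intro i hi
  unfold vec
  rw [hm11_1.mulVec _ _ (allBelow_iff.mp a11_1_chk i hi)]
  rw [LB.perm_apply V (by decide : 22 < L.K)]
  unfold LB.actN
  rw [if_pos (show i < L.n from hi)]
theorem a11_2_chk : allBelow (fun i => chkRows rm11_2 (orb i) (orb (L.pt 23 i - 1))) 728 = true := by decide +kernel
theorem a11_2_act : ∀ i < 728, chevG2.xMat (ZMod 3) ⟨11, by decide⟩ 2 *ᵥ vec i = vec (LB.perm V 23 i) := by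
  intro i hi
  unfold vec
  rw [hm11_2.mulVec _ _ (allBelow_iff.mp a11_2_chk i hi)]
  rw [LB.perm_apply V (by decide : 23 < L.K)]
  unfold LB.actN
  rw [if_pos (show i < L.n from hi)]
noncomputable def srtC : Tr := .node (.node (.node (.node (.leaf 0x845b3094bb2c437140112bd7b1985c5c9033f45a154351380f4097116d6c2618955587a70341340e0240d008fc348548d42a33cb70bce62cc1c25cb50b4dc090082b41a0108d01801088b001c2908c00) (.leaf 0xae62a456986180870992761e58cb8b28710c1bf2a9641b5bd83d5c1b1d86e61d358a55644a1ad061a812280216f2567f59588ce9741c4a86289b68096d9489ed39a4a688162af9935d699160a9792d1)) (.node (.leaf 0x72e4273d488c14b70965b562d2adb89f5baaf2786dc698b181659d27ead2179a19917439d9931523a6ebd671a234e50b2e684be5d330e48e1c699c6e8f18a71ccb9563216598a6101798ae93239b0d9a) (.leaf 0))) (.node (.node (.leaf 0x9d2c8b1191786d01e1f29c48220df505e733760b7d8d923e708e8b235cdb788d80b1f39a8d12113b5e1eba8909b1c411887e4faa567a896b692201ec4f19b9827e7b94da91ed4f5ac65c4f5dd4e0d908)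 (.leaf 0x1e68a752904a8c6afe765bd31aea5e3e5c0a3e7537aaf81a2f7dd7aaedd65c18c4562e2b085619f45790d73872ab91c0fd5d82a939ddaf8861a2723612e1b56a1926ca22681d4cce838e7a636b2a0522)) (.node (.leaf 0x6dac04163da82594dea69221095d85804ffb3ec2839287f0c177a17728f13002696938755c374daba2e5230895836158589654d6a24258900eea147777ec5764313b6aaa1d10451cc292293bd2b69511) (.leaf 0)))) (.node (.node (.node (.leaf 0x4fc101856e1759d3f9737a456411aa31c606a045516975069d6207451c1411144060151e8033d0321d47d3cc865307b0582711d5610c0b50c425007f3c8e08f8910b8b6438df19d66848e12481b23893) (.leaf 0x8aa02a0eb13e8eb461307fca822a7f45d7d5d839224887f819895f997ca33ee9541e8ca1a4f432049ba725fcd480e08996cd57d008005181c8b231e052aada58646c25cad8c4485196c9b1ad4653561f)) (.node (.leaf 0x4baac936267c2882052753dfb985ddaac3e481425e64b56d129b0384b50a29cbe939ef469a744eb4831f147c870f076525250ed1e02a8d7e12676e51638f57a83d55ec6336c911952321464b2843b1a3) (.leaf 0))) (.node (.node (.leaf 0x2fed4816498cc28325b5338ca99a3b2d2d74917c84dc143eb9388684a646850942f16092a3798e094ca6fae23f36a319e66b6d18b42ea759d3990d5018dae5ada0ac18fb391615d90a8e9e67ea894e9f)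 (.leaf 0x904f891d51744ea8acf0714f60ce8e5a184699e33de226f9834d1821485f)) (.node (.leaf 0x14d61adc131c1cd0e91b8d11d126b31cca175c9f080d0030485604c07d6d0141e279da911e77206faa53a2e47c914bab59a9726249ece57a1a45f8bda69bb649dc9f282951364d6ccb055430c4079694) (.leaf 0))))
noncomputable def posC : Tr := .node (.node (.node (.node (.leaf 0xa65725315b55df99c16a0e8810b822b3460632310544b03ca58fc18008fa161a60f40d00405871ef7a5e6a20121080a9b0652cc59190687f21e0e07e0b020079ed1515507c0c00c0779c091881d01800) (.leaf 0x3704d6f10f3d0ab4091338a90065f73ed0a3693bab2a44d92db467f612128357c9add685ec6a4e099023689a39a3a92a323b6a999668e73bc450fdb68adaf66d5f2c2973825a94ead3f66096e7e6ce55)) (.node (.leaf 0x1fc9721c8f281de349a46e5c871ec3a1cdfada7845d7f5a54360abb3a5ae5e152560f14828091d71575567da9a7e16391a799ccc8a95875856c601883b449a7a613556827080996206f4750c82b41a56) (.leaf 0))) (.node (.node (.leaf 0x3fd66740e50f1da776340584a040f304caa0ec040dd0402ea34d62f80a7659e0a891859a28a7ca1d7c1e58de91a2e898e02704598670e610043131952b4410225194a759be6e5705ca88a12d4b65e491)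 (.leaf 0xae60747931aa6b53b0dd7f64990d607d2829f0cbaba9b9397e5cd8a77cc2351b8258893149d84dbb300c41b02347dcf811071ba4d999c0a58928f6bcac6cc5526467ebe2517a62663645429f5caa0610)) (.node (.leaf 0x8c2c58b21b7393289d344bdbf3e0d70fa459124ba50ce24c86680747607158ac9605d25011c498cc30c951e91d23900489082152b8620e819cd2f0c63294fa0ea63590e0986b092a16d2cab12c24b23a) (.leaf 0)))) (.node (.node (.node (.leaf 0x14098179dc16863afcb96415a17c6a7ce9c8c9fb781108b6298861f4b8ea11c3590a4c33c991f472b01271ec340a4304260331c760bc1a7fec1950392102d085eaa3e227d5ec15d471c06715452269c2) (.leaf 0x9d08c4cdcb7568436530a56b8ac0bf2ca5e2dcac37a5f8456b360a382d18444f5965253863e5d48d9a6b445a4a83da56e9946d61a42dc93059e5411a989655f5035b8e33f1b7b54e876de33453eb5d93)) (.node (.leaf 0x975d19c8f00daaa5bc9f20e71815241e0330aaa7adc7c7a028335968f2cb34c464e22e8d6087f8e495e9fa622a5b68d88deb52c56095c465d46b50d05dc822285b4ea4f5653c1a5441bc6614d701b451) (.leaf 0))) (.node (.node (.leaf 0x6c8790c41c99e7baced6b1ece538611744f6a2d060d9262d419ead285a8648c1475114a14eb1104e122af2c40e2a0db2b8a62a6259065c46c1b289ee05cf752515430f63e5451ceba4864870d9d6b1a7)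 (.leaf 0x3c9d94dcfe83128800ba6c4c9961c646633520be26d4a638bd405b0715be)) (.node (.leaf 0x9de6d865ad5d9299a953aacaf2d2a0290b85797b5908b220902794d1ddd37890570601b20a72ee5063dab5d1cc545e4636287c6a868ebd6852ab4e154f69d7e9864fda975de143512b3e14689393bab2) (.leaf 0))))
noncomputable def srt : ℕ → ℕ := field [srtC] 6 63 10 1023 0
noncomputable def pos : ℕ → ℕ := field [posC] 6 63 10 1023 0
theorem srt_chk : allBelow (fun k => Nat.blt (orb (srt k)) (orb (srt (k + 1)))) 727 = true := by decide +kernel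
theorem pos_chk : allBelow (fun i => Nat.blt (pos i) 728 && Nat.beq (srt (pos i)) i) 728 = true := by decide +kernel
theorem orb_lt_chk : allBelow (fun i => Nat.blt (orb i) 4782969) 728 = true := by decide +kernel
def spanL : List (List ℕ) := [
  [1, 1, 2, 2, 3, 3, 5, 5, 8, 8, 10, 10, 11, 12, 12, 15, 16, 18],
  [0, 0, 1, 1, 2, 2, 5, 8, 8, 12, 12, 14, 15, 15],
  [0],
  [0, 1, 1],
  [0, 0, 1, 2, 5, 12, 12, 14],
  [0, 0, 1, 2, 2, 4, 4, 5, 5, 8, 12, 14, 14],
  [0, 0, 2, 2, 14],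
  [0, 0, 4],
  [0, 0, 1, 5, 12, 12],
  [1, 3, 4, 5, 5, 8, 8, 10, 10, 11, 11, 12, 12, 16, 18],
  [0, 0, 1, 2, 10, 11, 14, 15, 15, 16, 18],
  [1, 1, 2, 5, 8, 10, 10, 12, 14, 15, 16],
  [2, 3, 3, 4, 4, 8, 10, 10, 11, 11, 12, 14, 16, 18],
  [0, 0, 3, 3, 10, 10, 11, 14, 14, 15, 15, 16, 18]]
noncomputable def span (j : ℕ) : List ℕ := (nth spanL [] j).map orb
theorem span_chk : ∀ j < 14, ∀ k < 14, sumDig (span j) k % 3 = if j = k then 1 else 0 := by decide +kernel
theorem span_lt : ∀ l ∈ spanL, ∀ i ∈ l, i < 728 := by decide +kernel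

end Cfsg.Agent.Lib.Helper27.G3P
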