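import Cfsg.Agent.Lib.Helper27.J2PData

set_option autoImplicit false
set_option maxRecDepth 100000

namespace Cfsg.Agent.Lib.Helper27.J2PLk1

open Cfsg.Agent.Lib.Helper28 Cfsg.Agent.Lib.Helper27.PC

noncomputable def tabC0 : Tr := .leaf 0x8a576b8e669d4239162ea3e04eb25e3048267a834886b5d666c1011c761d3986df29a1440c14544907e4700510580540203041180080
noncomputable def auxC0 : Tr := .leaf 0x8443822210c883c44778a1071c4b09178b46fd976a18220a8b086270620610bc2351b4b091021c08420b1110f2300026700000001c40020000000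
noncomputable def tabC1 : Tr := .leaf 0x7d78a59245ac6672656298ea2013e085c52d45e5551811411d172c28f2d58227614195c76857a93996df1024860813454c03000410c0
noncomputable def auxC1 : Tr := .leaf 0x781431e38ea8260110097051631c11c0a0689824012874504202181360898e5027df3808f04b346413aa8d54d020d022741046020000000004000
noncomputable def tabC2 : Tr := .leaf 0x6e39276a62c14df2a572e5203028ee59b3e81816028aa66848825e75f85c7e455f0c13827aa45b4068000812025c00411423401c0100
noncomputable def auxC2 : Tr := .leaf 0x689c7b99c4513489924db2698c2f1457d52675a149ae32190c13449904dc91013789a84c22668c758204cf260000498e300000131060000000000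
noncomputable def tabC3 : Tr := .leaf 0x8e86ef5ab45b24142332b4a07ad9228a75675c318169a3de76181e5072da2856693430c17038407e44dd1c3081600103041380200140
noncomputable def auxC3 : Tr := .leaf 0x886b43551a82b2069f24b1a88d764c69211aa5b5868a35948749706bead3925432523034c1a10d6c68001e56924186823400018d0068000000000
noncomputable def tabC4 : Tr := .leaf 0x6ae86872a5a77e53a72015675c981b7ab4e99206e73456271018c044b1950c115a8991e22d551431629a7406404194840983c0240040
noncomputable def auxC4 : Tr := .leaf 0x64741bdb88aec7b49a3871ca0e5873e39d1c90e8c73438c6abd20c700010942c4087083a16e3352872638b1c48e0000000f1c88e0470000000001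
noncomputable def tabC5 : Tr := .leaf 0x61f4c139a8e96da8266aa2018ab5e692d1c15687088687662d366814348c1980c17e65862953142590817803634563d9500400117040
noncomputable def auxC5 : Tr := .leaf 0x5dfa460d311186b53e619ca39884c2d823ac31850c375a030e142a7b00c47089815f8461e70a9825896b480609800018610307140000000306001
noncomputable def tabC6 : Tr := .leaf 0x66785e6115a93638ea6e87665c91c17ab8a991e2257e472810239d1431913c54574c28242d708131625955568041748650f0c2280040
noncomputable def auxC6 : Tr := .leaf 0x638403d7daad0304c43daa0e0f5878c3ddb908f8ec0e3dea0dbb0e81a2441e2c53a020ed272f8f284823cb324255078000f3288f4c78424000001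
noncomputable def tabC7 : Tr := .leaf 0x61f7e96688dd3635a56ac7655697a91c192889270886a21410e3831453d81984064de82429731808125a5e46c04524825030c32c0040
noncomputable def auxC7 : Tr := .leaf 0x5c53d4582b12132baa29914e645053a2861518a845375e0143d30e89a2849670a1451e29214f8a245162811440a59080010148954c50428000001
noncomputable def tabC8 : Tr := .leaf 0x5c18257a74dd8e47e58a67247636e334866839a9005941c750d85c1910c14043da61b68725e2d510331d204548490142282440082040
noncomputable def auxC8 : Tr := .leaf 0x58f3e79d3c91e8b5bd361ccd9e7173468c3cc4d34b00015aa31a4cb413453c11e3e09cf173cc9020f14b833c5a61cb28791342162480000108001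
noncomputable def tabC9 : Tr := .leaf 0x8a75e392871f3662016ac76585e1d47ad66562f8e25685a91064e04861913d841939b8253162942d32557c06d345214a5070c5093040
noncomputable def auxC9 : Tr := .leaf 0x842ac46322d913088e459cee058028c45d22c275db449d44ea910c2a41510a2c639b1e44d0afb62d91244a0a42700034150222054c8841410a001
noncomputable def tabC10 : Tr := .leaf 0x8a75e392671d3652016a876485e1d27a76696298e456a5ab1064df4851933dc41b39a8243182922d325e7c26d34541495050c4092040
noncomputable def auxC10 : Tr := .leaf 0x84dada2398d8630d8fa1936e4c80d8c2ddbac0b5c5c46d47aa9b0cda42d1982a838d9ef4d0cf8b2c3122ca3642878db46d0362064c3042c10c001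
noncomputable def tabC11 : Tr := .leaf 0x82169e3418619222285ec4e27225658df64361c7ad1ea6e428f7630c14463da41939f88031c11450e2437e75a919214a2d3480094040
noncomputable def auxC11 : Tr := .leaf 0x7f8b2e8c5f0078d78ebd6529336c928be25ec1f5c3babc65ed07257b8bc25e8073979ea4d740002d986bd30e4297912a7c50e217289000010e001
noncomputable def tabC12 : Tr := .leaf 0
noncomputable def auxC12 : Tr := .leaf 0
noncomputable def dC : Tr := .leaf 0x58848430b2832021c91c51c41c01871861841431421401000c50c108b088085084083082081047046044043042040003002001000000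
noncomputable def tabCols : List Tr := [tabC0, tabC1, tabC2, tabC3, tabC4, tabC5, tabC6, tabC7, tabC8, tabC9, tabC10, tabC11, tabC12]
noncomputable def auxCols : List Tr := [auxC0, auxC1, auxC2, auxC3, auxC4, auxC5, auxC6, auxC7, auxC8, auxC9, auxC10, auxC11, auxC12]
def pairsC : List ((List ℕ × ℕ × List ℕ) × ℕ) := [
  (([0], 1, []), 16384),
  (([5, 5, 9, 4, 4, 6], 5, []), 3082),
  (([1, 10, 6, 0], 8, []), 10243),
  (([10], 9, []), 4096),
  (([6, 0, 8, 1], 10, []), 10249),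
  (([8, 9, 8], 11, []), 5122),
  (([1], 0, []), 17408),
  (([0, 4, 11, 5, 8, 1], 6, []), 11268),
  (([6], 7, []), 22528),
  (([0, 8, 1, 7], 10, []), 10240),
  (([2, 2], 2, []), 12292),
  (([2], 3, []), 18432),
  (([5], 4, []), 21504),
  (([7], 6, []), 23552),
  (([7, 1, 11, 6, 2], 8, []), 15364),
  (([9], 9, []), 25600),
  (([10, 11, 10], 11, []), 6146),
  (([3], 2, []), 19456),
  (([7, 5, 8, 6], 5, []), 9220),
  (([11, 0, 6, 8, 3], 7, []), 15371),
  (([2, 4, 11, 5, 3], 8, []), 13316),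
  (([10, 4, 9, 5, 8], 11, []), 7178),
  (([4], 5, []), 20480),
  (([4, 8, 11, 10, 5, 9], 6, []), 8198),
  (([4, 11, 5, 1, 7, 0], 8, []), 11277),
  (([10], 10, []), 26624),
  (([2, 1, 7, 2], 0, []), 1030),
  (([7, 2, 0, 2], 1, []), 1024),
  (([8], 8, []), 24576),
  (([5, 3, 8, 2, 4], 11, []), 13322),
  (([3, 6, 0, 3], 1, []), 1029),
  (([5, 8, 2, 7, 4, 3], 7, []), 14346),
  (([8, 5, 7, 9, 4, 10], 11, []), 8203),
  (([3, 1, 3, 6], 0, []), 1033),
  (([8, 2, 4, 11, 5], 3, []), 13314),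
  (([5, 5, 5, 9, 4, 4], 6, []), 3080),
  (([11, 10, 5, 9, 6, 4], 8, []), 8202),
  (([5, 8, 11, 10, 4], 9, []), 7172),
  (([11, 8, 5, 7, 9, 4], 10, []), 8205),
  (([5, 8, 1, 6, 0, 4], 11, []), 11274),
  (([6, 0, 4, 11, 5, 8], 1, []), 11266),
  (([3, 3], 3, []), 12289),
  (([6, 8, 3, 7, 11], 0, []), 15367),
  (([1, 7, 0, 8, 4, 11], 5, []), 11271),
  (([11, 8, 9], 8, []), 5120),
  (([11], 11, []), 27648),
  (([1, 7, 2, 0], 2, []), 1032),
  (([9, 4, 4, 6, 5, 5], 5, []), 3072),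
  (([4, 4, 6, 5, 5, 5], 9, []), 3074),
  (([6, 2, 8, 7, 1], 11, []), 15370),
  (([3, 1, 2, 1, 5, 1], 1, []), 6),
  (([0, 3, 0, 2, 0, 0], 4, []), 1),
  (([6, 4, 8, 11, 10, 5], 9, []), 8196),
  (([11, 5, 8, 1, 6, 0], 4, []), 11272),
  (([8, 2, 7, 4, 3, 7], 5, []), 14348),
  (([0, 3, 1, 3], 6, []), 1025),
  (([0, 6, 8, 3, 7], 11, []), 15369),
  (([6, 5, 8, 4], 6, []), 2055),
  (([6, 5, 7, 5], 8, []), 9216),
  (([5, 9, 6, 4, 8, 11], 10, []), 8192),
  (([5, 1, 1, 3, 1, 2], 1, []), 0),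
  (([8, 4, 6, 6], 5, []), 2051),
  (([5, 7, 5, 8], 6, []), 9218),
  (([4, 7, 7, 5], 8, []), 2050),
  (([8, 1, 10, 6], 0, []), 10245),
  (([8, 4, 6, 2, 5, 6], 3, []), 14337),
  (([9, 5, 8, 11, 10], 4, []), 7170),
  (([2, 5, 6, 3, 8, 4], 6, []), 14345),
  (([8, 11, 8], 9, []), 5126),
  (([11, 6, 2, 8, 7], 1, []), 15368),
  (([5, 6, 3, 8, 4, 6], 2, []), 14343),
  (([6, 0, 3, 1], 3, []), 1027),
  (([8, 11, 10, 5, 9, 6], 4, []), 8200),
  (([7, 5, 8, 4], 7, []), 2054),
  (([11, 10, 11], 10, []), 6148),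
  (([3, 7, 11, 0, 6], 8, []), 15363),
  (([0, 4, 0, 3, 0, 2], 0, []), 5),
  (([10, 11, 8, 4, 9], 5, []), 7169),
  (([3, 8, 4, 6, 2, 5], 6, []), 14339),
  (([5, 8, 4, 7], 7, []), 2056),
  (([6, 2, 5, 6, 3, 8], 4, []), 14347),
  (([1, 11, 6, 2, 8], 7, []), 15366),
  (([4, 11, 5, 8, 1, 6], 0, []), 11270),
  (([1, 7, 10, 0], 8, []), 10244),
  (([1, 1, 3, 1, 2, 1], 5, []), 2),
  (([2, 0, 2, 1], 7, []), 1026),
  (([8, 3, 7, 11, 0], 6, []), 15365),
  (([3, 0, 2, 0, 0, 4], 0, []), 13),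
  (([1, 5, 1, 1, 3, 1], 2, []), 12),
  (([7, 5, 8, 2, 7, 4], 3, []), 14344),
  (([5, 8, 4, 6], 6, []), 2053),
  (([4, 9, 5, 8, 11], 10, []), 7168),
  (([8, 1, 7, 10], 0, []), 10242),
  (([8, 7, 1, 11, 6], 2, []), 15362),
  (([8, 11, 10, 4, 9], 5, []), 7174),
  (([8, 4, 11, 5, 1, 7], 0, []), 11265),
  (([0, 0, 4, 0, 3, 0], 2, []), 7),
  (([7, 10, 0, 8], 1, []), 10246),
  (([10, 0, 8, 1], 7, []), 10248),
  (([8, 4, 7, 7], 5, []), 2048),
  (([11, 10, 4, 9, 5], 8, []), 7176),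
  (([4, 4, 4, 7, 5, 5], 9, []), 3073),
  (([9], 10, []), 4098),
  (([3, 7, 5, 8, 2, 7], 4, []), 14342),
  (([6, 3, 8, 4, 6, 2], 5, []), 14341),
  (([9, 8, 11], 8, []), 5124),
  (([4, 4, 7, 5, 5, 9], 4, []), 3085),
  (([2, 8, 7, 1, 11], 6, []), 15360),
  (([0, 2, 1, 7], 2, []), 1028),
  (([4, 6, 5, 5, 5, 9], 4, []), 3076),
  (([0, 8, 1, 10], 6, []), 10247),
  (([5, 1, 7, 0, 8, 4], 11, []), 11273)]
def subL : List ℕ := [4, 5, 6, 7, 8, 9, 10, 11]
noncomputable def D : UB where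
  tab := field tabCols 6 63 12 4095
  aux := field auxCols 6 63 13 8191
  dinfo := field [dC] 6 63 12 4095 0
  rb := 6
  RM := 63
  pb := 7
  PM := 127
  m := 36
  K := 12
  Kall := 13
  pairs := pairsC.map Prod.fst
  isSub := fun x => subL.contains x
  fuel := 4
def ren : ℕ → ℕ
  | 0 => 4
  | 1 => 5
  | 2 => 6
  | 3 => 7
  | 4 => 8
  | 5 => 9
  | 6 => 10
  | 7 => 11
  | 8 => 12
  | 9 => 13
  | 10 => 14
  | 11 => 15
  | x => 0
def linv : ℕ → ℕ
  | 0 => 1
  | 1 => 0
  | 2 => 3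
  | 3 => 2
  | 4 => 5
  | 5 => 4
  | 6 => 7
  | 7 => 6
  | 8 => 8
  | 9 => 9
  | 10 => 10
  | 11 => 11
  | x => x
def relsL : List (List ℕ) := [
  [5, 1, 1, 3, 1, 2, 1],
  [7, 2, 0, 2, 1],
  [8, 4, 7, 7, 5],
  [9, 4, 4, 6, 5, 5, 5],
  [10, 9],
  [11, 8, 9, 8],
  [11, 10, 11, 10],
  [4, 9, 5, 8, 11, 10],
  [5, 9, 6, 4, 8, 11, 10],
  [6, 5, 7, 5, 8],
  [0, 8, 1, 7, 10],
  [1, 6, 0, 4, 11, 5, 8],
  [2, 2, 2],
  [3, 8, 2, 4, 11, 5],
  [2, 7, 4, 3, 7, 5, 8],
  [2, 8, 7, 1, 11, 6]]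
noncomputable def Lk : Link where
  D := D
  ren := ren
  inv := linv
  rels := relsL
  pairsC := pairsC
  subL := subL
  n := 36
theorem chk_0 : allRange D.checkLabel 0 36 = true := by decide +kernel
theorem check_all : ∀ c < D.m, D.checkLabel c = true := by
  intro c hc
  have hc' : c < 36 := hc
  by_cases h0 : c < 36
  · exact allRange_iff.mp chk_0 c (by omega) (by omega)
  omega
theorem pairs_ok : pairsC.all (pairOK (relsAll relsL linv 13) linv 12 13) = true := by decide +kernel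
theorem relsK_ok : ∀ r ∈ relsAll relsL linv 13, ∀ y ∈ r, y < 13 := by decide +kernel
theorem fin_all : allBelow D.finalLabel 36 = true := by decide +kernel
theorem live_count : D.liveCount = 36 := by decide +kernel
theorem h0_ok : D.tg D.K 0 = 0 := by decide +kernel
theorem ok : Lk.OK Cfsg.Agent.Lib.Helper27.J2P.W Cfsg.Agent.Lib.Helper27.J2P.L.inv Cfsg.Agent.Lib.Helper27.J2P.L.K [4, 5, 6, 7, 8, 9, 10, 11, 12, 13, 14, 15] [8, 9, 10, 11, 12, 13, 14, 15] where
  Kall := rfl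
  invK := by decide +kernel
  invE := rfl
  relsIn := by decide +kernel
  Dpairs := rfl
  pairs := pairs_ok
  relsK := relsK_ok
  isSub := by
    intro x hx
    have hx' : subL.contains x = true := hx
    show x ∈ subL
    simpa using hx'
  sub := by decide +kernel
  check := check_all
  gens := by decide +kernel
  hm := by decide
  h0 := h0_ok
  fin := allBelow_iff.mp fin_all
  count := live_count

end Cfsg.Agent.Lib.Helper27.J2PLk1
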