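import Cfsg.Agent.Lib.Helper27.J2PData

set_option autoImplicit false
set_option maxRecDepth 100000

namespace Cfsg.Agent.Lib.Helper27.J2PLk2

open Cfsg.Agent.Lib.Helper28 Cfsg.Agent.Lib.Helper27.PC

noncomputable def tabC0 : Tr := .leaf 0x1213aa8960eb32b24c52a029a236185b073883445657802130040
noncomputable def auxC0 : Tr := .leaf 0x20635f3a9635212551a1333e193d018433066ae318e328600001800000
noncomputable def tabC1 : Tr := .leaf 0x2349a9897b57568c8143d2f908a472ea03428b1060d3894008460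
noncomputable def auxC1 : Tr := .leaf 0x402904b09c12ac604308e12228be471a10002b1308213c231200001000
noncomputable def tabC2 : Tr := .leaf 0x1b230547ac59128e51a35e2186369ad3174c43440218016038080
noncomputable def auxC2 : Tr := .leaf 0x30d29a93e87ae325713671ba311b03646a0f69a134e780d00000000000
noncomputable def tabC3 : Tr := .leaf 0x2527394a7c175205a344ab18c8619a13234441a020408580388a0
noncomputable def auxC3 : Tr := .leaf 0x44a69490dc1aad194c28e1d2481422a4520a294128003ca014000c1800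
noncomputable def tabC4 : Tr := .leaf 0x2b2a30cf284813b92473061615515c9e51060d9c240881a040020
noncomputable def auxC4 : Tr := .leaf 0x5309a6580880d03208a5b38905c0975483900a0f4e4800000000000001
noncomputable def tabC5 : Tr := .leaf 0x290ac54533d7781d0669dc818e3699925794f1938872a18210820
noncomputable def auxC5 : Tr := .leaf 0x4f1a16968a5a8b7a272d8d34b11701245a1a732652288ce216b1c22001
noncomputable def tabC6 : Tr := .leaf 0x292ac54533d6d8210669dc618e2e9912479cf0940892a18410c20
noncomputable def auxC6 : Tr := .leaf 0x4c8a0a920a2aae78a7158435b10b0224aa1b710656240c820ab2022801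
noncomputable def tabC7 : Tr := .leaf 0x294acca18a648839e618584694d12244140cef5c260529c048020
noncomputable def auxC7 : Tr := .leaf 0x4cca4a432064567cae58462e56185306904c3ac6594900049800000001
noncomputable def tabC8 : Tr := .leaf 0
noncomputable def auxC8 : Tr := .leaf 0
noncomputable def dC : Tr := .leaf 0x20128641c820c418430043884106208408470881082000300400400000
noncomputable def tabCols : List Tr := [tabC0, tabC1, tabC2, tabC3, tabC4, tabC5, tabC6, tabC7, tabC8]
noncomputable def auxCols : List Tr := [auxC0, auxC1, auxC2, auxC3, auxC4, auxC5, auxC6, auxC7, auxC8]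
def pairsC : List ((List ℕ × ℕ × List ℕ) × ℕ) := [
  (([0], 1, []), 8192),
  (([3, 1, 4, 0], 3, []), 6),
  (([1, 4, 7, 6, 0], 5, []), 5124),
  (([5], 6, []), 2050),
  (([1], 0, []), 9216),
  (([2, 0, 4, 7, 6, 1], 5, []), 6148),
  (([6], 6, []), 14336),
  (([3, 1, 4, 2], 1, []), 7172),
  (([2], 3, []), 10240),
  (([5], 5, []), 13312),
  (([7], 7, []), 15360),
  (([3], 2, []), 11264),
  (([0, 6, 7, 4, 1, 3], 5, []), 6147),
  (([0, 4, 7, 6, 1, 5], 2, []), 6150),
  (([4], 4, []), 12288),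
  (([1, 6, 7, 4, 0], 5, []), 5123),
  (([6, 7, 6], 7, []), 4102),
  (([0, 3, 3, 1], 4, []), 2),
  (([0, 0, 0, 3, 1, 1], 5, []), 1025),
  (([7, 4, 0, 5, 1], 6, []), 5131),
  (([4, 5, 4], 7, []), 3074),
  (([0, 2, 1, 1, 1, 5], 0, []), 1028),
  (([5, 0, 0, 0, 3, 1], 1, []), 1027),
  (([4, 7, 4], 5, []), 3078),
  (([6], 5, []), 2048),
  (([7, 6, 7], 6, []), 4096),
  (([4, 0, 2, 2], 1, []), 3),
  (([0, 5, 1, 6, 7], 4, []), 5127),
  (([2, 0, 3, 4], 0, []), 7175),
  (([4, 2, 1, 3], 1, []), 7176),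
  (([5, 4, 7], 4, []), 3076),
  (([3, 3, 1, 4], 0, []), 4),
  (([4, 7, 6, 0, 5], 1, []), 5126),
  (([1, 3, 1, 4], 2, []), 7170),
  (([5, 0, 6, 7, 4, 1], 3, []), 6149),
  (([6, 0, 5, 1, 4], 7, []), 5130),
  (([5, 1, 4, 7, 6], 0, []), 5122),
  (([7, 6, 0, 5, 1], 4, []), 5128),
  (([4, 7, 6, 1, 5, 2], 0, []), 6152),
  (([7, 6, 1, 5, 2, 0], 4, []), 6154),
  (([2, 1, 1, 1, 5, 0], 0, []), 1030),
  (([2, 1, 4, 0], 2, []), 7),
  (([1, 5, 0, 0, 2, 1], 1, []), 1036),
  (([1, 4, 2, 1], 3, []), 7174),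
  (([1, 5, 2, 0, 4, 7], 6, []), 6144),
  (([3, 1, 1, 5, 0, 0], 0, []), 1033),
  (([0, 2, 2, 1], 4, []), 1),
  (([0, 0, 2, 1, 1, 1], 5, []), 1026)]
def subL : List ℕ := [4, 5, 6, 7]
noncomputable def D : UB where
  tab := field tabCols 6 63 10 1023
  aux := field auxCols 6 63 11 2047
  dinfo := field [dC] 6 63 11 2047 0
  rb := 5
  RM := 31
  pb := 6
  PM := 63
  m := 21
  K := 8
  Kall := 9
  pairs := pairsC.map Prod.fst
  isSub := fun x => subL.contains x
  fuel := 4
def ren : ℕ → ℕ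
  | 0 => 8
  | 1 => 9
  | 2 => 10
  | 3 => 11
  | 4 => 12
  | 5 => 13
  | 6 => 14
  | 7 => 15
  | x => 0
def linv : ℕ → ℕ
  | 0 => 1
  | 1 => 0
  | 2 => 3
  | 3 => 2
  | 4 => 4
  | 5 => 5
  | 6 => 6
  | 7 => 7
  | x => x
def relsL : List (List ℕ) := [
  [4, 0, 3, 3, 1],
  [5, 0, 0, 2, 1, 1, 1],
  [6, 5],
  [7, 4, 5, 4],
  [7, 6, 7, 6],
  [0, 5, 1, 4, 7, 6],
  [1, 5, 2, 0, 4, 7, 6],
  [2, 1, 3, 1, 4]]
noncomputable def Lk : Link where
  D := D
  ren := ren
  inv := linv
  rels := relsL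
  pairsC := pairsC
  subL := subL
  n := 21
theorem chk_0 : allRange D.checkLabel 0 21 = true := by decide +kernel
theorem check_all : ∀ c < D.m, D.checkLabel c = true := by
  intro c hc
  have hc' : c < 21 := hc
  by_cases h0 : c < 21
  · exact allRange_iff.mp chk_0 c (by omega) (by omega)
  omega
theorem pairs_ok : pairsC.all (pairOK (relsAll relsL linv 9) linv 8 9) = true := by decide +kernel
theorem relsK_ok : ∀ r ∈ relsAll relsL linv 9, ∀ y ∈ r, y < 9 := by decide +kernel
theorem fin_all : allBelow D.finalLabel 21 = true := by decide +kernel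
theorem live_count : D.liveCount = 21 := by decide +kernel
theorem h0_ok : D.tg D.K 0 = 0 := by decide +kernel
theorem ok : Lk.OK Cfsg.Agent.Lib.Helper27.J2P.W Cfsg.Agent.Lib.Helper27.J2P.L.inv Cfsg.Agent.Lib.Helper27.J2P.L.K [8, 9, 10, 11, 12, 13, 14, 15] [12, 13, 14, 15] where
  Kall := rfl
  invK := by decide +kernel
  invE := rfl
  relsIn := by decide +kernel
  Dpairs := rfl
  pairs := pairs_ok
  relsK := relsK_ok
  isSub := by
    intro x hx
    have hx' : subL.contains x = true := hx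
    show x ∈ subL
    simpa using hx'
  sub := by decide +kernel
  check := check_all
  gens := by decide +kernel
  hm := by decide
  h0 := h0_ok
  fin := allBelow_iff.mp fin_all
  count := live_count

end Cfsg.Agent.Lib.Helper27.J2PLk2
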