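import Cfsg.Agent.Lib.Helper27.J2POrb
import Cfsg.Agent.Lib.Helper27.J2PLk0
import Cfsg.Agent.Lib.Helper27.J2PLk1
import Cfsg.Agent.Lib.Helper27.J2PLk2
import Cfsg.Agent.Lib.Helper27.J2PLk3
import Cfsg.Agent.Lib.Helper27.J2PLk4

set_option autoImplicit false
set_option maxRecDepth 100000

namespace Cfsg.Agent.Lib.Helper27.J2P

open Cfsg.Agent.Lib.Helper28 Cfsg.Agent.Lib.Helper27.PC

theorem lvl4 : Finite (Sg (val V) [14, 15]) ∧
    Nat.card (Sg (val V) [14, 15]) = 4 * Nat.card (Sg (val V) []) ∧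
    ∀ g ∈ Sg (val V) [14, 15], g 97 = 97 → g ∈ Sg (val V) [] :=
  level_orbit V relOK J2PLk4.Lk [14, 15] [] J2PLk4.ok lev4 [9, 86, 49, 0] lev4_ok
    (by decide +kernel) (by decide +kernel) (by decide +kernel) rfl (by rw [Sg_nil]; infer_instance)
theorem lvl3 : Finite (Sg (val V) [12, 13, 14, 15]) ∧
    Nat.card (Sg (val V) [12, 13, 14, 15]) = 2 * Nat.card (Sg (val V) [14, 15]) ∧
    ∀ g ∈ Sg (val V) [12, 13, 14, 15], g 9 = 9 → g ∈ Sg (val V) [14, 15] :=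
  level_orbit V relOK J2PLk3.Lk [12, 13, 14, 15] [14, 15] J2PLk3.ok lev3 [86, 49, 0] lev3_ok
    (by decide +kernel) (by decide +kernel) (by decide +kernel) rfl lvl4.1
theorem lvl2 : Finite (Sg (val V) [8, 9, 10, 11, 12, 13, 14, 15]) ∧
    Nat.card (Sg (val V) [8, 9, 10, 11, 12, 13, 14, 15]) = 21 * Nat.card (Sg (val V) [12, 13, 14, 15]) ∧
    ∀ g ∈ Sg (val V) [8, 9, 10, 11, 12, 13, 14, 15], g 86 = 86 → g ∈ Sg (val V) [12, 13, 14, 15] :=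
  level_orbit V relOK J2PLk2.Lk [8, 9, 10, 11, 12, 13, 14, 15] [12, 13, 14, 15] J2PLk2.ok lev2 [49, 0] lev2_ok
    (by decide +kernel) (by decide +kernel) (by decide +kernel) rfl lvl3.1
theorem lvl1 : Finite (Sg (val V) [4, 5, 6, 7, 8, 9, 10, 11, 12, 13, 14, 15]) ∧
    Nat.card (Sg (val V) [4, 5, 6, 7, 8, 9, 10, 11, 12, 13, 14, 15]) = 36 * Nat.card (Sg (val V) [8, 9, 10, 11, 12, 13, 14, 15]) ∧
    ∀ g ∈ Sg (val V) [4, 5, 6, 7, 8, 9, 10, 11, 12, 13, 14, 15], g 49 = 49 → g ∈ Sg (val V) [8, 9, 10, 11, 12, 13, 14, 15] :=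
  level_orbit V relOK J2PLk1.Lk [4, 5, 6, 7, 8, 9, 10, 11, 12, 13, 14, 15] [8, 9, 10, 11, 12, 13, 14, 15] J2PLk1.ok lev1 [0] lev1_ok
    (by decide +kernel) (by decide +kernel) (by decide +kernel) rfl lvl2.1
theorem lvl0 : Finite (Sg (val V) [0, 1, 2, 3, 4, 5, 6, 7, 8, 9, 10, 11, 12, 13, 14, 15]) ∧
    Nat.card (Sg (val V) [0, 1, 2, 3, 4, 5, 6, 7, 8, 9, 10, 11, 12, 13, 14, 15]) = 100 * Nat.card (Sg (val V) [4, 5, 6, 7, 8, 9, 10, 11, 12, 13, 14, 15]) ∧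
    ∀ g ∈ Sg (val V) [0, 1, 2, 3, 4, 5, 6, 7, 8, 9, 10, 11, 12, 13, 14, 15], g 0 = 0 → g ∈ Sg (val V) [4, 5, 6, 7, 8, 9, 10, 11, 12, 13, 14, 15] :=
  level_orbit V relOK J2PLk0.Lk [0, 1, 2, 3, 4, 5, 6, 7, 8, 9, 10, 11, 12, 13, 14, 15] [4, 5, 6, 7, 8, 9, 10, 11, 12, 13, 14, 15] J2PLk0.ok lev0 [] lev0_ok
    (by decide +kernel) (by decide +kernel) (by decide +kernel) rfl lvl1.1
theorem card0 : Nat.card (Sg (val V) [0, 1, 2, 3, 4, 5, 6, 7, 8, 9, 10, 11, 12, 13, 14, 15]) = 604800 := by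
  rw [lvl0.2.1, lvl1.2.1, lvl2.2.1, lvl3.2.1, lvl4.2.1, Sg_nil, Subgroup.card_bot]
def defs : List (ℕ × List ℕ) := [(4, [1, 3, 0, 3, 3, 0]), (6, [3, 3, 0, 3, 3, 1]), (8, [5, 5, 7, 5, 6, 5]), (10, [6, 4, 6, 5]), (12, [8, 11, 11, 9]), (13, [8, 8, 10, 9, 9, 9]), (14, [13]), (15, [12, 13, 12])]
theorem simple0 : IsSimpleGroup (Sg (val V) [0, 1, 2, 3, 4, 5, 6, 7, 8, 9, 10, 11, 12, 13, 14, 15]) :=
  simple_level V relOK [0, 1, 2, 3, 4, 5, 6, 7, 8, 9, 10, 11, 12, 13, 14, 15] [4, 5, 6, 7, 8, 9, 10, 11, 12, 13, 14, 15] 0 100 lvl0.1 (le_of_eq lvl0.2.1)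
    (by decide +kernel) (by decide) (by decide +kernel) so0 (allBelow_iff.mp so0_chk) so0_isL 3 (by norm_num)
    lev0 [] lev0_ok rfl (by decide +kernel) (by decide +kernel) (by decide +kernel)
    [1, 36, 63] so0_cnt (by decide) (by decide +kernel) (by decide +kernel)
    (faith_top V _ so0 3 (fun c hc => lt_of_blt (allBelow_iff.mp so0_all c hc)))
    5 2 1 (by norm_num) (by norm_num) (by rw [card0]; norm_num)
    [0, 2] (by decide +kernel) defs (by decide +kernel) (by decide +kernel) (by decide +kernel)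
    (by rw [card0]; norm_num)

end Cfsg.Agent.Lib.Helper27.J2P
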