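import Cfsg.Agent.Lib.Helper27.OctadOrbits

/-!
# Moving (octad, points) configurations to standard position; intersection sizes of octads
-/

set_option autoImplicit false

namespace Cfsg.Agent.Lib.Helper27

open Cfsg
open scoped Pointwise

theorem oflag0 {o : Finset GolayPt} (ho : o ∈ octads) : ∃ g ∈ M24, Maps g [o] [8536111] := by
  obtain ⟨g, hg, h⟩ := octad_to_std ho
  exact ⟨g, hg, maps_cons.2 ⟨h, maps_nil g⟩⟩

theorem oflag_in {o : Finset GolayPt} (ho : o ∈ octads) {x : GolayPt} (hx : x ∈ o) :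
    ∃ g ∈ M24, Maps g [{x}, o] [2 ^ 23, 8536111] := by
  obtain ⟨g, hg, h⟩ := oflag0 ho
  have h' := h
  simp only [maps_cons] at h'
  exact h.extend_pt hg (by norm_num) otrans_in (Maps.apply_mem h'.1 hx)

theorem oflag_out {o : Finset GolayPt} (ho : o ∈ octads) {x : GolayPt} (hx : x ∉ o) :
    ∃ g ∈ M24, Maps g [{x}, o] [2 ^ 4, 8536111] := by
  obtain ⟨g, hg, h⟩ := oflag0 ho
  have h' := h
  simp only [maps_cons] at h'
  have hm : ∀ q : GolayPt, q ∉ unmask 8536111 → q ∈ unmask 8241104 := by decide +kernel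
  exact h.extend_pt hg (by norm_num) otrans_out (hm _ (Maps.apply_not_mem h'.1 hx))

theorem oflag_in2 {o : Finset GolayPt} (ho : o ∈ octads) {p q : GolayPt} (hp : p ∈ o) (hq : q ∈ o)
    (hpq : p ≠ q) : ∃ g ∈ M24, Maps g [{q}, {p}, o] [2 ^ 0, 2 ^ 23, 8536111] := by
  obtain ⟨g, hg, h⟩ := oflag_in ho hp
  have h' := h
  simp only [maps_cons] at h'
  obtain ⟨ep, eo, _⟩ := h'
  have hm : ∀ q : GolayPt, q ∈ unmask 8536111 → q ≠ pt 23 → q ∈ unmask 147503 := by decide +kernel
  exact h.extend_pt hg (by norm_num) otrans_in2 (hm _ (Maps.apply_mem eo hq)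
    (fun e => hpq (g.injective (((smul_singleton_eq (by norm_num)).1 ep).trans e.symm))))

theorem pflag2 {p q : GolayPt} (hpq : p ≠ q) : ∃ g ∈ M24, Maps g [{q}, {p}] [2 ^ 0, 2 ^ 23] := by
  obtain ⟨g, hg, h1, h2⟩ := std2 hpq
  exact ⟨g, hg, maps_cons.2 ⟨(smul_singleton_eq (by norm_num)).2 h2,
    maps_cons.2 ⟨(smul_singleton_eq (by norm_num)).2 h1, maps_nil g⟩⟩⟩

/-- two codewords in the same orbit of the standard fixer (after moving by `t`) are conjugate under
the stabiliser of the configuration. -/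
theorem Maps.two_ext {t : Equiv.Perm GolayPt} {ss : List (Finset GolayPt)} {ms : List ℕ}
    (ht : t ∈ M24) (h : Maps t ss ms) {P : ℕ → Bool} {root : ℕ}
    (T : ∀ m, isCode m = true → P m = true → ∃ k ∈ fixer ms, k • unmask m = unmask root)
    {s s' : Finset GolayPt} (hs : s ∈ supports (golayCode : Set (GolayPt → ZMod 2)))
    (hs' : s' ∈ supports (golayCode : Set (GolayPt → ZMod 2)))
    (hP : P (mask (t • s)) = true) (hP' : P (mask (t • s')) = true) :
    ∃ g ∈ M24, g • s = s' ∧ ∀ u ∈ ss, g • u = u := by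
  obtain ⟨g1, hg1, m1⟩ := h.extend_code ht T hs hP
  obtain ⟨g2, hg2, m2⟩ := h.extend_code ht T hs' hP'
  have := m1.trans_inv m2
  rw [List.forall₂_cons, List.forall₂_same] at this
  exact ⟨g2⁻¹ * g1, M24.mul_mem (M24.inv_mem hg2) hg1, this.1, this.2⟩

/-- two octads meet in 0, 2, 4 or 8 points. -/
theorem octad_inter_card {o o' : Finset GolayPt} (ho : o ∈ octads) (ho' : o' ∈ octads) :
    (o ∩ o').card = 0 ∨ (o ∩ o').card = 2 ∨ (o ∩ o').card = 4 ∨ (o ∩ o').card = 8 := by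
  rw [mem_octads_iff] at ho ho'
  have h1 := pc_xor_add (mask_lt o) (mask_lt o')
  have h2 := pc_of_isCode (isCode_xor ho.1 ho'.1)
  rw [card_eq_pc, mask_inter]
  omega

theorem octad_eq_of_inter_card {o o' : Finset GolayPt} (ho : o ∈ octads) (ho' : o' ∈ octads)
    (h : (o ∩ o').card = 8) : o' = o :=
  (octads_eq_of_inter ho ho' (by omega)).symm

end Cfsg.Agent.Lib.Helper27
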