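import Cfsg.Agent.Lib.Helper27.OctadFlags

/-!
# The pointwise stabiliser of an octad: elementary abelian of order 16, regular on the complement
-/

set_option autoImplicit false

namespace Cfsg.Agent.Lib.Helper27

open Cfsg
open scoped Pointwise

/-- involution test on permutation codes. -/
def checkInvol (c : ℕ) : Bool := allBelow (fun i => Nat.beq (ent c (ent c i)) i) 24

theorem permOf_mul_self {c : ℕ} (hv : validCode c = true) (h : checkInvol c = true) :
    permOf c * permOf c = 1 := by
  apply Equiv.ext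
  intro p
  rw [Equiv.Perm.mul_apply, permOf_apply hv, permOf_apply hv,
    idx_pt (ent_lt_of_valid hv _ (idx_lt p))]
  have := (allBelow_iff _ _).1 h _ (idx_lt p)
  rw [Nat.beq_eq] at this
  rw [this, pt_idx]; rfl

/-- mask of the images of the point `b` under the coded permutations. -/
def imgMask (codes : List ℕ) (b : ℕ) : ℕ :=
  List.rec 0 (fun c _ ih => Nat.lor ih (Nat.shiftLeft 1 (ent c b))) codes

theorem imgMask_cons (c : ℕ) (l : List ℕ) (b : ℕ) :
    imgMask (c :: l) b = imgMask l b ||| (1 <<< ent c b) := rfl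

theorem exists_code_of_mem_imgMask (codes : List ℕ) (b : ℕ) (q : GolayPt)
    (hq : q ∈ unmask (imgMask codes b)) : ∃ c ∈ codes, ent c b = idx q := by
  induction codes with
  | nil => simp [imgMask] at hq
  | cons c l ih =>
    rw [imgMask_cons] at hq
    rcases (mem_unmask_or _ _ _).1 hq with hq | hq
    · obtain ⟨c', h1, h2⟩ := ih hq
      exact ⟨c', List.mem_cons_of_mem _ h1, h2⟩
    · refine ⟨c, List.mem_cons_self, ?_⟩
      rw [mem_unmask, Nat.one_shiftLeft, Nat.testBit_two_pow] at hq
      simpa using hq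

/-- a list of involutions of `fixer L` carrying `pt b` to every point of `unmask A`. -/
theorem exists_invol (L codes : List ℕ) {b : ℕ} (hb : b < 24) (A : ℕ)
    (h1 : allList (fun c => band (checkFix L c) (checkInvol c)) codes = true)
    (h2 : Nat.beq (imgMask codes b) A = true) :
    ∀ q ∈ unmask A, ∃ g ∈ fixer L, g (pt b) = q ∧ g * g = 1 := by
  rw [allList_iff] at h1
  rw [Nat.beq_eq] at h2
  intro q hq
  rw [← h2] at hq
  obtain ⟨c, hc, e⟩ := exists_code_of_mem_imgMask codes b q hq
  have := h1 c hc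
  rw [band_eq, Bool.and_eq_true] at this
  have hv := valid_of_checkFix this.1
  refine ⟨permOf c, permOf_mem_fixer this.1, ?_, permOf_mul_self hv this.2⟩
  rw [permOf_apply hv, idx_pt hb, e, pt_idx]

theorem fixer_mono {L L' : List ℕ} (h : ∀ m ∈ L, m ∈ L') : fixer L' ≤ fixer L :=
  fun _ hg => ⟨hg.1, fun m hm => hg.2 m (h m hm)⟩

/-- the eight points of the standard octad. -/
def PO : List ℕ := [2 ^ 5, 2 ^ 14, 2 ^ 17, 2 ^ 3, 2 ^ 2, 2 ^ 1, 2 ^ 0, 2 ^ 23]

theorem fixer_PO4 : fixer (2 ^ 4 :: PO) = ⊥ := by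
  rw [eq_bot_iff, ← fixer_L7]
  apply fixer_mono
  intro m hm
  simp only [L7, List.mem_cons, List.not_mem_nil, or_false] at hm
  simp only [PO, List.mem_cons, List.not_mem_nil, or_false]
  tauto

theorem invPO : IsInv PO 8241104 := inv5.mono.mono.mono

theorem PO_invols : ∀ q ∈ unmask 8241104, ∃ g ∈ fixer PO, g (pt 4) = q ∧ g * g = 1 :=
  exists_invol PO [984818244535754528103549039458486304, 965128854020860192151391391390468128, 963721886883755259286232606933354528, 979121071158219704299181131031480352, 968708902336673183175954409307867168, 967812279691448225500382947153381408, 971592882964418941354553515258775584, 970499966350631336865513127433832480, 976448692869377735270425038196672544, 981818691054096003685363657089320992, 972512676110088067912772961567868960, 966182099583441531322624363496310816, 983548720921252936276249910206105632, 975346028712660580592452217730074656, 980224387687010295957922729495201824, 961365507626256404119956257276790816]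
    (by norm_num) 8241104 (by decide +kernel) (by decide +kernel)

theorem PO_apply4 {g : Equiv.Perm GolayPt} (hg : g ∈ fixer PO) : g (pt 4) ∈ unmask 8241104 :=
  invPO.apply_mem (by decide +kernel) hg

theorem PO_eq_of_apply4 {g h : Equiv.Perm GolayPt} (hg : g ∈ fixer PO) (hh : h ∈ fixer PO)
    (e : g (pt 4) = h (pt 4)) : g = h := by
  have h1 : h⁻¹ * g ∈ fixer (2 ^ 4 :: PO) := by
    refine mem_fixer_cons.2 ⟨(fixer PO).mul_mem ((fixer PO).inv_mem hh) hg, ?_⟩
    rw [smul_unmask_two_pow (by norm_num), Equiv.Perm.mul_apply, e]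
    exact h.symm_apply_apply _
  rw [fixer_PO4, Subgroup.mem_bot, inv_mul_eq_one] at h1
  exact h1.symm

theorem PO_mul_self {g : Equiv.Perm GolayPt} (hg : g ∈ fixer PO) : g * g = 1 := by
  obtain ⟨h, hh, e, h2⟩ := PO_invols _ (PO_apply4 hg)
  rw [PO_eq_of_apply4 hg hh e.symm, h2]

theorem card_fixer_PO : Nat.card (fixer PO) = 16 := by
  rw [card_fixer_cons PO (b := 4) (by norm_num) 8241104
    (fun q hq => by obtain ⟨g, hg, e, _⟩ := PO_invols q hq; exact ⟨g, hg, e⟩)
    (fun g hg => PO_apply4 hg), fixer_PO4, Subgroup.card_bot]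
  decide +kernel

theorem mem_fixer_PO {h : Equiv.Perm GolayPt} :
    h ∈ fixer PO ↔ h ∈ M24 ∧ ∀ p ∈ unmask 8536111, h p = p := by
  constructor
  · intro hg
    refine ⟨hg.1, ?_⟩
    have h' : ∀ i, i < 24 → 2 ^ i ∈ PO → h (pt i) = pt i := fun i hi hm =>
      (smul_unmask_two_pow hi h).1 (hg.2 _ hm)
    have hp : ∀ p : GolayPt, p ∈ unmask 8536111 →
        p = pt 23 ∨ p = pt 0 ∨ p = pt 1 ∨ p = pt 2 ∨ p = pt 3 ∨ p = pt 5 ∨ p = pt 14 ∨ p = pt 17 := by
      decide +kernel
    intro p hpF
    rcases hp p hpF with rfl | rfl | rfl | rfl | rfl | rfl | rfl | rfl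
    · exact h' 23 (by norm_num) (by simp [PO])
    · exact h' 0 (by norm_num) (by simp [PO])
    · exact h' 1 (by norm_num) (by simp [PO])
    · exact h' 2 (by norm_num) (by simp [PO])
    · exact h' 3 (by norm_num) (by simp [PO])
    · exact h' 5 (by norm_num) (by simp [PO])
    · exact h' 14 (by norm_num) (by simp [PO])
    · exact h' 17 (by norm_num) (by simp [PO])
  · rintro ⟨h1, h2⟩
    refine ⟨h1, fun m hm => ?_⟩
    simp only [PO, List.mem_cons, List.not_mem_nil, or_false] at hm
    rcases hm with rfl | rfl | rfl | rfl | rfl | rfl | rfl | rfl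
    · exact (smul_unmask_two_pow (by norm_num) h).2 (h2 _ (by decide +kernel))
    · exact (smul_unmask_two_pow (by norm_num) h).2 (h2 _ (by decide +kernel))
    · exact (smul_unmask_two_pow (by norm_num) h).2 (h2 _ (by decide +kernel))
    · exact (smul_unmask_two_pow (by norm_num) h).2 (h2 _ (by decide +kernel))
    · exact (smul_unmask_two_pow (by norm_num) h).2 (h2 _ (by decide +kernel))
    · exact (smul_unmask_two_pow (by norm_num) h).2 (h2 _ (by decide +kernel))
    · exact (smul_unmask_two_pow (by norm_num) h).2 (h2 _ (by decide +kernel))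
    · exact (smul_unmask_two_pow (by norm_num) h).2 (h2 _ (by decide +kernel))

/-- conjugating the pointwise stabiliser of an octad onto the standard one. -/
theorem map_conj_pointwise {o : Finset GolayPt} {t : Equiv.Perm GolayPt} (ht : t ∈ M24)
    (e : t • o = unmask 8536111) :
    (M24 ⊓ fixingSubgroup (Equiv.Perm GolayPt) (o : Set GolayPt)).map (MulAut.conj t).toMonoidHom
      = fixer PO := by
  ext h
  rw [mem_fixer_PO, Subgroup.mem_map]
  constructor
  · rintro ⟨g, hg, rfl⟩
    obtain ⟨hg1, hg2⟩ := Subgroup.mem_inf.1 hg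
    rw [mem_fixingSubgroup_iff] at hg2
    refine ⟨M24.mul_mem (M24.mul_mem ht hg1) (M24.inv_mem ht), fun p hp => ?_⟩
    rw [← e] at hp
    obtain ⟨y, hy, rfl⟩ := Finset.mem_smul_finset.1 hp
    show t (g (t⁻¹ (t y))) = t y
    have e1 : t⁻¹ (t y) = y := t.symm_apply_apply y
    rw [e1]
    exact congrArg t (hg2 y hy)
  · rintro ⟨h1, h2⟩
    refine ⟨t⁻¹ * h * t, Subgroup.mem_inf.2
      ⟨M24.mul_mem (M24.mul_mem (M24.inv_mem ht) h1) ht, ?_⟩, ?_⟩
    · rw [mem_fixingSubgroup_iff]
      intro y hy
      show t⁻¹ (h (t y)) = y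
      rw [h2 (t y) (by rw [← e]; exact Finset.smul_mem_smul_finset hy)]
      exact t.symm_apply_apply y
    · show t * (t⁻¹ * h * t) * t⁻¹ = h
      group

theorem card_pointwise_octad {o : Finset GolayPt} (ho : o ∈ octads) :
    Nat.card ↥(M24 ⊓ fixingSubgroup (Equiv.Perm GolayPt) (o : Set GolayPt)) = 16 := by
  obtain ⟨t, ht, e⟩ := octad_to_std ho
  rw [← card_fixer_PO, ← map_conj_pointwise ht e]
  exact (Subgroup.card_map_of_injective (MulAut.conj t).injective).symm

theorem mul_self_pointwise_octad {o : Finset GolayPt} (ho : o ∈ octads)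
    {g : Equiv.Perm GolayPt}
    (hg : g ∈ M24 ⊓ fixingSubgroup (Equiv.Perm GolayPt) (o : Set GolayPt)) : g * g = 1 := by
  obtain ⟨t, ht, e⟩ := octad_to_std ho
  have h1 : t * g * t⁻¹ ∈ fixer PO := by
    rw [← map_conj_pointwise ht e]
    exact ⟨g, hg, rfl⟩
  have h2 := PO_mul_self h1
  have h3 : t * (g * g) * t⁻¹ = 1 := by
    rw [← h2]; group
  have h4 : g * g = t⁻¹ * (t * (g * g) * t⁻¹) * t := by group
  rw [h4, h3]; group

end Cfsg.Agent.Lib.Helper27
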