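import Cfsg.Agent.Lib.Helper27.Chain

/-!
# The octads span the code; `M24` is the automorphism group of the octad system
-/

set_option autoImplicit false

namespace Cfsg.Agent.Lib.Helper27

open Cfsg
open scoped Pointwise

theorem symmDiff_mem_supports {s t : Finset GolayPt}
    (hs : s ∈ supports (golayCode : Set (GolayPt → ZMod 2)))
    (ht : t ∈ supports (golayCode : Set (GolayPt → ZMod 2))) :
    symmDiff s t ∈ supports (golayCode : Set (GolayPt → ZMod 2)) := by
  rw [mem_supports_iff] at *
  rw [mask_symmDiff]; exact isCode_xor hs ht

theorem basisMask_octad : ∀ j < 12, isCode (basisMask j) = true ∧ pc (basisMask j) = 8 := by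
  have h : allBelow (fun j => band (isCode (basisMask j)) (Nat.beq (pc (basisMask j)) 8)) 12 = true := by
    decide +kernel
  intro j hj
  have := (allBelow_iff _ _).1 h j hj
  rwa [band_eq, Bool.and_eq_true, Nat.beq_eq] at this

/-- induction principle: a property of masks closed under `xor`, true at `0` and at octads,
holds for all codewords. -/
theorem isCode_induction (P : ℕ → Prop) (h0 : P 0)
    (hx : ∀ a b, a < 2 ^ 24 → b < 2 ^ 24 → P a → P b → P (a ^^^ b))
    (ho : ∀ o, isCode o = true → pc o = 8 → P o) {m : ℕ} (hm : isCode m = true) : P m := by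
  have key : ∀ k n, n ≤ 12 → P (encAux k n) := by
    intro k n
    induction n with
    | zero => intro _; rw [encAux_zero]; exact h0
    | succ n ih =>
      intro hn
      rw [encAux_succ, bit_mul]
      by_cases h : k.testBit n = true
      · rw [if_pos h]
        exact hx _ _ (encAux_lt k n) (basisMask_lt n) (ih (by omega))
          (ho _ (basisMask_octad n (by omega)).1 (basisMask_octad n (by omega)).2)
      · rw [if_neg h, Nat.xor_zero]; exact ih (by omega)
  rw [isCode_iff, enc_eq_encSpec] at hm
  rw [← hm]
  exact key m 12 le_rfl

theorem octads_finite : octads.Finite := Set.toFinite _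

theorem M24_eq_setSystemAut_octads : M24 = setSystemAut octads := by
  ext g
  constructor
  · intro hg
    show g ∈ MulAction.stabilizer _ _
    rw [MulAction.mem_stabilizer_set_iff_smul_set_subset octads_finite]
    rintro _ ⟨s, hs, rfl⟩
    exact smul_mem_octads hg hs
  · intro hg
    have hg' : g • octads = octads := hg
    show g ∈ MulAction.stabilizer _ _
    rw [MulAction.mem_stabilizer_set_iff_smul_set_subset supports_finite]
    rintro _ ⟨s, hs, rfl⟩
    show g • s ∈ _
    rw [mem_supports_iff] at hs
    have := isCode_induction
      (fun m => g • unmask m ∈ supports (golayCode : Set (GolayPt → ZMod 2))) ?_ ?_ ?_ hs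
    · simpa using this
    · have e : unmask 0 = ∅ := by ext p; simp
      show g • unmask 0 ∈ _
      rw [e, Finset.smul_finset_empty, mem_supports_iff]
      decide +kernel
    · intro a b ha hb h1 h2
      show g • unmask (a ^^^ b) ∈ _
      rw [unmask_xor ha hb, smul_symmDiff]
      exact symmDiff_mem_supports h1 h2
    · intro o h1 h2
      have h3 : g • unmask o ∈ g • octads := Set.smul_mem_smul_set (unmask_mem_octads h1 h2)
      rw [hg'] at h3
      exact h3.1

end Cfsg.Agent.Lib.Helper27
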