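import Cfsg.Agent.Lib.Helper27.G3PMat
import Cfsg.Agent.Lib.Helper27.G2Word
import Cfsg.Agent.Lib.Helper27.Re3Main
import Cfsg.Prelude.Def_LieTwisted

set_option autoImplicit false
set_option maxRecDepth 100000

namespace Cfsg.Agent.Lib.Helper27.Re3

open Cfsg.Agent.Lib.Helper28 Cfsg.Agent.Lib.Helper27.PC Cfsg.Agent.Lib.Helper27.G2Vec Cfsg.Agent.Lib.Helper27.G3P Cfsg.Lie Matrix

noncomputable def orbC : Tr := .leaf 0x2487537d1b8d727e34455b108ae3a4178bd91853d3344f8c650410dcf8f1e313e6f7110e27c4da93bc360f10614f4d0490a612603c73afe90edcb17283e22b6a3cc69e7877a6ec56b5c840f3f751f800d86c6469184830a2f79b587db875a7f5eb92724b4797507928248593c678327866545bea720dc928550c4a6bc870edcb6d8fd45710a66e115d1224d0f3c8ffecc1f16006d9e251b8ce1f632b000009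
noncomputable def orb : ℕ → ℕ := field [orbC] 6 63 23 8388607 0
noncomputable def vec (i : ℕ) : chevG2.Idx → ZMod 3 := vecOf (orb i)
theorem wU000_eq : reeWordU 1 (0 : ZMod 3) (0 : ZMod 3) (0 : ZMod 3) = [(7, 0), (6, 0), (8, 0), (9, 0), (10, 0), (11, 0)] := by decide +kernel
theorem wU000_chk : allBelow (fun i => Nat.beq (applyW [rm7_0, rm6_0, rm8_0, rm9_0, rm10_0, rm11_0] (orb i)) (orb i)) 56 = true := by decide +kernel
theorem wU000_act : ∀ i < 56, chevG2.wordMat (ZMod 3) (reeWordU 1 (0 : ZMod 3) (0 : ZMod 3) (0 : ZMod 3)) *ᵥ vec i = vec (i) := by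
  intro i hi
  unfold vec
  rw [wU000_eq, wordMat_mulVec _ [rm7_0, rm6_0, rm8_0, rm9_0, rm10_0, rm11_0] (.cons (HM_x (by decide) hm7_0) (.cons (HM_x (by decide) hm6_0) (.cons (HM_x (by decide) hm8_0) (.cons (HM_x (by decide) hm9_0) (.cons (HM_x (by decide) hm10_0) (.cons (HM_x (by decide) hm11_0) .nil)))))), eq_of_nbeq (allBelow_iff.mp wU000_chk i hi)]
theorem wU001_eq : reeWordU 1 (0 : ZMod 3) (0 : ZMod 3) (1 : ZMod 3) = [(7, 0), (6, 0), (8, 0), (9, 1), (10, 0), (11, 1)] := by decide +kernel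
theorem wU001_chk : allBelow (fun i => Nat.beq (applyW [rm7_0, rm6_0, rm8_0, rm9_1, rm10_0, rm11_1] (orb i)) (orb (L.pt 0 i - 1))) 56 = true := by decide +kernel
theorem wU001_act : ∀ i < 56, chevG2.wordMat (ZMod 3) (reeWordU 1 (0 : ZMod 3) (0 : ZMod 3) (1 : ZMod 3)) *ᵥ vec i = vec (LB.perm V 0 i) := by
  intro i hi
  unfold vec
  rw [wU001_eq, wordMat_mulVec _ [rm7_0, rm6_0, rm8_0, rm9_1, rm10_0, rm11_1] (.cons (HM_x (by decide) hm7_0) (.cons (HM_x (by decide) hm6_0) (.cons (HM_x (by decide) hm8_0) (.cons (HM_x (by decide) hm9_1) (.cons (HM_x (by decide) hm10_0) (.cons (HM_x (by decide) hm11_1) .nil)))))), eq_of_nbeq (allBelow_iff.mp wU001_chk i hi)]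
  rw [LB.perm_apply V (by decide : 0 < L.K)]
  unfold LB.actN
  rw [if_pos (show i < L.n from lt_trans hi (by decide))]
theorem wU002_eq : reeWordU 1 (0 : ZMod 3) (0 : ZMod 3) (2 : ZMod 3) = [(7, 0), (6, 0), (8, 0), (9, 2), (10, 0), (11, 2)] := by decide +kernel
theorem wU002_chk : allBelow (fun i => Nat.beq (applyW [rm7_0, rm6_0, rm8_0, rm9_2, rm10_0, rm11_2] (orb i)) (orb (L.pt 1 i - 1))) 56 = true := by decide +kernel
theorem wU002_act : ∀ i < 56, chevG2.wordMat (ZMod 3) (reeWordU 1 (0 : ZMod 3) (0 : ZMod 3) (2 : ZMod 3)) *ᵥ vec i = vec (LB.perm V 1 i) := by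
  intro i hi
  unfold vec
  rw [wU002_eq, wordMat_mulVec _ [rm7_0, rm6_0, rm8_0, rm9_2, rm10_0, rm11_2] (.cons (HM_x (by decide) hm7_0) (.cons (HM_x (by decide) hm6_0) (.cons (HM_x (by decide) hm8_0) (.cons (HM_x (by decide) hm9_2) (.cons (HM_x (by decide) hm10_0) (.cons (HM_x (by decide) hm11_2) .nil)))))), eq_of_nbeq (allBelow_iff.mp wU002_chk i hi)]
  rw [LB.perm_apply V (by decide : 1 < L.K)]
  unfold LB.actN
  rw [if_pos (show i < L.n from lt_trans hi (by decide))]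
theorem wU010_eq : reeWordU 1 (0 : ZMod 3) (1 : ZMod 3) (0 : ZMod 3) = [(7, 0), (6, 0), (8, 1), (9, 0), (10, 1), (11, 0)] := by decide +kernel
theorem wU010_chk : allBelow (fun i => Nat.beq (applyW [rm7_0, rm6_0, rm8_1, rm9_0, rm10_1, rm11_0] (orb i)) (orb (L.pt 2 i - 1))) 56 = true := by decide +kernel
theorem wU010_act : ∀ i < 56, chevG2.wordMat (ZMod 3) (reeWordU 1 (0 : ZMod 3) (1 : ZMod 3) (0 : ZMod 3)) *ᵥ vec i = vec (LB.perm V 2 i) := by
  intro i hi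
  unfold vec
  rw [wU010_eq, wordMat_mulVec _ [rm7_0, rm6_0, rm8_1, rm9_0, rm10_1, rm11_0] (.cons (HM_x (by decide) hm7_0) (.cons (HM_x (by decide) hm6_0) (.cons (HM_x (by decide) hm8_1) (.cons (HM_x (by decide) hm9_0) (.cons (HM_x (by decide) hm10_1) (.cons (HM_x (by decide) hm11_0) .nil)))))), eq_of_nbeq (allBelow_iff.mp wU010_chk i hi)]
  rw [LB.perm_apply V (by decide : 2 < L.K)]
  unfold LB.actN
  rw [if_pos (show i < L.n from lt_trans hi (by decide))]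
theorem wU011_eq : reeWordU 1 (0 : ZMod 3) (1 : ZMod 3) (1 : ZMod 3) = [(7, 0), (6, 0), (8, 1), (9, 1), (10, 1), (11, 1)] := by decide +kernel
theorem wU011_chk : allBelow (fun i => Nat.beq (applyW [rm7_0, rm6_0, rm8_1, rm9_1, rm10_1, rm11_1] (orb i)) (orb (L.pt 4 i - 1))) 56 = true := by decide +kernel
theorem wU011_act : ∀ i < 56, chevG2.wordMat (ZMod 3) (reeWordU 1 (0 : ZMod 3) (1 : ZMod 3) (1 : ZMod 3)) *ᵥ vec i = vec (LB.perm V 4 i) := by
  intro i hi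
  unfold vec
  rw [wU011_eq, wordMat_mulVec _ [rm7_0, rm6_0, rm8_1, rm9_1, rm10_1, rm11_1] (.cons (HM_x (by decide) hm7_0) (.cons (HM_x (by decide) hm6_0) (.cons (HM_x (by decide) hm8_1) (.cons (HM_x (by decide) hm9_1) (.cons (HM_x (by decide) hm10_1) (.cons (HM_x (by decide) hm11_1) .nil)))))), eq_of_nbeq (allBelow_iff.mp wU011_chk i hi)]
  rw [LB.perm_apply V (by decide : 4 < L.K)]
  unfold LB.actN
  rw [if_pos (show i < L.n from lt_trans hi (by decide))]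
theorem wU012_eq : reeWordU 1 (0 : ZMod 3) (1 : ZMod 3) (2 : ZMod 3) = [(7, 0), (6, 0), (8, 1), (9, 2), (10, 1), (11, 2)] := by decide +kernel
theorem wU012_chk : allBelow (fun i => Nat.beq (applyW [rm7_0, rm6_0, rm8_1, rm9_2, rm10_1, rm11_2] (orb i)) (orb (L.pt 6 i - 1))) 56 = true := by decide +kernel
theorem wU012_act : ∀ i < 56, chevG2.wordMat (ZMod 3) (reeWordU 1 (0 : ZMod 3) (1 : ZMod 3) (2 : ZMod 3)) *ᵥ vec i = vec (LB.perm V 6 i) := by
  intro i hi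
  unfold vec
  rw [wU012_eq, wordMat_mulVec _ [rm7_0, rm6_0, rm8_1, rm9_2, rm10_1, rm11_2] (.cons (HM_x (by decide) hm7_0) (.cons (HM_x (by decide) hm6_0) (.cons (HM_x (by decide) hm8_1) (.cons (HM_x (by decide) hm9_2) (.cons (HM_x (by decide) hm10_1) (.cons (HM_x (by decide) hm11_2) .nil)))))), eq_of_nbeq (allBelow_iff.mp wU012_chk i hi)]
  rw [LB.perm_apply V (by decide : 6 < L.K)]
  unfold LB.actN
  rw [if_pos (show i < L.n from lt_trans hi (by decide))]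
theorem wU020_eq : reeWordU 1 (0 : ZMod 3) (2 : ZMod 3) (0 : ZMod 3) = [(7, 0), (6, 0), (8, 2), (9, 0), (10, 2), (11, 0)] := by decide +kernel
theorem wU020_chk : allBelow (fun i => Nat.beq (applyW [rm7_0, rm6_0, rm8_2, rm9_0, rm10_2, rm11_0] (orb i)) (orb (L.pt 3 i - 1))) 56 = true := by decide +kernel
theorem wU020_act : ∀ i < 56, chevG2.wordMat (ZMod 3) (reeWordU 1 (0 : ZMod 3) (2 : ZMod 3) (0 : ZMod 3)) *ᵥ vec i = vec (LB.perm V 3 i) := by
  intro i hi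
  unfold vec
  rw [wU020_eq, wordMat_mulVec _ [rm7_0, rm6_0, rm8_2, rm9_0, rm10_2, rm11_0] (.cons (HM_x (by decide) hm7_0) (.cons (HM_x (by decide) hm6_0) (.cons (HM_x (by decide) hm8_2) (.cons (HM_x (by decide) hm9_0) (.cons (HM_x (by decide) hm10_2) (.cons (HM_x (by decide) hm11_0) .nil)))))), eq_of_nbeq (allBelow_iff.mp wU020_chk i hi)]
  rw [LB.perm_apply V (by decide : 3 < L.K)]
  unfold LB.actN
  rw [if_pos (show i < L.n from lt_trans hi (by decide))]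
theorem wU021_eq : reeWordU 1 (0 : ZMod 3) (2 : ZMod 3) (1 : ZMod 3) = [(7, 0), (6, 0), (8, 2), (9, 1), (10, 2), (11, 1)] := by decide +kernel
theorem wU021_chk : allBelow (fun i => Nat.beq (applyW [rm7_0, rm6_0, rm8_2, rm9_1, rm10_2, rm11_1] (orb i)) (orb (L.pt 7 i - 1))) 56 = true := by decide +kernel
theorem wU021_act : ∀ i < 56, chevG2.wordMat (ZMod 3) (reeWordU 1 (0 : ZMod 3) (2 : ZMod 3) (1 : ZMod 3)) *ᵥ vec i = vec (LB.perm V 7 i) := by
  intro i hi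
  unfold vec
  rw [wU021_eq, wordMat_mulVec _ [rm7_0, rm6_0, rm8_2, rm9_1, rm10_2, rm11_1] (.cons (HM_x (by decide) hm7_0) (.cons (HM_x (by decide) hm6_0) (.cons (HM_x (by decide) hm8_2) (.cons (HM_x (by decide) hm9_1) (.cons (HM_x (by decide) hm10_2) (.cons (HM_x (by decide) hm11_1) .nil)))))), eq_of_nbeq (allBelow_iff.mp wU021_chk i hi)]
  rw [LB.perm_apply V (by decide : 7 < L.K)]
  unfold LB.actN
  rw [if_pos (show i < L.n from lt_trans hi (by decide))]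
theorem wU022_eq : reeWordU 1 (0 : ZMod 3) (2 : ZMod 3) (2 : ZMod 3) = [(7, 0), (6, 0), (8, 2), (9, 2), (10, 2), (11, 2)] := by decide +kernel
theorem wU022_chk : allBelow (fun i => Nat.beq (applyW [rm7_0, rm6_0, rm8_2, rm9_2, rm10_2, rm11_2] (orb i)) (orb (L.pt 5 i - 1))) 56 = true := by decide +kernel
theorem wU022_act : ∀ i < 56, chevG2.wordMat (ZMod 3) (reeWordU 1 (0 : ZMod 3) (2 : ZMod 3) (2 : ZMod 3)) *ᵥ vec i = vec (LB.perm V 5 i) := by
  intro i hi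
  unfold vec
  rw [wU022_eq, wordMat_mulVec _ [rm7_0, rm6_0, rm8_2, rm9_2, rm10_2, rm11_2] (.cons (HM_x (by decide) hm7_0) (.cons (HM_x (by decide) hm6_0) (.cons (HM_x (by decide) hm8_2) (.cons (HM_x (by decide) hm9_2) (.cons (HM_x (by decide) hm10_2) (.cons (HM_x (by decide) hm11_2) .nil)))))), eq_of_nbeq (allBelow_iff.mp wU022_chk i hi)]
  rw [LB.perm_apply V (by decide : 5 < L.K)]
  unfold LB.actN
  rw [if_pos (show i < L.n from lt_trans hi (by decide))]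
theorem wU100_eq : reeWordU 1 (1 : ZMod 3) (0 : ZMod 3) (0 : ZMod 3) = [(7, 1), (6, 1), (8, 1), (9, 1), (10, 0), (11, 0)] := by decide +kernel
theorem wU100_chk : allBelow (fun i => Nat.beq (applyW [rm7_1, rm6_1, rm8_1, rm9_1, rm10_0, rm11_0] (orb i)) (orb (L.pt 8 i - 1))) 56 = true := by decide +kernel
theorem wU100_act : ∀ i < 56, chevG2.wordMat (ZMod 3) (reeWordU 1 (1 : ZMod 3) (0 : ZMod 3) (0 : ZMod 3)) *ᵥ vec i = vec (LB.perm V 8 i) := by
  intro i hi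
  unfold vec
  rw [wU100_eq, wordMat_mulVec _ [rm7_1, rm6_1, rm8_1, rm9_1, rm10_0, rm11_0] (.cons (HM_x (by decide) hm7_1) (.cons (HM_x (by decide) hm6_1) (.cons (HM_x (by decide) hm8_1) (.cons (HM_x (by decide) hm9_1) (.cons (HM_x (by decide) hm10_0) (.cons (HM_x (by decide) hm11_0) .nil)))))), eq_of_nbeq (allBelow_iff.mp wU100_chk i hi)]
  rw [LB.perm_apply V (by decide : 8 < L.K)]
  unfold LB.actN
  rw [if_pos (show i < L.n from lt_trans hi (by decide))]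
theorem wU101_eq : reeWordU 1 (1 : ZMod 3) (0 : ZMod 3) (1 : ZMod 3) = [(7, 1), (6, 1), (8, 1), (9, 2), (10, 0), (11, 1)] := by decide +kernel
theorem wU101_chk : allBelow (fun i => Nat.beq (applyW [rm7_1, rm6_1, rm8_1, rm9_2, rm10_0, rm11_1] (orb i)) (orb (L.pt 10 i - 1))) 56 = true := by decide +kernel
theorem wU101_act : ∀ i < 56, chevG2.wordMat (ZMod 3) (reeWordU 1 (1 : ZMod 3) (0 : ZMod 3) (1 : ZMod 3)) *ᵥ vec i = vec (LB.perm V 10 i) := by
  intro i hi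
  unfold vec
  rw [wU101_eq, wordMat_mulVec _ [rm7_1, rm6_1, rm8_1, rm9_2, rm10_0, rm11_1] (.cons (HM_x (by decide) hm7_1) (.cons (HM_x (by decide) hm6_1) (.cons (HM_x (by decide) hm8_1) (.cons (HM_x (by decide) hm9_2) (.cons (HM_x (by decide) hm10_0) (.cons (HM_x (by decide) hm11_1) .nil)))))), eq_of_nbeq (allBelow_iff.mp wU101_chk i hi)]
  rw [LB.perm_apply V (by decide : 10 < L.K)]
  unfold LB.actN
  rw [if_pos (show i < L.n from lt_trans hi (by decide))]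
theorem wU102_eq : reeWordU 1 (1 : ZMod 3) (0 : ZMod 3) (2 : ZMod 3) = [(7, 1), (6, 1), (8, 1), (9, 0), (10, 0), (11, 2)] := by decide +kernel
theorem wU102_chk : allBelow (fun i => Nat.beq (applyW [rm7_1, rm6_1, rm8_1, rm9_0, rm10_0, rm11_2] (orb i)) (orb (L.pt 12 i - 1))) 56 = true := by decide +kernel
theorem wU102_act : ∀ i < 56, chevG2.wordMat (ZMod 3) (reeWordU 1 (1 : ZMod 3) (0 : ZMod 3) (2 : ZMod 3)) *ᵥ vec i = vec (LB.perm V 12 i) := by
  intro i hi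
  unfold vec
  rw [wU102_eq, wordMat_mulVec _ [rm7_1, rm6_1, rm8_1, rm9_0, rm10_0, rm11_2] (.cons (HM_x (by decide) hm7_1) (.cons (HM_x (by decide) hm6_1) (.cons (HM_x (by decide) hm8_1) (.cons (HM_x (by decide) hm9_0) (.cons (HM_x (by decide) hm10_0) (.cons (HM_x (by decide) hm11_2) .nil)))))), eq_of_nbeq (allBelow_iff.mp wU102_chk i hi)]
  rw [LB.perm_apply V (by decide : 12 < L.K)]
  unfold LB.actN
  rw [if_pos (show i < L.n from lt_trans hi (by decide))]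
theorem wU110_eq : reeWordU 1 (1 : ZMod 3) (1 : ZMod 3) (0 : ZMod 3) = [(7, 1), (6, 1), (8, 2), (9, 1), (10, 1), (11, 0)] := by decide +kernel
theorem wU110_chk : allBelow (fun i => Nat.beq (applyW [rm7_1, rm6_1, rm8_2, rm9_1, rm10_1, rm11_0] (orb i)) (orb (L.pt 14 i - 1))) 56 = true := by decide +kernel
theorem wU110_act : ∀ i < 56, chevG2.wordMat (ZMod 3) (reeWordU 1 (1 : ZMod 3) (1 : ZMod 3) (0 : ZMod 3)) *ᵥ vec i = vec (LB.perm V 14 i) := by
  intro i hi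
  unfold vec
  rw [wU110_eq, wordMat_mulVec _ [rm7_1, rm6_1, rm8_2, rm9_1, rm10_1, rm11_0] (.cons (HM_x (by decide) hm7_1) (.cons (HM_x (by decide) hm6_1) (.cons (HM_x (by decide) hm8_2) (.cons (HM_x (by decide) hm9_1) (.cons (HM_x (by decide) hm10_1) (.cons (HM_x (by decide) hm11_0) .nil)))))), eq_of_nbeq (allBelow_iff.mp wU110_chk i hi)]
  rw [LB.perm_apply V (by decide : 14 < L.K)]
  unfold LB.actN
  rw [if_pos (show i < L.n from lt_trans hi (by decide))]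
theorem wU111_eq : reeWordU 1 (1 : ZMod 3) (1 : ZMod 3) (1 : ZMod 3) = [(7, 1), (6, 1), (8, 2), (9, 2), (10, 1), (11, 1)] := by decide +kernel
theorem wU111_chk : allBelow (fun i => Nat.beq (applyW [rm7_1, rm6_1, rm8_2, rm9_2, rm10_1, rm11_1] (orb i)) (orb (L.pt 16 i - 1))) 56 = true := by decide +kernel
theorem wU111_act : ∀ i < 56, chevG2.wordMat (ZMod 3) (reeWordU 1 (1 : ZMod 3) (1 : ZMod 3) (1 : ZMod 3)) *ᵥ vec i = vec (LB.perm V 16 i) := by
  intro i hi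
  unfold vec
  rw [wU111_eq, wordMat_mulVec _ [rm7_1, rm6_1, rm8_2, rm9_2, rm10_1, rm11_1] (.cons (HM_x (by decide) hm7_1) (.cons (HM_x (by decide) hm6_1) (.cons (HM_x (by decide) hm8_2) (.cons (HM_x (by decide) hm9_2) (.cons (HM_x (by decide) hm10_1) (.cons (HM_x (by decide) hm11_1) .nil)))))), eq_of_nbeq (allBelow_iff.mp wU111_chk i hi)]
  rw [LB.perm_apply V (by decide : 16 < L.K)]
  unfold LB.actN
  rw [if_pos (show i < L.n from lt_trans hi (by decide))]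
theorem wU112_eq : reeWordU 1 (1 : ZMod 3) (1 : ZMod 3) (2 : ZMod 3) = [(7, 1), (6, 1), (8, 2), (9, 0), (10, 1), (11, 2)] := by decide +kernel
theorem wU112_chk : allBelow (fun i => Nat.beq (applyW [rm7_1, rm6_1, rm8_2, rm9_0, rm10_1, rm11_2] (orb i)) (orb (L.pt 18 i - 1))) 56 = true := by decide +kernel
theorem wU112_act : ∀ i < 56, chevG2.wordMat (ZMod 3) (reeWordU 1 (1 : ZMod 3) (1 : ZMod 3) (2 : ZMod 3)) *ᵥ vec i = vec (LB.perm V 18 i) := by
  intro i hi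
  unfold vec
  rw [wU112_eq, wordMat_mulVec _ [rm7_1, rm6_1, rm8_2, rm9_0, rm10_1, rm11_2] (.cons (HM_x (by decide) hm7_1) (.cons (HM_x (by decide) hm6_1) (.cons (HM_x (by decide) hm8_2) (.cons (HM_x (by decide) hm9_0) (.cons (HM_x (by decide) hm10_1) (.cons (HM_x (by decide) hm11_2) .nil)))))), eq_of_nbeq (allBelow_iff.mp wU112_chk i hi)]
  rw [LB.perm_apply V (by decide : 18 < L.K)]
  unfold LB.actN
  rw [if_pos (show i < L.n from lt_trans hi (by decide))]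
theorem wU120_eq : reeWordU 1 (1 : ZMod 3) (2 : ZMod 3) (0 : ZMod 3) = [(7, 1), (6, 1), (8, 0), (9, 1), (10, 2), (11, 0)] := by decide +kernel
theorem wU120_chk : allBelow (fun i => Nat.beq (applyW [rm7_1, rm6_1, rm8_0, rm9_1, rm10_2, rm11_0] (orb i)) (orb (L.pt 20 i - 1))) 56 = true := by decide +kernel
theorem wU120_act : ∀ i < 56, chevG2.wordMat (ZMod 3) (reeWordU 1 (1 : ZMod 3) (2 : ZMod 3) (0 : ZMod 3)) *ᵥ vec i = vec (LB.perm V 20 i) := by
  intro i hi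
  unfold vec
  rw [wU120_eq, wordMat_mulVec _ [rm7_1, rm6_1, rm8_0, rm9_1, rm10_2, rm11_0] (.cons (HM_x (by decide) hm7_1) (.cons (HM_x (by decide) hm6_1) (.cons (HM_x (by decide) hm8_0) (.cons (HM_x (by decide) hm9_1) (.cons (HM_x (by decide) hm10_2) (.cons (HM_x (by decide) hm11_0) .nil)))))), eq_of_nbeq (allBelow_iff.mp wU120_chk i hi)]
  rw [LB.perm_apply V (by decide : 20 < L.K)]
  unfold LB.actN
  rw [if_pos (show i < L.n from lt_trans hi (by decide))]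
theorem wU121_eq : reeWordU 1 (1 : ZMod 3) (2 : ZMod 3) (1 : ZMod 3) = [(7, 1), (6, 1), (8, 0), (9, 2), (10, 2), (11, 1)] := by decide +kernel
theorem wU121_chk : allBelow (fun i => Nat.beq (applyW [rm7_1, rm6_1, rm8_0, rm9_2, rm10_2, rm11_1] (orb i)) (orb (L.pt 22 i - 1))) 56 = true := by decide +kernel
theorem wU121_act : ∀ i < 56, chevG2.wordMat (ZMod 3) (reeWordU 1 (1 : ZMod 3) (2 : ZMod 3) (1 : ZMod 3)) *ᵥ vec i = vec (LB.perm V 22 i) := by
  intro i hi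
  unfold vec
  rw [wU121_eq, wordMat_mulVec _ [rm7_1, rm6_1, rm8_0, rm9_2, rm10_2, rm11_1] (.cons (HM_x (by decide) hm7_1) (.cons (HM_x (by decide) hm6_1) (.cons (HM_x (by decide) hm8_0) (.cons (HM_x (by decide) hm9_2) (.cons (HM_x (by decide) hm10_2) (.cons (HM_x (by decide) hm11_1) .nil)))))), eq_of_nbeq (allBelow_iff.mp wU121_chk i hi)]
  rw [LB.perm_apply V (by decide : 22 < L.K)]
  unfold LB.actN
  rw [if_pos (show i < L.n from lt_trans hi (by decide))]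
theorem wU122_eq : reeWordU 1 (1 : ZMod 3) (2 : ZMod 3) (2 : ZMod 3) = [(7, 1), (6, 1), (8, 0), (9, 0), (10, 2), (11, 2)] := by decide +kernel
theorem wU122_chk : allBelow (fun i => Nat.beq (applyW [rm7_1, rm6_1, rm8_0, rm9_0, rm10_2, rm11_2] (orb i)) (orb (L.pt 24 i - 1))) 56 = true := by decide +kernel
theorem wU122_act : ∀ i < 56, chevG2.wordMat (ZMod 3) (reeWordU 1 (1 : ZMod 3) (2 : ZMod 3) (2 : ZMod 3)) *ᵥ vec i = vec (LB.perm V 24 i) := by
  intro i hi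
  unfold vec
  rw [wU122_eq, wordMat_mulVec _ [rm7_1, rm6_1, rm8_0, rm9_0, rm10_2, rm11_2] (.cons (HM_x (by decide) hm7_1) (.cons (HM_x (by decide) hm6_1) (.cons (HM_x (by decide) hm8_0) (.cons (HM_x (by decide) hm9_0) (.cons (HM_x (by decide) hm10_2) (.cons (HM_x (by decide) hm11_2) .nil)))))), eq_of_nbeq (allBelow_iff.mp wU122_chk i hi)]
  rw [LB.perm_apply V (by decide : 24 < L.K)]
  unfold LB.actN
  rw [if_pos (show i < L.n from lt_trans hi (by decide))]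
theorem wU200_eq : reeWordU 1 (2 : ZMod 3) (0 : ZMod 3) (0 : ZMod 3) = [(7, 2), (6, 2), (8, 1), (9, 2), (10, 0), (11, 0)] := by decide +kernel
theorem wU200_chk : allBelow (fun i => Nat.beq (applyW [rm7_2, rm6_2, rm8_1, rm9_2, rm10_0, rm11_0] (orb i)) (orb (L.pt 25 i - 1))) 56 = true := by decide +kernel
theorem wU200_act : ∀ i < 56, chevG2.wordMat (ZMod 3) (reeWordU 1 (2 : ZMod 3) (0 : ZMod 3) (0 : ZMod 3)) *ᵥ vec i = vec (LB.perm V 25 i) := by
  intro i hi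
  unfold vec
  rw [wU200_eq, wordMat_mulVec _ [rm7_2, rm6_2, rm8_1, rm9_2, rm10_0, rm11_0] (.cons (HM_x (by decide) hm7_2) (.cons (HM_x (by decide) hm6_2) (.cons (HM_x (by decide) hm8_1) (.cons (HM_x (by decide) hm9_2) (.cons (HM_x (by decide) hm10_0) (.cons (HM_x (by decide) hm11_0) .nil)))))), eq_of_nbeq (allBelow_iff.mp wU200_chk i hi)]
  rw [LB.perm_apply V (by decide : 25 < L.K)]
  unfold LB.actN
  rw [if_pos (show i < L.n from lt_trans hi (by decide))]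
theorem wU201_eq : reeWordU 1 (2 : ZMod 3) (0 : ZMod 3) (1 : ZMod 3) = [(7, 2), (6, 2), (8, 1), (9, 0), (10, 0), (11, 1)] := by decide +kernel
theorem wU201_chk : allBelow (fun i => Nat.beq (applyW [rm7_2, rm6_2, rm8_1, rm9_0, rm10_0, rm11_1] (orb i)) (orb (L.pt 23 i - 1))) 56 = true := by decide +kernel
theorem wU201_act : ∀ i < 56, chevG2.wordMat (ZMod 3) (reeWordU 1 (2 : ZMod 3) (0 : ZMod 3) (1 : ZMod 3)) *ᵥ vec i = vec (LB.perm V 23 i) := by
  intro i hi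
  unfold vec
  rw [wU201_eq, wordMat_mulVec _ [rm7_2, rm6_2, rm8_1, rm9_0, rm10_0, rm11_1] (.cons (HM_x (by decide) hm7_2) (.cons (HM_x (by decide) hm6_2) (.cons (HM_x (by decide) hm8_1) (.cons (HM_x (by decide) hm9_0) (.cons (HM_x (by decide) hm10_0) (.cons (HM_x (by decide) hm11_1) .nil)))))), eq_of_nbeq (allBelow_iff.mp wU201_chk i hi)]
  rw [LB.perm_apply V (by decide : 23 < L.K)]
  unfold LB.actN
  rw [if_pos (show i < L.n from lt_trans hi (by decide))]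
theorem wU202_eq : reeWordU 1 (2 : ZMod 3) (0 : ZMod 3) (2 : ZMod 3) = [(7, 2), (6, 2), (8, 1), (9, 1), (10, 0), (11, 2)] := by decide +kernel
theorem wU202_chk : allBelow (fun i => Nat.beq (applyW [rm7_2, rm6_2, rm8_1, rm9_1, rm10_0, rm11_2] (orb i)) (orb (L.pt 21 i - 1))) 56 = true := by decide +kernel
theorem wU202_act : ∀ i < 56, chevG2.wordMat (ZMod 3) (reeWordU 1 (2 : ZMod 3) (0 : ZMod 3) (2 : ZMod 3)) *ᵥ vec i = vec (LB.perm V 21 i) := by
  intro i hi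
  unfold vec
  rw [wU202_eq, wordMat_mulVec _ [rm7_2, rm6_2, rm8_1, rm9_1, rm10_0, rm11_2] (.cons (HM_x (by decide) hm7_2) (.cons (HM_x (by decide) hm6_2) (.cons (HM_x (by decide) hm8_1) (.cons (HM_x (by decide) hm9_1) (.cons (HM_x (by decide) hm10_0) (.cons (HM_x (by decide) hm11_2) .nil)))))), eq_of_nbeq (allBelow_iff.mp wU202_chk i hi)]
  rw [LB.perm_apply V (by decide : 21 < L.K)]
  unfold LB.actN
  rw [if_pos (show i < L.n from lt_trans hi (by decide))]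
theorem wU210_eq : reeWordU 1 (2 : ZMod 3) (1 : ZMod 3) (0 : ZMod 3) = [(7, 2), (6, 2), (8, 2), (9, 2), (10, 1), (11, 0)] := by decide +kernel
theorem wU210_chk : allBelow (fun i => Nat.beq (applyW [rm7_2, rm6_2, rm8_2, rm9_2, rm10_1, rm11_0] (orb i)) (orb (L.pt 15 i - 1))) 56 = true := by decide +kernel
theorem wU210_act : ∀ i < 56, chevG2.wordMat (ZMod 3) (reeWordU 1 (2 : ZMod 3) (1 : ZMod 3) (0 : ZMod 3)) *ᵥ vec i = vec (LB.perm V 15 i) := by
  intro i hi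
  unfold vec
  rw [wU210_eq, wordMat_mulVec _ [rm7_2, rm6_2, rm8_2, rm9_2, rm10_1, rm11_0] (.cons (HM_x (by decide) hm7_2) (.cons (HM_x (by decide) hm6_2) (.cons (HM_x (by decide) hm8_2) (.cons (HM_x (by decide) hm9_2) (.cons (HM_x (by decide) hm10_1) (.cons (HM_x (by decide) hm11_0) .nil)))))), eq_of_nbeq (allBelow_iff.mp wU210_chk i hi)]
  rw [LB.perm_apply V (by decide : 15 < L.K)]
  unfold LB.actN
  rw [if_pos (show i < L.n from lt_trans hi (by decide))]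
theorem wU211_eq : reeWordU 1 (2 : ZMod 3) (1 : ZMod 3) (1 : ZMod 3) = [(7, 2), (6, 2), (8, 2), (9, 0), (10, 1), (11, 1)] := by decide +kernel
theorem wU211_chk : allBelow (fun i => Nat.beq (applyW [rm7_2, rm6_2, rm8_2, rm9_0, rm10_1, rm11_1] (orb i)) (orb (L.pt 19 i - 1))) 56 = true := by decide +kernel
theorem wU211_act : ∀ i < 56, chevG2.wordMat (ZMod 3) (reeWordU 1 (2 : ZMod 3) (1 : ZMod 3) (1 : ZMod 3)) *ᵥ vec i = vec (LB.perm V 19 i) := by
  intro i hi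
  unfold vec
  rw [wU211_eq, wordMat_mulVec _ [rm7_2, rm6_2, rm8_2, rm9_0, rm10_1, rm11_1] (.cons (HM_x (by decide) hm7_2) (.cons (HM_x (by decide) hm6_2) (.cons (HM_x (by decide) hm8_2) (.cons (HM_x (by decide) hm9_0) (.cons (HM_x (by decide) hm10_1) (.cons (HM_x (by decide) hm11_1) .nil)))))), eq_of_nbeq (allBelow_iff.mp wU211_chk i hi)]
  rw [LB.perm_apply V (by decide : 19 < L.K)]
  unfold LB.actN
  rw [if_pos (show i < L.n from lt_trans hi (by decide))]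
theorem wU212_eq : reeWordU 1 (2 : ZMod 3) (1 : ZMod 3) (2 : ZMod 3) = [(7, 2), (6, 2), (8, 2), (9, 1), (10, 1), (11, 2)] := by decide +kernel
theorem wU212_chk : allBelow (fun i => Nat.beq (applyW [rm7_2, rm6_2, rm8_2, rm9_1, rm10_1, rm11_2] (orb i)) (orb (L.pt 17 i - 1))) 56 = true := by decide +kernel
theorem wU212_act : ∀ i < 56, chevG2.wordMat (ZMod 3) (reeWordU 1 (2 : ZMod 3) (1 : ZMod 3) (2 : ZMod 3)) *ᵥ vec i = vec (LB.perm V 17 i) := by
  intro i hi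
  unfold vec
  rw [wU212_eq, wordMat_mulVec _ [rm7_2, rm6_2, rm8_2, rm9_1, rm10_1, rm11_2] (.cons (HM_x (by decide) hm7_2) (.cons (HM_x (by decide) hm6_2) (.cons (HM_x (by decide) hm8_2) (.cons (HM_x (by decide) hm9_1) (.cons (HM_x (by decide) hm10_1) (.cons (HM_x (by decide) hm11_2) .nil)))))), eq_of_nbeq (allBelow_iff.mp wU212_chk i hi)]
  rw [LB.perm_apply V (by decide : 17 < L.K)]
  unfold LB.actN
  rw [if_pos (show i < L.n from lt_trans hi (by decide))]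
theorem wU220_eq : reeWordU 1 (2 : ZMod 3) (2 : ZMod 3) (0 : ZMod 3) = [(7, 2), (6, 2), (8, 0), (9, 2), (10, 2), (11, 0)] := by decide +kernel
theorem wU220_chk : allBelow (fun i => Nat.beq (applyW [rm7_2, rm6_2, rm8_0, rm9_2, rm10_2, rm11_0] (orb i)) (orb (L.pt 11 i - 1))) 56 = true := by decide +kernel
theorem wU220_act : ∀ i < 56, chevG2.wordMat (ZMod 3) (reeWordU 1 (2 : ZMod 3) (2 : ZMod 3) (0 : ZMod 3)) *ᵥ vec i = vec (LB.perm V 11 i) := by
  intro i hi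
  unfold vec
  rw [wU220_eq, wordMat_mulVec _ [rm7_2, rm6_2, rm8_0, rm9_2, rm10_2, rm11_0] (.cons (HM_x (by decide) hm7_2) (.cons (HM_x (by decide) hm6_2) (.cons (HM_x (by decide) hm8_0) (.cons (HM_x (by decide) hm9_2) (.cons (HM_x (by decide) hm10_2) (.cons (HM_x (by decide) hm11_0) .nil)))))), eq_of_nbeq (allBelow_iff.mp wU220_chk i hi)]
  rw [LB.perm_apply V (by decide : 11 < L.K)]
  unfold LB.actN
  rw [if_pos (show i < L.n from lt_trans hi (by decide))]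
theorem wU221_eq : reeWordU 1 (2 : ZMod 3) (2 : ZMod 3) (1 : ZMod 3) = [(7, 2), (6, 2), (8, 0), (9, 0), (10, 2), (11, 1)] := by decide +kernel
theorem wU221_chk : allBelow (fun i => Nat.beq (applyW [rm7_2, rm6_2, rm8_0, rm9_0, rm10_2, rm11_1] (orb i)) (orb (L.pt 9 i - 1))) 56 = true := by decide +kernel
theorem wU221_act : ∀ i < 56, chevG2.wordMat (ZMod 3) (reeWordU 1 (2 : ZMod 3) (2 : ZMod 3) (1 : ZMod 3)) *ᵥ vec i = vec (LB.perm V 9 i) := by
  intro i hi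
  unfold vec
  rw [wU221_eq, wordMat_mulVec _ [rm7_2, rm6_2, rm8_0, rm9_0, rm10_2, rm11_1] (.cons (HM_x (by decide) hm7_2) (.cons (HM_x (by decide) hm6_2) (.cons (HM_x (by decide) hm8_0) (.cons (HM_x (by decide) hm9_0) (.cons (HM_x (by decide) hm10_2) (.cons (HM_x (by decide) hm11_1) .nil)))))), eq_of_nbeq (allBelow_iff.mp wU221_chk i hi)]
  rw [LB.perm_apply V (by decide : 9 < L.K)]
  unfold LB.actN
  rw [if_pos (show i < L.n from lt_trans hi (by decide))]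
theorem wU222_eq : reeWordU 1 (2 : ZMod 3) (2 : ZMod 3) (2 : ZMod 3) = [(7, 2), (6, 2), (8, 0), (9, 1), (10, 2), (11, 2)] := by decide +kernel
theorem wU222_chk : allBelow (fun i => Nat.beq (applyW [rm7_2, rm6_2, rm8_0, rm9_1, rm10_2, rm11_2] (orb i)) (orb (L.pt 13 i - 1))) 56 = true := by decide +kernel
theorem wU222_act : ∀ i < 56, chevG2.wordMat (ZMod 3) (reeWordU 1 (2 : ZMod 3) (2 : ZMod 3) (2 : ZMod 3)) *ᵥ vec i = vec (LB.perm V 13 i) := by
  intro i hi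
  unfold vec
  rw [wU222_eq, wordMat_mulVec _ [rm7_2, rm6_2, rm8_0, rm9_1, rm10_2, rm11_2] (.cons (HM_x (by decide) hm7_2) (.cons (HM_x (by decide) hm6_2) (.cons (HM_x (by decide) hm8_0) (.cons (HM_x (by decide) hm9_1) (.cons (HM_x (by decide) hm10_2) (.cons (HM_x (by decide) hm11_2) .nil)))))), eq_of_nbeq (allBelow_iff.mp wU222_chk i hi)]
  rw [LB.perm_apply V (by decide : 13 < L.K)]
  unfold LB.actN
  rw [if_pos (show i < L.n from lt_trans hi (by decide))]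
theorem wV000_eq : reeWordV 1 (0 : ZMod 3) (0 : ZMod 3) (0 : ZMod 3) = [(4, 0), (5, 0), (3, 0), (2, 0), (1, 0), (0, 0)] := by decide +kernel
theorem wV000_chk : allBelow (fun i => Nat.beq (applyW [rm4_0, rm5_0, rm3_0, rm2_0, rm1_0, rm0_0] (orb i)) (orb i)) 56 = true := by decide +kernel
theorem wV000_act : ∀ i < 56, chevG2.wordMat (ZMod 3) (reeWordV 1 (0 : ZMod 3) (0 : ZMod 3) (0 : ZMod 3)) *ᵥ vec i = vec (i) := by
  intro i hi
  unfold vec
  rw [wV000_eq, wordMat_mulVec _ [rm4_0, rm5_0, rm3_0, rm2_0, rm1_0, rm0_0] (.cons (HM_x (by decide) hm4_0) (.cons (HM_x (by decide) hm5_0) (.cons (HM_x (by decide) hm3_0) (.cons (HM_x (by decide) hm2_0) (.cons (HM_x (by decide) hm1_0) (.cons (HM_x (by decide) hm0_0) .nil)))))), eq_of_nbeq (allBelow_iff.mp wV000_chk i hi)]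
theorem wV001_eq : reeWordV 1 (0 : ZMod 3) (0 : ZMod 3) (1 : ZMod 3) = [(4, 0), (5, 0), (3, 0), (2, 2), (1, 0), (0, 2)] := by decide +kernel
theorem wV001_chk : allBelow (fun i => Nat.beq (applyW [rm4_0, rm5_0, rm3_0, rm2_2, rm1_0, rm0_2] (orb i)) (orb (L.pt 26 i - 1))) 56 = true := by decide +kernel
theorem wV001_act : ∀ i < 56, chevG2.wordMat (ZMod 3) (reeWordV 1 (0 : ZMod 3) (0 : ZMod 3) (1 : ZMod 3)) *ᵥ vec i = vec (LB.perm V 26 i) := by
  intro i hi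
  unfold vec
  rw [wV001_eq, wordMat_mulVec _ [rm4_0, rm5_0, rm3_0, rm2_2, rm1_0, rm0_2] (.cons (HM_x (by decide) hm4_0) (.cons (HM_x (by decide) hm5_0) (.cons (HM_x (by decide) hm3_0) (.cons (HM_x (by decide) hm2_2) (.cons (HM_x (by decide) hm1_0) (.cons (HM_x (by decide) hm0_2) .nil)))))), eq_of_nbeq (allBelow_iff.mp wV001_chk i hi)]
  rw [LB.perm_apply V (by decide : 26 < L.K)]
  unfold LB.actN
  rw [if_pos (show i < L.n from lt_trans hi (by decide))]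
theorem wV002_eq : reeWordV 1 (0 : ZMod 3) (0 : ZMod 3) (2 : ZMod 3) = [(4, 0), (5, 0), (3, 0), (2, 1), (1, 0), (0, 1)] := by decide +kernel
theorem wV002_chk : allBelow (fun i => Nat.beq (applyW [rm4_0, rm5_0, rm3_0, rm2_1, rm1_0, rm0_1] (orb i)) (orb (L.pt 27 i - 1))) 56 = true := by decide +kernel
theorem wV002_act : ∀ i < 56, chevG2.wordMat (ZMod 3) (reeWordV 1 (0 : ZMod 3) (0 : ZMod 3) (2 : ZMod 3)) *ᵥ vec i = vec (LB.perm V 27 i) := by
  intro i hi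
  unfold vec
  rw [wV002_eq, wordMat_mulVec _ [rm4_0, rm5_0, rm3_0, rm2_1, rm1_0, rm0_1] (.cons (HM_x (by decide) hm4_0) (.cons (HM_x (by decide) hm5_0) (.cons (HM_x (by decide) hm3_0) (.cons (HM_x (by decide) hm2_1) (.cons (HM_x (by decide) hm1_0) (.cons (HM_x (by decide) hm0_1) .nil)))))), eq_of_nbeq (allBelow_iff.mp wV002_chk i hi)]
  rw [LB.perm_apply V (by decide : 27 < L.K)]
  unfold LB.actN
  rw [if_pos (show i < L.n from lt_trans hi (by decide))]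
theorem wV010_eq : reeWordV 1 (0 : ZMod 3) (1 : ZMod 3) (0 : ZMod 3) = [(4, 0), (5, 0), (3, 2), (2, 0), (1, 2), (0, 0)] := by decide +kernel
theorem wV010_chk : allBelow (fun i => Nat.beq (applyW [rm4_0, rm5_0, rm3_2, rm2_0, rm1_2, rm0_0] (orb i)) (orb (L.pt 28 i - 1))) 56 = true := by decide +kernel
theorem wV010_act : ∀ i < 56, chevG2.wordMat (ZMod 3) (reeWordV 1 (0 : ZMod 3) (1 : ZMod 3) (0 : ZMod 3)) *ᵥ vec i = vec (LB.perm V 28 i) := by
  intro i hi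
  unfold vec
  rw [wV010_eq, wordMat_mulVec _ [rm4_0, rm5_0, rm3_2, rm2_0, rm1_2, rm0_0] (.cons (HM_x (by decide) hm4_0) (.cons (HM_x (by decide) hm5_0) (.cons (HM_x (by decide) hm3_2) (.cons (HM_x (by decide) hm2_0) (.cons (HM_x (by decide) hm1_2) (.cons (HM_x (by decide) hm0_0) .nil)))))), eq_of_nbeq (allBelow_iff.mp wV010_chk i hi)]
  rw [LB.perm_apply V (by decide : 28 < L.K)]
  unfold LB.actN
  rw [if_pos (show i < L.n from lt_trans hi (by decide))]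
theorem wV011_eq : reeWordV 1 (0 : ZMod 3) (1 : ZMod 3) (1 : ZMod 3) = [(4, 0), (5, 0), (3, 2), (2, 2), (1, 2), (0, 2)] := by decide +kernel
theorem wV011_chk : allBelow (fun i => Nat.beq (applyW [rm4_0, rm5_0, rm3_2, rm2_2, rm1_2, rm0_2] (orb i)) (orb (L.pt 30 i - 1))) 56 = true := by decide +kernel
theorem wV011_act : ∀ i < 56, chevG2.wordMat (ZMod 3) (reeWordV 1 (0 : ZMod 3) (1 : ZMod 3) (1 : ZMod 3)) *ᵥ vec i = vec (LB.perm V 30 i) := by
  intro i hi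
  unfold vec
  rw [wV011_eq, wordMat_mulVec _ [rm4_0, rm5_0, rm3_2, rm2_2, rm1_2, rm0_2] (.cons (HM_x (by decide) hm4_0) (.cons (HM_x (by decide) hm5_0) (.cons (HM_x (by decide) hm3_2) (.cons (HM_x (by decide) hm2_2) (.cons (HM_x (by decide) hm1_2) (.cons (HM_x (by decide) hm0_2) .nil)))))), eq_of_nbeq (allBelow_iff.mp wV011_chk i hi)]
  rw [LB.perm_apply V (by decide : 30 < L.K)]
  unfold LB.actN
  rw [if_pos (show i < L.n from lt_trans hi (by decide))]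
theorem wV012_eq : reeWordV 1 (0 : ZMod 3) (1 : ZMod 3) (2 : ZMod 3) = [(4, 0), (5, 0), (3, 2), (2, 1), (1, 2), (0, 1)] := by decide +kernel
theorem wV012_chk : allBelow (fun i => Nat.beq (applyW [rm4_0, rm5_0, rm3_2, rm2_1, rm1_2, rm0_1] (orb i)) (orb (L.pt 32 i - 1))) 56 = true := by decide +kernel
theorem wV012_act : ∀ i < 56, chevG2.wordMat (ZMod 3) (reeWordV 1 (0 : ZMod 3) (1 : ZMod 3) (2 : ZMod 3)) *ᵥ vec i = vec (LB.perm V 32 i) := by
  intro i hi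
  unfold vec
  rw [wV012_eq, wordMat_mulVec _ [rm4_0, rm5_0, rm3_2, rm2_1, rm1_2, rm0_1] (.cons (HM_x (by decide) hm4_0) (.cons (HM_x (by decide) hm5_0) (.cons (HM_x (by decide) hm3_2) (.cons (HM_x (by decide) hm2_1) (.cons (HM_x (by decide) hm1_2) (.cons (HM_x (by decide) hm0_1) .nil)))))), eq_of_nbeq (allBelow_iff.mp wV012_chk i hi)]
  rw [LB.perm_apply V (by decide : 32 < L.K)]
  unfold LB.actN
  rw [if_pos (show i < L.n from lt_trans hi (by decide))]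
theorem wV020_eq : reeWordV 1 (0 : ZMod 3) (2 : ZMod 3) (0 : ZMod 3) = [(4, 0), (5, 0), (3, 1), (2, 0), (1, 1), (0, 0)] := by decide +kernel
theorem wV020_chk : allBelow (fun i => Nat.beq (applyW [rm4_0, rm5_0, rm3_1, rm2_0, rm1_1, rm0_0] (orb i)) (orb (L.pt 29 i - 1))) 56 = true := by decide +kernel
theorem wV020_act : ∀ i < 56, chevG2.wordMat (ZMod 3) (reeWordV 1 (0 : ZMod 3) (2 : ZMod 3) (0 : ZMod 3)) *ᵥ vec i = vec (LB.perm V 29 i) := by
  intro i hi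
  unfold vec
  rw [wV020_eq, wordMat_mulVec _ [rm4_0, rm5_0, rm3_1, rm2_0, rm1_1, rm0_0] (.cons (HM_x (by decide) hm4_0) (.cons (HM_x (by decide) hm5_0) (.cons (HM_x (by decide) hm3_1) (.cons (HM_x (by decide) hm2_0) (.cons (HM_x (by decide) hm1_1) (.cons (HM_x (by decide) hm0_0) .nil)))))), eq_of_nbeq (allBelow_iff.mp wV020_chk i hi)]
  rw [LB.perm_apply V (by decide : 29 < L.K)]
  unfold LB.actN
  rw [if_pos (show i < L.n from lt_trans hi (by decide))]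
theorem wV021_eq : reeWordV 1 (0 : ZMod 3) (2 : ZMod 3) (1 : ZMod 3) = [(4, 0), (5, 0), (3, 1), (2, 2), (1, 1), (0, 2)] := by decide +kernel
theorem wV021_chk : allBelow (fun i => Nat.beq (applyW [rm4_0, rm5_0, rm3_1, rm2_2, rm1_1, rm0_2] (orb i)) (orb (L.pt 33 i - 1))) 56 = true := by decide +kernel
theorem wV021_act : ∀ i < 56, chevG2.wordMat (ZMod 3) (reeWordV 1 (0 : ZMod 3) (2 : ZMod 3) (1 : ZMod 3)) *ᵥ vec i = vec (LB.perm V 33 i) := by
  intro i hi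
  unfold vec
  rw [wV021_eq, wordMat_mulVec _ [rm4_0, rm5_0, rm3_1, rm2_2, rm1_1, rm0_2] (.cons (HM_x (by decide) hm4_0) (.cons (HM_x (by decide) hm5_0) (.cons (HM_x (by decide) hm3_1) (.cons (HM_x (by decide) hm2_2) (.cons (HM_x (by decide) hm1_1) (.cons (HM_x (by decide) hm0_2) .nil)))))), eq_of_nbeq (allBelow_iff.mp wV021_chk i hi)]
  rw [LB.perm_apply V (by decide : 33 < L.K)]
  unfold LB.actN
  rw [if_pos (show i < L.n from lt_trans hi (by decide))]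
theorem wV022_eq : reeWordV 1 (0 : ZMod 3) (2 : ZMod 3) (2 : ZMod 3) = [(4, 0), (5, 0), (3, 1), (2, 1), (1, 1), (0, 1)] := by decide +kernel
theorem wV022_chk : allBelow (fun i => Nat.beq (applyW [rm4_0, rm5_0, rm3_1, rm2_1, rm1_1, rm0_1] (orb i)) (orb (L.pt 31 i - 1))) 56 = true := by decide +kernel
theorem wV022_act : ∀ i < 56, chevG2.wordMat (ZMod 3) (reeWordV 1 (0 : ZMod 3) (2 : ZMod 3) (2 : ZMod 3)) *ᵥ vec i = vec (LB.perm V 31 i) := by
  intro i hi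
  unfold vec
  rw [wV022_eq, wordMat_mulVec _ [rm4_0, rm5_0, rm3_1, rm2_1, rm1_1, rm0_1] (.cons (HM_x (by decide) hm4_0) (.cons (HM_x (by decide) hm5_0) (.cons (HM_x (by decide) hm3_1) (.cons (HM_x (by decide) hm2_1) (.cons (HM_x (by decide) hm1_1) (.cons (HM_x (by decide) hm0_1) .nil)))))), eq_of_nbeq (allBelow_iff.mp wV022_chk i hi)]
  rw [LB.perm_apply V (by decide : 31 < L.K)]
  unfold LB.actN
  rw [if_pos (show i < L.n from lt_trans hi (by decide))]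
theorem wV100_eq : reeWordV 1 (1 : ZMod 3) (0 : ZMod 3) (0 : ZMod 3) = [(4, 2), (5, 2), (3, 2), (2, 2), (1, 0), (0, 0)] := by decide +kernel
theorem wV100_chk : allBelow (fun i => Nat.beq (applyW [rm4_2, rm5_2, rm3_2, rm2_2, rm1_0, rm0_0] (orb i)) (orb (L.pt 34 i - 1))) 56 = true := by decide +kernel
theorem wV100_act : ∀ i < 56, chevG2.wordMat (ZMod 3) (reeWordV 1 (1 : ZMod 3) (0 : ZMod 3) (0 : ZMod 3)) *ᵥ vec i = vec (LB.perm V 34 i) := by
  intro i hi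
  unfold vec
  rw [wV100_eq, wordMat_mulVec _ [rm4_2, rm5_2, rm3_2, rm2_2, rm1_0, rm0_0] (.cons (HM_x (by decide) hm4_2) (.cons (HM_x (by decide) hm5_2) (.cons (HM_x (by decide) hm3_2) (.cons (HM_x (by decide) hm2_2) (.cons (HM_x (by decide) hm1_0) (.cons (HM_x (by decide) hm0_0) .nil)))))), eq_of_nbeq (allBelow_iff.mp wV100_chk i hi)]
  rw [LB.perm_apply V (by decide : 34 < L.K)]
  unfold LB.actN
  rw [if_pos (show i < L.n from lt_trans hi (by decide))]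
theorem wV101_eq : reeWordV 1 (1 : ZMod 3) (0 : ZMod 3) (1 : ZMod 3) = [(4, 2), (5, 2), (3, 2), (2, 1), (1, 0), (0, 2)] := by decide +kernel
theorem wV101_chk : allBelow (fun i => Nat.beq (applyW [rm4_2, rm5_2, rm3_2, rm2_1, rm1_0, rm0_2] (orb i)) (orb (L.pt 36 i - 1))) 56 = true := by decide +kernel
theorem wV101_act : ∀ i < 56, chevG2.wordMat (ZMod 3) (reeWordV 1 (1 : ZMod 3) (0 : ZMod 3) (1 : ZMod 3)) *ᵥ vec i = vec (LB.perm V 36 i) := by
  intro i hi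
  unfold vec
  rw [wV101_eq, wordMat_mulVec _ [rm4_2, rm5_2, rm3_2, rm2_1, rm1_0, rm0_2] (.cons (HM_x (by decide) hm4_2) (.cons (HM_x (by decide) hm5_2) (.cons (HM_x (by decide) hm3_2) (.cons (HM_x (by decide) hm2_1) (.cons (HM_x (by decide) hm1_0) (.cons (HM_x (by decide) hm0_2) .nil)))))), eq_of_nbeq (allBelow_iff.mp wV101_chk i hi)]
  rw [LB.perm_apply V (by decide : 36 < L.K)]
  unfold LB.actN
  rw [if_pos (show i < L.n from lt_trans hi (by decide))]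
theorem wV102_eq : reeWordV 1 (1 : ZMod 3) (0 : ZMod 3) (2 : ZMod 3) = [(4, 2), (5, 2), (3, 2), (2, 0), (1, 0), (0, 1)] := by decide +kernel
theorem wV102_chk : allBelow (fun i => Nat.beq (applyW [rm4_2, rm5_2, rm3_2, rm2_0, rm1_0, rm0_1] (orb i)) (orb (L.pt 38 i - 1))) 56 = true := by decide +kernel
theorem wV102_act : ∀ i < 56, chevG2.wordMat (ZMod 3) (reeWordV 1 (1 : ZMod 3) (0 : ZMod 3) (2 : ZMod 3)) *ᵥ vec i = vec (LB.perm V 38 i) := by
  intro i hi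
  unfold vec
  rw [wV102_eq, wordMat_mulVec _ [rm4_2, rm5_2, rm3_2, rm2_0, rm1_0, rm0_1] (.cons (HM_x (by decide) hm4_2) (.cons (HM_x (by decide) hm5_2) (.cons (HM_x (by decide) hm3_2) (.cons (HM_x (by decide) hm2_0) (.cons (HM_x (by decide) hm1_0) (.cons (HM_x (by decide) hm0_1) .nil)))))), eq_of_nbeq (allBelow_iff.mp wV102_chk i hi)]
  rw [LB.perm_apply V (by decide : 38 < L.K)]
  unfold LB.actN
  rw [if_pos (show i < L.n from lt_trans hi (by decide))]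
theorem wV110_eq : reeWordV 1 (1 : ZMod 3) (1 : ZMod 3) (0 : ZMod 3) = [(4, 2), (5, 2), (3, 1), (2, 2), (1, 2), (0, 0)] := by decide +kernel
theorem wV110_chk : allBelow (fun i => Nat.beq (applyW [rm4_2, rm5_2, rm3_1, rm2_2, rm1_2, rm0_0] (orb i)) (orb (L.pt 40 i - 1))) 56 = true := by decide +kernel
theorem wV110_act : ∀ i < 56, chevG2.wordMat (ZMod 3) (reeWordV 1 (1 : ZMod 3) (1 : ZMod 3) (0 : ZMod 3)) *ᵥ vec i = vec (LB.perm V 40 i) := by
  intro i hi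
  unfold vec
  rw [wV110_eq, wordMat_mulVec _ [rm4_2, rm5_2, rm3_1, rm2_2, rm1_2, rm0_0] (.cons (HM_x (by decide) hm4_2) (.cons (HM_x (by decide) hm5_2) (.cons (HM_x (by decide) hm3_1) (.cons (HM_x (by decide) hm2_2) (.cons (HM_x (by decide) hm1_2) (.cons (HM_x (by decide) hm0_0) .nil)))))), eq_of_nbeq (allBelow_iff.mp wV110_chk i hi)]
  rw [LB.perm_apply V (by decide : 40 < L.K)]
  unfold LB.actN
  rw [if_pos (show i < L.n from lt_trans hi (by decide))]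
theorem wV111_eq : reeWordV 1 (1 : ZMod 3) (1 : ZMod 3) (1 : ZMod 3) = [(4, 2), (5, 2), (3, 1), (2, 1), (1, 2), (0, 2)] := by decide +kernel
theorem wV111_chk : allBelow (fun i => Nat.beq (applyW [rm4_2, rm5_2, rm3_1, rm2_1, rm1_2, rm0_2] (orb i)) (orb (L.pt 42 i - 1))) 56 = true := by decide +kernel
theorem wV111_act : ∀ i < 56, chevG2.wordMat (ZMod 3) (reeWordV 1 (1 : ZMod 3) (1 : ZMod 3) (1 : ZMod 3)) *ᵥ vec i = vec (LB.perm V 42 i) := by
  intro i hi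
  unfold vec
  rw [wV111_eq, wordMat_mulVec _ [rm4_2, rm5_2, rm3_1, rm2_1, rm1_2, rm0_2] (.cons (HM_x (by decide) hm4_2) (.cons (HM_x (by decide) hm5_2) (.cons (HM_x (by decide) hm3_1) (.cons (HM_x (by decide) hm2_1) (.cons (HM_x (by decide) hm1_2) (.cons (HM_x (by decide) hm0_2) .nil)))))), eq_of_nbeq (allBelow_iff.mp wV111_chk i hi)]
  rw [LB.perm_apply V (by decide : 42 < L.K)]
  unfold LB.actN
  rw [if_pos (show i < L.n from lt_trans hi (by decide))]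
theorem wV112_eq : reeWordV 1 (1 : ZMod 3) (1 : ZMod 3) (2 : ZMod 3) = [(4, 2), (5, 2), (3, 1), (2, 0), (1, 2), (0, 1)] := by decide +kernel
theorem wV112_chk : allBelow (fun i => Nat.beq (applyW [rm4_2, rm5_2, rm3_1, rm2_0, rm1_2, rm0_1] (orb i)) (orb (L.pt 44 i - 1))) 56 = true := by decide +kernel
theorem wV112_act : ∀ i < 56, chevG2.wordMat (ZMod 3) (reeWordV 1 (1 : ZMod 3) (1 : ZMod 3) (2 : ZMod 3)) *ᵥ vec i = vec (LB.perm V 44 i) := by
  intro i hi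
  unfold vec
  rw [wV112_eq, wordMat_mulVec _ [rm4_2, rm5_2, rm3_1, rm2_0, rm1_2, rm0_1] (.cons (HM_x (by decide) hm4_2) (.cons (HM_x (by decide) hm5_2) (.cons (HM_x (by decide) hm3_1) (.cons (HM_x (by decide) hm2_0) (.cons (HM_x (by decide) hm1_2) (.cons (HM_x (by decide) hm0_1) .nil)))))), eq_of_nbeq (allBelow_iff.mp wV112_chk i hi)]
  rw [LB.perm_apply V (by decide : 44 < L.K)]
  unfold LB.actN
  rw [if_pos (show i < L.n from lt_trans hi (by decide))]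
theorem wV120_eq : reeWordV 1 (1 : ZMod 3) (2 : ZMod 3) (0 : ZMod 3) = [(4, 2), (5, 2), (3, 0), (2, 2), (1, 1), (0, 0)] := by decide +kernel
theorem wV120_chk : allBelow (fun i => Nat.beq (applyW [rm4_2, rm5_2, rm3_0, rm2_2, rm1_1, rm0_0] (orb i)) (orb (L.pt 46 i - 1))) 56 = true := by decide +kernel
theorem wV120_act : ∀ i < 56, chevG2.wordMat (ZMod 3) (reeWordV 1 (1 : ZMod 3) (2 : ZMod 3) (0 : ZMod 3)) *ᵥ vec i = vec (LB.perm V 46 i) := by
  intro i hi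
  unfold vec
  rw [wV120_eq, wordMat_mulVec _ [rm4_2, rm5_2, rm3_0, rm2_2, rm1_1, rm0_0] (.cons (HM_x (by decide) hm4_2) (.cons (HM_x (by decide) hm5_2) (.cons (HM_x (by decide) hm3_0) (.cons (HM_x (by decide) hm2_2) (.cons (HM_x (by decide) hm1_1) (.cons (HM_x (by decide) hm0_0) .nil)))))), eq_of_nbeq (allBelow_iff.mp wV120_chk i hi)]
  rw [LB.perm_apply V (by decide : 46 < L.K)]
  unfold LB.actN
  rw [if_pos (show i < L.n from lt_trans hi (by decide))]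
theorem wV121_eq : reeWordV 1 (1 : ZMod 3) (2 : ZMod 3) (1 : ZMod 3) = [(4, 2), (5, 2), (3, 0), (2, 1), (1, 1), (0, 2)] := by decide +kernel
theorem wV121_chk : allBelow (fun i => Nat.beq (applyW [rm4_2, rm5_2, rm3_0, rm2_1, rm1_1, rm0_2] (orb i)) (orb (L.pt 48 i - 1))) 56 = true := by decide +kernel
theorem wV121_act : ∀ i < 56, chevG2.wordMat (ZMod 3) (reeWordV 1 (1 : ZMod 3) (2 : ZMod 3) (1 : ZMod 3)) *ᵥ vec i = vec (LB.perm V 48 i) := by
  intro i hi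
  unfold vec
  rw [wV121_eq, wordMat_mulVec _ [rm4_2, rm5_2, rm3_0, rm2_1, rm1_1, rm0_2] (.cons (HM_x (by decide) hm4_2) (.cons (HM_x (by decide) hm5_2) (.cons (HM_x (by decide) hm3_0) (.cons (HM_x (by decide) hm2_1) (.cons (HM_x (by decide) hm1_1) (.cons (HM_x (by decide) hm0_2) .nil)))))), eq_of_nbeq (allBelow_iff.mp wV121_chk i hi)]
  rw [LB.perm_apply V (by decide : 48 < L.K)]
  unfold LB.actN
  rw [if_pos (show i < L.n from lt_trans hi (by decide))]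
theorem wV122_eq : reeWordV 1 (1 : ZMod 3) (2 : ZMod 3) (2 : ZMod 3) = [(4, 2), (5, 2), (3, 0), (2, 0), (1, 1), (0, 1)] := by decide +kernel
theorem wV122_chk : allBelow (fun i => Nat.beq (applyW [rm4_2, rm5_2, rm3_0, rm2_0, rm1_1, rm0_1] (orb i)) (orb (L.pt 50 i - 1))) 56 = true := by decide +kernel
theorem wV122_act : ∀ i < 56, chevG2.wordMat (ZMod 3) (reeWordV 1 (1 : ZMod 3) (2 : ZMod 3) (2 : ZMod 3)) *ᵥ vec i = vec (LB.perm V 50 i) := by
  intro i hi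
  unfold vec
  rw [wV122_eq, wordMat_mulVec _ [rm4_2, rm5_2, rm3_0, rm2_0, rm1_1, rm0_1] (.cons (HM_x (by decide) hm4_2) (.cons (HM_x (by decide) hm5_2) (.cons (HM_x (by decide) hm3_0) (.cons (HM_x (by decide) hm2_0) (.cons (HM_x (by decide) hm1_1) (.cons (HM_x (by decide) hm0_1) .nil)))))), eq_of_nbeq (allBelow_iff.mp wV122_chk i hi)]
  rw [LB.perm_apply V (by decide : 50 < L.K)]
  unfold LB.actN
  rw [if_pos (show i < L.n from lt_trans hi (by decide))]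
theorem wV200_eq : reeWordV 1 (2 : ZMod 3) (0 : ZMod 3) (0 : ZMod 3) = [(4, 1), (5, 1), (3, 2), (2, 1), (1, 0), (0, 0)] := by decide +kernel
theorem wV200_chk : allBelow (fun i => Nat.beq (applyW [rm4_1, rm5_1, rm3_2, rm2_1, rm1_0, rm0_0] (orb i)) (orb (L.pt 51 i - 1))) 56 = true := by decide +kernel
theorem wV200_act : ∀ i < 56, chevG2.wordMat (ZMod 3) (reeWordV 1 (2 : ZMod 3) (0 : ZMod 3) (0 : ZMod 3)) *ᵥ vec i = vec (LB.perm V 51 i) := by
  intro i hi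
  unfold vec
  rw [wV200_eq, wordMat_mulVec _ [rm4_1, rm5_1, rm3_2, rm2_1, rm1_0, rm0_0] (.cons (HM_x (by decide) hm4_1) (.cons (HM_x (by decide) hm5_1) (.cons (HM_x (by decide) hm3_2) (.cons (HM_x (by decide) hm2_1) (.cons (HM_x (by decide) hm1_0) (.cons (HM_x (by decide) hm0_0) .nil)))))), eq_of_nbeq (allBelow_iff.mp wV200_chk i hi)]
  rw [LB.perm_apply V (by decide : 51 < L.K)]
  unfold LB.actN
  rw [if_pos (show i < L.n from lt_trans hi (by decide))]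
theorem wV201_eq : reeWordV 1 (2 : ZMod 3) (0 : ZMod 3) (1 : ZMod 3) = [(4, 1), (5, 1), (3, 2), (2, 0), (1, 0), (0, 2)] := by decide +kernel
theorem wV201_chk : allBelow (fun i => Nat.beq (applyW [rm4_1, rm5_1, rm3_2, rm2_0, rm1_0, rm0_2] (orb i)) (orb (L.pt 49 i - 1))) 56 = true := by decide +kernel
theorem wV201_act : ∀ i < 56, chevG2.wordMat (ZMod 3) (reeWordV 1 (2 : ZMod 3) (0 : ZMod 3) (1 : ZMod 3)) *ᵥ vec i = vec (LB.perm V 49 i) := by
  intro i hi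
  unfold vec
  rw [wV201_eq, wordMat_mulVec _ [rm4_1, rm5_1, rm3_2, rm2_0, rm1_0, rm0_2] (.cons (HM_x (by decide) hm4_1) (.cons (HM_x (by decide) hm5_1) (.cons (HM_x (by decide) hm3_2) (.cons (HM_x (by decide) hm2_0) (.cons (HM_x (by decide) hm1_0) (.cons (HM_x (by decide) hm0_2) .nil)))))), eq_of_nbeq (allBelow_iff.mp wV201_chk i hi)]
  rw [LB.perm_apply V (by decide : 49 < L.K)]
  unfold LB.actN
  rw [if_pos (show i < L.n from lt_trans hi (by decide))]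
theorem wV202_eq : reeWordV 1 (2 : ZMod 3) (0 : ZMod 3) (2 : ZMod 3) = [(4, 1), (5, 1), (3, 2), (2, 2), (1, 0), (0, 1)] := by decide +kernel
theorem wV202_chk : allBelow (fun i => Nat.beq (applyW [rm4_1, rm5_1, rm3_2, rm2_2, rm1_0, rm0_1] (orb i)) (orb (L.pt 47 i - 1))) 56 = true := by decide +kernel
theorem wV202_act : ∀ i < 56, chevG2.wordMat (ZMod 3) (reeWordV 1 (2 : ZMod 3) (0 : ZMod 3) (2 : ZMod 3)) *ᵥ vec i = vec (LB.perm V 47 i) := by
  intro i hi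
  unfold vec
  rw [wV202_eq, wordMat_mulVec _ [rm4_1, rm5_1, rm3_2, rm2_2, rm1_0, rm0_1] (.cons (HM_x (by decide) hm4_1) (.cons (HM_x (by decide) hm5_1) (.cons (HM_x (by decide) hm3_2) (.cons (HM_x (by decide) hm2_2) (.cons (HM_x (by decide) hm1_0) (.cons (HM_x (by decide) hm0_1) .nil)))))), eq_of_nbeq (allBelow_iff.mp wV202_chk i hi)]
  rw [LB.perm_apply V (by decide : 47 < L.K)]
  unfold LB.actN
  rw [if_pos (show i < L.n from lt_trans hi (by decide))]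
theorem wV210_eq : reeWordV 1 (2 : ZMod 3) (1 : ZMod 3) (0 : ZMod 3) = [(4, 1), (5, 1), (3, 1), (2, 1), (1, 2), (0, 0)] := by decide +kernel
theorem wV210_chk : allBelow (fun i => Nat.beq (applyW [rm4_1, rm5_1, rm3_1, rm2_1, rm1_2, rm0_0] (orb i)) (orb (L.pt 41 i - 1))) 56 = true := by decide +kernel
theorem wV210_act : ∀ i < 56, chevG2.wordMat (ZMod 3) (reeWordV 1 (2 : ZMod 3) (1 : ZMod 3) (0 : ZMod 3)) *ᵥ vec i = vec (LB.perm V 41 i) := by
  intro i hi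
  unfold vec
  rw [wV210_eq, wordMat_mulVec _ [rm4_1, rm5_1, rm3_1, rm2_1, rm1_2, rm0_0] (.cons (HM_x (by decide) hm4_1) (.cons (HM_x (by decide) hm5_1) (.cons (HM_x (by decide) hm3_1) (.cons (HM_x (by decide) hm2_1) (.cons (HM_x (by decide) hm1_2) (.cons (HM_x (by decide) hm0_0) .nil)))))), eq_of_nbeq (allBelow_iff.mp wV210_chk i hi)]
  rw [LB.perm_apply V (by decide : 41 < L.K)]
  unfold LB.actN
  rw [if_pos (show i < L.n from lt_trans hi (by decide))]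
theorem wV211_eq : reeWordV 1 (2 : ZMod 3) (1 : ZMod 3) (1 : ZMod 3) = [(4, 1), (5, 1), (3, 1), (2, 0), (1, 2), (0, 2)] := by decide +kernel
theorem wV211_chk : allBelow (fun i => Nat.beq (applyW [rm4_1, rm5_1, rm3_1, rm2_0, rm1_2, rm0_2] (orb i)) (orb (L.pt 45 i - 1))) 56 = true := by decide +kernel
theorem wV211_act : ∀ i < 56, chevG2.wordMat (ZMod 3) (reeWordV 1 (2 : ZMod 3) (1 : ZMod 3) (1 : ZMod 3)) *ᵥ vec i = vec (LB.perm V 45 i) := by
  intro i hi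
  unfold vec
  rw [wV211_eq, wordMat_mulVec _ [rm4_1, rm5_1, rm3_1, rm2_0, rm1_2, rm0_2] (.cons (HM_x (by decide) hm4_1) (.cons (HM_x (by decide) hm5_1) (.cons (HM_x (by decide) hm3_1) (.cons (HM_x (by decide) hm2_0) (.cons (HM_x (by decide) hm1_2) (.cons (HM_x (by decide) hm0_2) .nil)))))), eq_of_nbeq (allBelow_iff.mp wV211_chk i hi)]
  rw [LB.perm_apply V (by decide : 45 < L.K)]
  unfold LB.actN
  rw [if_pos (show i < L.n from lt_trans hi (by decide))]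
theorem wV212_eq : reeWordV 1 (2 : ZMod 3) (1 : ZMod 3) (2 : ZMod 3) = [(4, 1), (5, 1), (3, 1), (2, 2), (1, 2), (0, 1)] := by decide +kernel
theorem wV212_chk : allBelow (fun i => Nat.beq (applyW [rm4_1, rm5_1, rm3_1, rm2_2, rm1_2, rm0_1] (orb i)) (orb (L.pt 43 i - 1))) 56 = true := by decide +kernel
theorem wV212_act : ∀ i < 56, chevG2.wordMat (ZMod 3) (reeWordV 1 (2 : ZMod 3) (1 : ZMod 3) (2 : ZMod 3)) *ᵥ vec i = vec (LB.perm V 43 i) := by
  intro i hi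
  unfold vec
  rw [wV212_eq, wordMat_mulVec _ [rm4_1, rm5_1, rm3_1, rm2_2, rm1_2, rm0_1] (.cons (HM_x (by decide) hm4_1) (.cons (HM_x (by decide) hm5_1) (.cons (HM_x (by decide) hm3_1) (.cons (HM_x (by decide) hm2_2) (.cons (HM_x (by decide) hm1_2) (.cons (HM_x (by decide) hm0_1) .nil)))))), eq_of_nbeq (allBelow_iff.mp wV212_chk i hi)]
  rw [LB.perm_apply V (by decide : 43 < L.K)]
  unfold LB.actN
  rw [if_pos (show i < L.n from lt_trans hi (by decide))]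
theorem wV220_eq : reeWordV 1 (2 : ZMod 3) (2 : ZMod 3) (0 : ZMod 3) = [(4, 1), (5, 1), (3, 0), (2, 1), (1, 1), (0, 0)] := by decide +kernel
theorem wV220_chk : allBelow (fun i => Nat.beq (applyW [rm4_1, rm5_1, rm3_0, rm2_1, rm1_1, rm0_0] (orb i)) (orb (L.pt 37 i - 1))) 56 = true := by decide +kernel
theorem wV220_act : ∀ i < 56, chevG2.wordMat (ZMod 3) (reeWordV 1 (2 : ZMod 3) (2 : ZMod 3) (0 : ZMod 3)) *ᵥ vec i = vec (LB.perm V 37 i) := by
  intro i hi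
  unfold vec
  rw [wV220_eq, wordMat_mulVec _ [rm4_1, rm5_1, rm3_0, rm2_1, rm1_1, rm0_0] (.cons (HM_x (by decide) hm4_1) (.cons (HM_x (by decide) hm5_1) (.cons (HM_x (by decide) hm3_0) (.cons (HM_x (by decide) hm2_1) (.cons (HM_x (by decide) hm1_1) (.cons (HM_x (by decide) hm0_0) .nil)))))), eq_of_nbeq (allBelow_iff.mp wV220_chk i hi)]
  rw [LB.perm_apply V (by decide : 37 < L.K)]
  unfold LB.actN
  rw [if_pos (show i < L.n from lt_trans hi (by decide))]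
theorem wV221_eq : reeWordV 1 (2 : ZMod 3) (2 : ZMod 3) (1 : ZMod 3) = [(4, 1), (5, 1), (3, 0), (2, 0), (1, 1), (0, 2)] := by decide +kernel
theorem wV221_chk : allBelow (fun i => Nat.beq (applyW [rm4_1, rm5_1, rm3_0, rm2_0, rm1_1, rm0_2] (orb i)) (orb (L.pt 35 i - 1))) 56 = true := by decide +kernel
theorem wV221_act : ∀ i < 56, chevG2.wordMat (ZMod 3) (reeWordV 1 (2 : ZMod 3) (2 : ZMod 3) (1 : ZMod 3)) *ᵥ vec i = vec (LB.perm V 35 i) := by
  intro i hi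
  unfold vec
  rw [wV221_eq, wordMat_mulVec _ [rm4_1, rm5_1, rm3_0, rm2_0, rm1_1, rm0_2] (.cons (HM_x (by decide) hm4_1) (.cons (HM_x (by decide) hm5_1) (.cons (HM_x (by decide) hm3_0) (.cons (HM_x (by decide) hm2_0) (.cons (HM_x (by decide) hm1_1) (.cons (HM_x (by decide) hm0_2) .nil)))))), eq_of_nbeq (allBelow_iff.mp wV221_chk i hi)]
  rw [LB.perm_apply V (by decide : 35 < L.K)]
  unfold LB.actN
  rw [if_pos (show i < L.n from lt_trans hi (by decide))]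
theorem wV222_eq : reeWordV 1 (2 : ZMod 3) (2 : ZMod 3) (2 : ZMod 3) = [(4, 1), (5, 1), (3, 0), (2, 2), (1, 1), (0, 1)] := by decide +kernel
theorem wV222_chk : allBelow (fun i => Nat.beq (applyW [rm4_1, rm5_1, rm3_0, rm2_2, rm1_1, rm0_1] (orb i)) (orb (L.pt 39 i - 1))) 56 = true := by decide +kernel
theorem wV222_act : ∀ i < 56, chevG2.wordMat (ZMod 3) (reeWordV 1 (2 : ZMod 3) (2 : ZMod 3) (2 : ZMod 3)) *ᵥ vec i = vec (LB.perm V 39 i) := by
  intro i hi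
  unfold vec
  rw [wV222_eq, wordMat_mulVec _ [rm4_1, rm5_1, rm3_0, rm2_2, rm1_1, rm0_1] (.cons (HM_x (by decide) hm4_1) (.cons (HM_x (by decide) hm5_1) (.cons (HM_x (by decide) hm3_0) (.cons (HM_x (by decide) hm2_2) (.cons (HM_x (by decide) hm1_1) (.cons (HM_x (by decide) hm0_1) .nil)))))), eq_of_nbeq (allBelow_iff.mp wV222_chk i hi)]
  rw [LB.perm_apply V (by decide : 39 < L.K)]
  unfold LB.actN
  rw [if_pos (show i < L.n from lt_trans hi (by decide))]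
noncomputable def srtC : Tr := .leaf 0x8e40a23212e599b7015607de4ddaab0e8a4641a9d9c47297cb33c9d1120d53563648512c58eb6fbb0dc0
noncomputable def posC : Tr := .leaf 0x4c3935976c210314892586276fc36df4caaa689adb9e70d607acf9cb49f546433c595116a02898f5b00
noncomputable def srt : ℕ → ℕ := field [srtC] 6 63 6 63 0
noncomputable def pos : ℕ → ℕ := field [posC] 6 63 6 63 0
noncomputable def betaC : Tr := .leaf 0xb08c4c155b6900c658e1446d260d5112191cf24a5da6585d65544d24503ce34c2ca2481c61440c2040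
noncomputable def beta : ℕ → ℕ := field [betaC] 6 63 6 63 0
theorem srt_chk : allBelow (fun k => Nat.blt (orb (srt k)) (orb (srt (k + 1)))) 55 = true := by decide +kernel
theorem pos_chk : allBelow (fun i => Nat.blt (pos i) 56 && Nat.beq (srt (pos i)) i) 56 = true := by decide +kernel
theorem orb_lt_chk : allBelow (fun i => Nat.blt (orb i) 4782969) 56 = true := by decide +kernel
theorem beta_chk : allList (fun y => allBelow (fun c => Nat.blt (L.actN y c) 56 &&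
    Nat.beq (L.actN y (56 + beta c)) (56 + beta (L.actN y c))) 56) Ltop = true := by decide +kernel
theorem beta_hi_chk : allList (fun y => allBelow (fun c => Nat.blt c 56 || Nat.ble 56 (L.actN y c)) 84) Ltop = true := by decide +kernel
theorem beta_surj_chk : allBelow (fun d => Nat.blt (nth [0, 1, 2, 3, 4, 5, 6, 7, 8, 9, 10, 11, 12, 13, 14, 15, 16, 17, 18, 19, 20, 21, 22, 23, 24, 25, 26, 39] 0 d) 56 &&
    Nat.beq (beta (nth [0, 1, 2, 3, 4, 5, 6, 7, 8, 9, 10, 11, 12, 13, 14, 15, 16, 17, 18, 19, 20, 21, 22, 23, 24, 25, 26, 39] 0 d)) d) 28 = true := by decide +kernel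
def bsec : List ℕ := [0, 1, 2, 3, 4, 5, 6, 7, 8, 9, 10, 11, 12, 13, 14, 15, 16, 17, 18, 19, 20, 21, 22, 23, 24, 25, 26, 39]
def spanL : List (List ℕ) := [
  [0, 1, 2, 2, 4, 6, 9, 10, 13, 13, 15, 15],
  [0, 2, 5, 6, 7, 7, 10, 12, 12],
  [0],
  [0, 2, 2, 3, 4, 5, 6, 7, 7, 9, 18, 18],
  [0, 0, 5, 6, 7, 9, 10, 12, 13, 13, 18, 18],
  [3, 4, 4, 5, 5, 7, 9, 10, 10, 12, 12, 13, 13, 15, 15],
  [0, 0, 4, 5, 6, 6],
  [0, 1, 3, 3, 4, 4, 5, 5, 6, 6, 7, 10, 12, 12, 15, 15, 18, 18],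
  [0, 0, 2, 3, 3, 5, 9, 12, 12, 13, 13, 15],
  [0, 1, 2, 3, 3, 5, 6, 6, 7, 9, 9, 10, 12, 13, 13],
  [0, 0, 1, 3, 3, 4, 6, 6, 7],
  [0, 1, 2, 3, 3, 4, 4, 5, 5],
  [1, 3, 3, 5, 5, 7, 9, 10, 13, 13, 15, 15],
  [0, 0, 1, 1, 2, 2, 3, 3, 4, 6, 7, 7, 9, 10, 10, 12, 12, 13]]
noncomputable def span (j : ℕ) : List ℕ := (nth spanL [] j).map orb
theorem span_chk : ∀ j < 14, ∀ k < 14, sumDig (span j) k % 3 = if j = k then 1 else 0 := by decide +kernel
theorem span_lt : ∀ l ∈ spanL, ∀ i ∈ l, i < 56 := by decide +kernel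

end Cfsg.Agent.Lib.Helper27.Re3
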