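import Cfsg.Agent.Lib.Helper27.Re3Data

set_option autoImplicit false
set_option maxRecDepth 100000

namespace Cfsg.Agent.Lib.Helper27.Re3Lk0

open Cfsg.Agent.Lib.Helper28 Cfsg.Agent.Lib.Helper27.PC

noncomputable def tabC0 : Tr := .leaf 0xd9111
noncomputable def auxC0 : Tr := .leaf 0x4d56a02
noncomputable def tabC1 : Tr := .leaf 0xdd192
noncomputable def auxC1 : Tr := .leaf 0x40d0603
noncomputable def tabC2 : Tr := .leaf 0x4d820
noncomputable def auxC2 : Tr := .leaf 0x1500000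
noncomputable def tabC3 : Tr := .leaf 0x848b2
noncomputable def auxC3 : Tr := .leaf 0x2d86d04
noncomputable def tabC4 : Tr := .leaf 0x4db22
noncomputable def auxC4 : Tr := .leaf 0x1560a85
noncomputable def tabC5 : Tr := .leaf 0x9c9b2
noncomputable def auxC5 : Tr := .leaf 0x2dc6f06
noncomputable def tabC6 : Tr := .leaf 0x4db22
noncomputable def auxC6 : Tr := .leaf 0x15a0e87
noncomputable def tabC7 : Tr := .leaf 0x9c9b2
noncomputable def auxC7 : Tr := .leaf 0x2e07108
noncomputable def tabC8 : Tr := .leaf 0x9c9b2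
noncomputable def auxC8 : Tr := .leaf 0x2e47309
noncomputable def tabC9 : Tr := .leaf 0x4db22
noncomputable def auxC9 : Tr := .leaf 0x15e148a
noncomputable def tabC10 : Tr := .leaf 0xa09b2
noncomputable def auxC10 : Tr := .leaf 0x2e8750b
noncomputable def tabC11 : Tr := .leaf 0x4dba2
noncomputable def auxC11 : Tr := .leaf 0x162188c
noncomputable def tabC12 : Tr := .leaf 0x9c9b2
noncomputable def auxC12 : Tr := .leaf 0x2ec770d
noncomputable def tabC13 : Tr := .leaf 0x4db22
noncomputable def auxC13 : Tr := .leaf 0x1661c8e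
noncomputable def tabC14 : Tr := .leaf 0xdd111
noncomputable def auxC14 : Tr := .leaf 0x4f1780f
noncomputable def tabC15 : Tr := .leaf 0xe1192
noncomputable def auxC15 : Tr := .leaf 0x4412010
noncomputable def tabC16 : Tr := .leaf 0xdd111
noncomputable def auxC16 : Tr := .leaf 0x4f57a11
noncomputable def tabC17 : Tr := .leaf 0xe1192
noncomputable def auxC17 : Tr := .leaf 0x4492412
noncomputable def tabC18 : Tr := .leaf 0xd9111
noncomputable def auxC18 : Tr := .leaf 0x4f97c13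
noncomputable def tabC19 : Tr := .leaf 0xdd192
noncomputable def auxC19 : Tr := .leaf 0x4512814
noncomputable def tabC20 : Tr := .leaf 0x4dba2
noncomputable def auxC20 : Tr := .leaf 0x16a2a95
noncomputable def tabC21 : Tr := .leaf 0xa09b2
noncomputable def auxC21 : Tr := .leaf 0x2fc7f16
noncomputable def tabC22 : Tr := .leaf 0x4dba2
noncomputable def auxC22 : Tr := .leaf 0x16e2e97
noncomputable def tabC23 : Tr := .leaf 0xa09b2
noncomputable def auxC23 : Tr := .leaf 0x3008118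
noncomputable def tabC24 : Tr := .leaf 0x4db22
noncomputable def auxC24 : Tr := .leaf 0x1723299
noncomputable def tabC25 : Tr := .leaf 0x9c9b2
noncomputable def auxC25 : Tr := .leaf 0x304831a
noncomputable def tabC26 : Tr := .leaf 0xd9112
noncomputable def auxC26 : Tr := .leaf 0x509841b
noncomputable def tabC27 : Tr := .leaf 0xdd193
noncomputable def auxC27 : Tr := .leaf 0x471381c
noncomputable def tabC28 : Tr := .leaf 0x4db22
noncomputable def auxC28 : Tr := .leaf 0x1763a9d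
noncomputable def tabC29 : Tr := .leaf 0x9c9b2
noncomputable def auxC29 : Tr := .leaf 0x30c871e
noncomputable def tabC30 : Tr := .leaf 0x4dba2
noncomputable def auxC30 : Tr := .leaf 0x17a3e9f
noncomputable def tabC31 : Tr := .leaf 0xa09b2
noncomputable def auxC31 : Tr := .leaf 0x3108920
noncomputable def tabC32 : Tr := .leaf 0x4db22
noncomputable def auxC32 : Tr := .leaf 0x17e42a1
noncomputable def tabC33 : Tr := .leaf 0x9c9b2
noncomputable def auxC33 : Tr := .leaf 0x3148b22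
noncomputable def tabC34 : Tr := .leaf 0x9c9b2
noncomputable def auxC34 : Tr := .leaf 0x3188d23
noncomputable def tabC35 : Tr := .leaf 0x4db22
noncomputable def auxC35 : Tr := .leaf 0x18248a4
noncomputable def tabC36 : Tr := .leaf 0x9c9b2
noncomputable def auxC36 : Tr := .leaf 0x31c8f25
noncomputable def tabC37 : Tr := .leaf 0x4db22
noncomputable def auxC37 : Tr := .leaf 0x1864ca6
noncomputable def tabC38 : Tr := .leaf 0xa09b2
noncomputable def auxC38 : Tr := .leaf 0x3209127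
noncomputable def tabC39 : Tr := .leaf 0x4dba2
noncomputable def auxC39 : Tr := .leaf 0x18a50a8
noncomputable def tabC40 : Tr := .leaf 0xd911b
noncomputable def auxC40 : Tr := .leaf 0x4a55229
noncomputable def tabC41 : Tr := .leaf 0xdd19c
noncomputable def auxC41 : Tr := .leaf 0x4a9542a
noncomputable def tabC42 : Tr := .leaf 0xf1391
noncomputable def auxC42 : Tr := .leaf 0x4ad562b
noncomputable def tabC43 : Tr := .leaf 0xf5412
noncomputable def auxC43 : Tr := .leaf 0x4b1582c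
noncomputable def tabC44 : Tr := .leaf 0xe9291
noncomputable def auxC44 : Tr := .leaf 0x4b55a2d
noncomputable def tabC45 : Tr := .leaf 0xed312
noncomputable def auxC45 : Tr := .leaf 0x4b95c2e
noncomputable def tabC46 : Tr := .leaf 0x4db22
noncomputable def auxC46 : Tr := .leaf 0x18e5eaf
noncomputable def tabC47 : Tr := .leaf 0x9c9b2
noncomputable def auxC47 : Tr := .leaf 0x3249330
noncomputable def tabC48 : Tr := .leaf 0x4db22
noncomputable def auxC48 : Tr := .leaf 0x19262b1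
noncomputable def tabC49 : Tr := .leaf 0x9c9b2
noncomputable def auxC49 : Tr := .leaf 0x3289532
noncomputable def tabC50 : Tr := .leaf 0x4dba2
noncomputable def auxC50 : Tr := .leaf 0x19666b3
noncomputable def tabC51 : Tr := .leaf 0xa09b2
noncomputable def auxC51 : Tr := .leaf 0x32c9734
noncomputable def tabC52 : Tr := .leaf 0xe1210
noncomputable def auxC52 : Tr := .leaf 0x5319801
noncomputable def tabC53 : Tr := .leaf 0xdd190
noncomputable def auxC53 : Tr := .leaf 0x5359a01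
noncomputable def tabC54 : Tr := .leaf 0xe1210
noncomputable def auxC54 : Tr := .leaf 0x5399c01
noncomputable def tabC55 : Tr := .leaf 0xdd190
noncomputable def auxC55 : Tr := .leaf 0x53d9e01
noncomputable def tabC56 : Tr := .leaf 0xe5210
noncomputable def auxC56 : Tr := .leaf 0x541a001
noncomputable def tabC57 : Tr := .leaf 0xe9290
noncomputable def auxC57 : Tr := .leaf 0x545a201
noncomputable def tabC58 : Tr := .leaf 0xe5290
noncomputable def auxC58 : Tr := .leaf 0x549a401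
noncomputable def tabC59 : Tr := .leaf 0xed310
noncomputable def auxC59 : Tr := .leaf 0x54da601
noncomputable def tabC60 : Tr := .leaf 0
noncomputable def auxC60 : Tr := .leaf 0
noncomputable def dC : Tr := .leaf 0x420200
noncomputable def tabCols : List Tr := [tabC0, tabC1, tabC2, tabC3, tabC4, tabC5, tabC6, tabC7, tabC8, tabC9, tabC10, tabC11, tabC12, tabC13, tabC14, tabC15, tabC16, tabC17, tabC18, tabC19, tabC20, tabC21, tabC22, tabC23, tabC24, tabC25, tabC26, tabC27, tabC28, tabC29, tabC30, tabC31, tabC32, tabC33, tabC34, tabC35, tabC36, tabC37, tabC38, tabC39, tabC40, tabC41, tabC42, tabC43, tabC44, tabC45, tabC46, tabC47, tabC48, tabC49, tabC50, tabC51, tabC52, tabC53, tabC54, tabC55, tabC56, tabC57, tabC58, tabC59, tabC60]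
noncomputable def auxCols : List Tr := [auxC0, auxC1, auxC2, auxC3, auxC4, auxC5, auxC6, auxC7, auxC8, auxC9, auxC10, auxC11, auxC12, auxC13, auxC14, auxC15, auxC16, auxC17, auxC18, auxC19, auxC20, auxC21, auxC22, auxC23, auxC24, auxC25, auxC26, auxC27, auxC28, auxC29, auxC30, auxC31, auxC32, auxC33, auxC34, auxC35, auxC36, auxC37, auxC38, auxC39, auxC40, auxC41, auxC42, auxC43, auxC44, auxC45, auxC46, auxC47, auxC48, auxC49, auxC50, auxC51, auxC52, auxC53, auxC54, auxC55, auxC56, auxC57, auxC58, auxC59, auxC60]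
def pairsC : List ((List ℕ × ℕ × List ℕ) × ℕ) := [
  (([57, 52, 57, 57, 57, 57], 0, []), 4098),
  (([0], 1, []), 52224),
  (([3, 3], 3, []), 27650),
  (([3, 57, 52, 57, 57, 57, 57], 4, []), 10242),
  (([3, 3, 52, 57, 57, 57], 5, []), 28674),
  (([3, 52, 57, 57, 57], 6, []), 11266),
  (([3, 3, 57, 52, 57, 57, 57, 57], 7, []), 29698),
  (([3, 3, 55, 59, 53, 58, 57, 57, 57], 8, []), 30722),
  (([3, 53, 57, 53, 58, 57], 9, []), 12290),
  (([3, 3, 52, 52, 58, 57, 57], 10, []), 31746),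
  (([3, 53, 57, 57, 57, 57, 59], 11, []), 13314),
  (([3, 3, 58, 53, 58, 57, 57, 57, 59], 12, []), 32770),
  (([3, 53, 58, 53, 56], 13, []), 14338),
  (([52, 52, 58, 57, 57], 14, []), 5122),
  (([14], 15, []), 66560),
  (([58, 53, 58, 57, 57, 57, 59], 16, []), 6146),
  (([16], 17, []), 68608),
  (([55, 59, 53, 58, 57, 57, 57], 18, []), 7170),
  (([18], 19, []), 70656),
  (([3, 58, 53, 58, 57, 57, 57, 59], 20, []), 15362),
  (([3, 3, 53, 57, 53, 58, 57], 21, []), 33794),
  (([3, 55, 59, 53, 58, 57, 57, 57], 22, []), 16386),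
  (([3, 3, 53, 57, 57, 57, 57, 59], 23, []), 34818),
  (([3, 52, 52, 58, 57, 57], 24, []), 17410),
  (([3, 3, 53, 58, 53, 56], 25, []), 35842),
  (([53, 0], 26, []), 0),
  (([26], 27, []), 78848),
  (([3, 57, 53, 57, 57, 57, 57], 28, []), 18434),
  (([3, 3, 55, 55, 57, 57], 29, []), 36866),
  (([3, 57, 53, 58, 57, 59], 30, []), 19458),
  (([3, 3, 55, 55, 56], 31, []), 37890),
  (([3, 57, 53, 57], 32, []), 20482),
  (([3, 3, 55, 55, 58, 57, 57, 57, 59], 33, []), 38914),
  (([3, 3, 55, 55, 57], 34, []), 39938),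
  (([3, 57, 53, 57, 57], 35, []), 21506),
  (([3, 3, 55, 55, 57, 57, 57, 57], 36, []), 40962),
  (([3, 57, 53, 56], 37, []), 22530),
  (([3, 3, 55, 55, 58, 57, 59], 38, []), 41986),
  (([3, 57, 53, 58, 57, 57, 57, 59], 39, []), 23554),
  (([3, 56, 55, 53, 57, 2], 40, []), 51204),
  (([40], 41, []), 93184),
  (([58, 57, 57, 57, 59], 42, []), 8194),
  (([42], 43, []), 95232),
  (([56], 44, []), 9218),
  (([44], 45, []), 97280),
  (([3, 57, 53], 46, []), 24578),
  (([3, 3, 55, 55], 47, []), 43010),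
  (([3, 57, 53, 57, 57, 57], 48, []), 25602),
  (([3, 3, 55, 55, 58, 57, 57, 59], 49, []), 44034),
  (([3, 57, 53, 58, 57, 57, 59], 50, []), 26626),
  (([3, 3, 55, 55, 57, 57, 57], 51, []), 45058),
  (([3, 57, 52, 57, 57, 57, 57, 2], 0, []), 46084),
  (([2], 3, []), 54272),
  (([4], 5, []), 56320),
  (([6], 7, []), 58368),
  (([9], 8, []), 61440),
  (([11], 10, []), 63488),
  (([13], 12, []), 65536),
  (([3, 58, 53, 58, 57, 57, 57, 59, 2], 14, []), 47108),
  (([3, 55, 59, 53, 58, 57, 57, 57, 2], 16, []), 48132),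
  (([3, 52, 52, 58, 57, 57, 2], 18, []), 49156),
  (([20], 21, []), 72704),
  (([22], 23, []), 74752),
  (([24], 25, []), 76800),
  (([3, 54, 52, 57, 57, 57, 2], 26, []), 50180),
  (([28], 29, []), 80896),
  (([30], 31, []), 82944),
  (([32], 33, []), 84992),
  (([35], 34, []), 88064),
  (([37], 36, []), 90112),
  (([39], 38, []), 92160),
  (([46], 47, []), 99328),
  (([48], 49, []), 101376),
  (([50], 51, []), 103424),
  (([53], 52, []), 106496),
  (([0, 26], 53, []), 2),
  (([55], 54, []), 108544),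
  (([0, 40], 55, []), 1026),
  (([31, 3, 3, 55, 55], 56, []), 37888),
  (([56], 57, []), 109568),
  (([54, 53, 55, 55, 55], 58, []), 2050),
  (([56, 56, 56, 56, 56, 58, 57, 57, 57], 59, []), 3072),
  (([3], 2, []), 55296),
  (([5], 4, []), 57344),
  (([7], 6, []), 59392),
  (([8], 9, []), 60416),
  (([10], 11, []), 62464),
  (([12], 13, []), 64512),
  (([21], 20, []), 73728),
  (([23], 22, []), 75776),
  (([25], 24, []), 77824),
  (([29], 28, []), 81920),
  (([31], 30, []), 83968),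
  (([33], 32, []), 86016),
  (([34], 35, []), 87040),
  (([36], 37, []), 89088),
  (([38], 39, []), 91136),
  (([47], 46, []), 100352),
  (([49], 48, []), 102400),
  (([51], 50, []), 104448)]
def subL : List ℕ := [52, 53, 54, 55, 56, 57, 58, 59]
noncomputable def D : UB where
  tab := field tabCols 6 63 7 127
  aux := field auxCols 6 63 9 511
  dinfo := field [dC] 6 63 8 255 0
  rb := 4
  RM := 15
  pb := 7
  PM := 127
  m := 3
  K := 60
  Kall := 61
  pairs := pairsC.map Prod.fst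
  isSub := fun x => subL.contains x
  fuel := 4
def ren : ℕ → ℕ
  | 0 => 0
  | 1 => 1
  | 2 => 2
  | 3 => 3
  | 4 => 4
  | 5 => 5
  | 6 => 6
  | 7 => 7
  | 8 => 8
  | 9 => 9
  | 10 => 10
  | 11 => 11
  | 12 => 12
  | 13 => 13
  | 14 => 14
  | 15 => 15
  | 16 => 16
  | 17 => 17
  | 18 => 18
  | 19 => 19
  | 20 => 20
  | 21 => 21
  | 22 => 22
  | 23 => 23
  | 24 => 24
  | 25 => 25
  | 26 => 26
  | 27 => 27
  | 28 => 28
  | 29 => 29
  | 30 => 30
  | 31 => 31
  | 32 => 32
  | 33 => 33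
  | 34 => 34
  | 35 => 35
  | 36 => 36
  | 37 => 37
  | 38 => 38
  | 39 => 39
  | 40 => 40
  | 41 => 41
  | 42 => 42
  | 43 => 43
  | 44 => 44
  | 45 => 45
  | 46 => 46
  | 47 => 47
  | 48 => 48
  | 49 => 49
  | 50 => 50
  | 51 => 51
  | 52 => 52
  | 53 => 53
  | 54 => 54
  | 55 => 55
  | 56 => 56
  | 57 => 57
  | 58 => 58
  | 59 => 59
  | x => 0
def linv : ℕ → ℕ
  | 0 => 1
  | 1 => 0
  | 2 => 3
  | 3 => 2
  | 4 => 5
  | 5 => 4
  | 6 => 7
  | 7 => 6
  | 8 => 9
  | 9 => 8
  | 10 => 11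
  | 11 => 10
  | 12 => 13
  | 13 => 12
  | 14 => 15
  | 15 => 14
  | 16 => 17
  | 17 => 16
  | 18 => 19
  | 19 => 18
  | 20 => 21
  | 21 => 20
  | 22 => 23
  | 23 => 22
  | 24 => 25
  | 25 => 24
  | 26 => 27
  | 27 => 26
  | 28 => 29
  | 29 => 28
  | 30 => 31
  | 31 => 30
  | 32 => 33
  | 33 => 32
  | 34 => 35
  | 35 => 34
  | 36 => 37
  | 37 => 36
  | 38 => 39
  | 39 => 38
  | 40 => 41
  | 41 => 40
  | 42 => 43
  | 43 => 42
  | 44 => 45
  | 45 => 44
  | 46 => 47
  | 47 => 46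
  | 48 => 49
  | 49 => 48
  | 50 => 51
  | 51 => 50
  | 52 => 53
  | 53 => 52
  | 54 => 55
  | 55 => 54
  | 56 => 57
  | 57 => 56
  | 58 => 58
  | 59 => 59
  | x => x
def relsL : List (List ℕ) := [
  [53, 0, 26],
  [55, 0, 40],
  [58, 54, 53, 55, 55, 55],
  [56, 56, 56, 56, 56, 58, 57, 57, 57, 59],
  [0, 57, 52, 57, 57, 57, 57],
  [14, 52, 52, 58, 57, 57],
  [16, 58, 53, 58, 57, 57, 57, 59],
  [18, 55, 59, 53, 58, 57, 57, 57],
  [42, 58, 57, 57, 57, 59],
  [44, 56],
  [4, 3, 57, 52, 57, 57, 57, 57],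
  [6, 3, 52, 57, 57, 57],
  [9, 3, 53, 57, 53, 58, 57],
  [11, 3, 53, 57, 57, 57, 57, 59],
  [13, 3, 53, 58, 53, 56],
  [20, 3, 58, 53, 58, 57, 57, 57, 59],
  [22, 3, 55, 59, 53, 58, 57, 57, 57],
  [24, 3, 52, 52, 58, 57, 57],
  [28, 3, 57, 53, 57, 57, 57, 57],
  [30, 3, 57, 53, 58, 57, 59],
  [32, 3, 57, 53, 57],
  [35, 3, 57, 53, 57, 57],
  [37, 3, 57, 53, 56],
  [39, 3, 57, 53, 58, 57, 57, 57, 59],
  [46, 3, 57, 53],
  [48, 3, 57, 53, 57, 57, 57],
  [50, 3, 57, 53, 58, 57, 57, 59],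
  [3, 3, 3],
  [5, 3, 3, 52, 57, 57, 57],
  [7, 3, 3, 57, 52, 57, 57, 57, 57],
  [8, 3, 3, 55, 59, 53, 58, 57, 57, 57],
  [10, 3, 3, 52, 52, 58, 57, 57],
  [12, 3, 3, 58, 53, 58, 57, 57, 57, 59],
  [21, 3, 3, 53, 57, 53, 58, 57],
  [23, 3, 3, 53, 57, 57, 57, 57, 59],
  [25, 3, 3, 53, 58, 53, 56],
  [29, 3, 3, 55, 55, 57, 57],
  [31, 3, 3, 55, 55, 56],
  [33, 3, 3, 55, 55, 58, 57, 57, 57, 59],
  [34, 3, 3, 55, 55, 57],
  [36, 3, 3, 55, 55, 57, 57, 57, 57],
  [38, 3, 3, 55, 55, 58, 57, 59],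
  [47, 3, 3, 55, 55],
  [49, 3, 3, 55, 55, 58, 57, 57, 59],
  [51, 3, 3, 55, 55, 57, 57, 57],
  [2, 0, 3, 57, 52, 57, 57, 57, 57],
  [2, 14, 3, 58, 53, 58, 57, 57, 57, 59],
  [2, 16, 3, 55, 59, 53, 58, 57, 57, 57],
  [2, 18, 3, 52, 52, 58, 57, 57],
  [2, 26, 3, 54, 52, 57, 57, 57],
  [2, 40, 3, 56, 55, 53, 57]]
noncomputable def Lk : Link where
  D := D
  ren := ren
  inv := linv
  rels := relsL
  pairsC := pairsC
  subL := subL
  n := 3
theorem chk_0 : allRange D.checkLabel 0 3 = true := by decide +kernel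
theorem check_all : ∀ c < D.m, D.checkLabel c = true := by
  intro c hc
  have hc' : c < 3 := hc
  by_cases h0 : c < 3
  · exact allRange_iff.mp chk_0 c (by omega) (by omega)
  omega
theorem pairs_ok : pairsC.all (pairOK (relsAll relsL linv 61) linv 60 61) = true := by decide +kernel
theorem relsK_ok : ∀ r ∈ relsAll relsL linv 61, ∀ y ∈ r, y < 61 := by decide +kernel
theorem fin_all : allBelow D.finalLabel 3 = true := by decide +kernel
theorem live_count : D.liveCount = 3 := by decide +kernel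
theorem h0_ok : D.tg D.K 0 = 0 := by decide +kernel
theorem ok : Lk.OK Cfsg.Agent.Lib.Helper27.Re3.W Cfsg.Agent.Lib.Helper27.Re3.L.inv Cfsg.Agent.Lib.Helper27.Re3.L.K [0, 1, 2, 3, 4, 5, 6, 7, 8, 9, 10, 11, 12, 13, 14, 15, 16, 17, 18, 19, 20, 21, 22, 23, 24, 25, 26, 27, 28, 29, 30, 31, 32, 33, 34, 35, 36, 37, 38, 39, 40, 41, 42, 43, 44, 45, 46, 47, 48, 49, 50, 51, 52, 53, 54, 55, 56, 57, 58, 59] [52, 53, 54, 55, 56, 57, 58, 59] where
  Kall := rfl
  invK := by decide +kernel
  invE := rfl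
  relsIn := by decide +kernel
  Dpairs := rfl
  pairs := pairs_ok
  relsK := relsK_ok
  isSub := by
    intro x hx
    have hx' : subL.contains x = true := hx
    show x ∈ subL
    simpa using hx'
  sub := by decide +kernel
  check := check_all
  gens := by decide +kernel
  hm := by decide
  h0 := h0_ok
  fin := allBelow_iff.mp fin_all
  count := live_count

end Cfsg.Agent.Lib.Helper27.Re3Lk0
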