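import Cfsg.Agent.Lib.Helper27.Re3Data

set_option autoImplicit false
set_option maxRecDepth 100000

namespace Cfsg.Agent.Lib.Helper27.Re3Lk1

open Cfsg.Agent.Lib.Helper28 Cfsg.Agent.Lib.Helper27.PC

noncomputable def tabC0 : Tr := .leaf 0xc3928549c13382b8988266b49408cc5e17133a78a10668430760680c8080aa0440780104a0080
noncomputable def auxC0 : Tr := .leaf 0xbc23b4edfb315575951ba9670296d76c257d94776404500000000f0000000000500000
noncomputable def tabC1 : Tr := .leaf 0x726a0520a01e3b18a91981986fab71141ca840605303b1f78f4a5673878024b88168eb00208c0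
noncomputable def auxC1 : Tr := .leaf 0x6f12340ce3d8e039f0a390dc3d0c83c0c6378d63abac3c8e8330c008b82360c0000c00
noncomputable def tabC2 : Tr := .leaf 0x8aeb912ad62529495f4225d4c506ed65a693ba18738b182713804d7c3c206c048080010cc0100
noncomputable def auxC2 : Tr := .leaf 0x8615841a9849a66748e6c9886b1b0661b58599b8118c600246bc826000000000600000
noncomputable def tabC3 : Tr := .leaf 0x502fa692c5943f264c0e63bc8958a0f182036a5a640871bb9709e94ac8b0c40cc0082c00e00c2
noncomputable def auxC3 : Tr := .leaf 0x4a5c99e6193a6222a709b6502227691a6a9625f96cf49b8b22a4d420a4000240000042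
noncomputable def tabC4 : Tr := .leaf 0xd8736ed65e3cc2606a1c255c9a5a21e1c786ca487383e2d290e8a8248630ca1d00106d0100040
noncomputable def auxC4 : Tr := .leaf 0xd2a4aaaacac28aaa29ea52b2a82aea7296a1a9b5daa35355354284a228000a80000001
noncomputable def tabC5 : Tr := .leaf 0x62bc0a6ae208b798b55d82283b6972c82ac9009a20c17d148d21a02102a4ae018271a70881040
noncomputable def auxC5 : Tr := .leaf 0x5936491ee481f04cdaa42475654624a59e46445175a76444f60c531000a4690c719001
noncomputable def tabC6 : Tr := .leaf 0xd2f3678b2e293f41d93be7b8db6b1045981d598e20c3b4d98482081408e14a198250ad0920040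
noncomputable def auxC6 : Tr := .leaf 0xcae54da14b8d26b5adcbb534bbae0d7ea943504bab7081d02b3d1ab22cad4ad8800001
noncomputable def tabC7 : Tr := .leaf 0xb51a5f6c4a28bab9394b2730937331e1e7a103c60b44ad179440a034844428294439ee0140040
noncomputable def auxC7 : Tr := .leaf 0xab32cd3e2c8314cdbd6c2b24cc3eef73dec13d8ca3ecf0bcef4306f9bc8c3300000001
noncomputable def tabC8 : Tr := .leaf 0
noncomputable def auxC8 : Tr := .leaf 0
noncomputable def dC : Tr := .leaf 0x484901001c0302514a114020840c81100184300438841062042384608810c2104000400400000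
noncomputable def tabCols : List Tr := [tabC0, tabC1, tabC2, tabC3, tabC4, tabC5, tabC6, tabC7, tabC8]
noncomputable def auxCols : List Tr := [auxC0, auxC1, auxC2, auxC3, auxC4, auxC5, auxC6, auxC7, auxC8]
def pairsC : List ((List ℕ × ℕ × List ℕ) × ℕ) := [
  (([0, 5], 3, []), 4),
  (([0], 1, []), 6144),
  (([3, 0], 5, []), 2),
  (([1], 0, []), 7168),
  (([3], 2, []), 9216),
  (([2, 1, 6, 5, 5, 7, 1], 5, []), 3076),
  (([5, 0, 6, 5, 5, 1], 6, []), 4100),
  (([2], 3, []), 8192),
  (([5], 4, []), 11264),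
  (([6], 6, []), 12288),
  (([6, 4], 7, []), 2050),
  (([3, 1, 5, 5, 5, 5, 7, 0, 0], 6, []), 5126),
  (([3, 3, 3, 6, 2], 1, []), 1030),
  (([7], 7, []), 13312),
  (([5, 3], 0, []), 0),
  (([4], 5, []), 10240),
  (([1, 6, 5, 5, 7, 1, 5], 2, []), 3078),
  (([3, 6, 2, 1, 3], 3, []), 1034),
  (([4, 7], 6, []), 2052),
  (([7, 6], 4, []), 2048),
  (([5, 1, 6, 5, 0, 6], 5, []), 4108),
  (([6, 5, 5, 1, 6, 5], 0, []), 4104),
  (([1, 3, 3, 3, 6], 2, []), 1028),
  (([3, 3, 6, 2, 1], 3, []), 1032),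
  (([2, 1, 3, 3, 3], 6, []), 1026),
  (([6, 3, 1, 5, 5, 5, 5, 7, 0], 0, []), 5124),
  (([6, 5, 5, 7, 1, 5, 2], 1, []), 3080)]
def subL : List ℕ := [4, 5, 6, 7]
noncomputable def D : UB where
  tab := field tabCols 6 63 11 2047
  aux := field auxCols 6 63 10 1023
  dinfo := field [dC] 6 63 11 2047 0
  rb := 6
  RM := 63
  pb := 5
  PM := 31
  m := 28
  K := 8
  Kall := 9
  pairs := pairsC.map Prod.fst
  isSub := fun x => subL.contains x
  fuel := 4
def ren : ℕ → ℕ
  | 0 => 52
  | 1 => 53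
  | 2 => 54
  | 3 => 55
  | 4 => 56
  | 5 => 57
  | 6 => 58
  | 7 => 59
  | x => 0
def linv : ℕ → ℕ
  | 0 => 1
  | 1 => 0
  | 2 => 3
  | 3 => 2
  | 4 => 5
  | 5 => 4
  | 6 => 6
  | 7 => 7
  | x => x
def relsL : List (List ℕ) := [
  [5, 3, 0],
  [6, 2, 1, 3, 3, 3],
  [7, 6, 4],
  [1, 5, 2, 1, 6, 5, 5, 7],
  [1, 6, 5, 0, 6, 5, 5],
  [0, 0, 6, 3, 1, 5, 5, 5, 5, 7]]
noncomputable def Lk : Link where
  D := D
  ren := ren
  inv := linv
  rels := relsL
  pairsC := pairsC
  subL := subL
  n := 28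
theorem chk_0 : allRange D.checkLabel 0 28 = true := by decide +kernel
theorem check_all : ∀ c < D.m, D.checkLabel c = true := by
  intro c hc
  have hc' : c < 28 := hc
  by_cases h0 : c < 28
  · exact allRange_iff.mp chk_0 c (by omega) (by omega)
  omega
theorem pairs_ok : pairsC.all (pairOK (relsAll relsL linv 9) linv 8 9) = true := by decide +kernel
theorem relsK_ok : ∀ r ∈ relsAll relsL linv 9, ∀ y ∈ r, y < 9 := by decide +kernel
theorem fin_all : allBelow D.finalLabel 28 = true := by decide +kernel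
theorem live_count : D.liveCount = 28 := by decide +kernel
theorem h0_ok : D.tg D.K 0 = 0 := by decide +kernel
theorem ok : Lk.OK Cfsg.Agent.Lib.Helper27.Re3.W Cfsg.Agent.Lib.Helper27.Re3.L.inv Cfsg.Agent.Lib.Helper27.Re3.L.K [52, 53, 54, 55, 56, 57, 58, 59] [56, 57, 58, 59] where
  Kall := rfl
  invK := by decide +kernel
  invE := rfl
  relsIn := by decide +kernel
  Dpairs := rfl
  pairs := pairs_ok
  relsK := relsK_ok
  isSub := by
    intro x hx
    have hx' : subL.contains x = true := hx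
    show x ∈ subL
    simpa using hx'
  sub := by decide +kernel
  check := check_all
  gens := by decide +kernel
  hm := by decide
  h0 := h0_ok
  fin := allBelow_iff.mp fin_all
  count := live_count

end Cfsg.Agent.Lib.Helper27.Re3Lk1
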