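import Cfsg.Agent.Lib.Helper27.RuLMain

/-! # Kernel checks for the Rudvalis lattice: closure certificates (helper27) -/

set_option autoImplicit false

namespace Cfsg.Agent.Lib.Helper27.RuL

open Cfsg.Spor

theorem certRj : ∀ k < 28, ruRj (bas k) = comb (cRj.getD k []) := by decide +kernel
theorem certRk : ∀ k < 28, ruRk (bas k) = comb (cRk.getD k []) := by decide +kernel
theorem certSg : ∀ k < 28, ruSign (bas k) = comb (cSg.getD k []) := by decide +kernel
theorem certSh : ∀ k < 28, ruShift (bas k) = comb (cSh.getD k []) := by decide +kernel
theorem certTab : ruTable = cTab.map comb := by decide +kernel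

end Cfsg.Agent.Lib.Helper27.RuL
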