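import Cfsg.Agent.Lib.Helper27.RuLMain

/-! # Kernel checks for the Rudvalis lattice: Gram matrix and test vectors (helper27) -/

set_option autoImplicit false

namespace Cfsg.Agent.Lib.Helper27.RuL

open Cfsg.Spor

theorem gram : ∀ k < 28, ∀ l < 28, (4 : ℤ) ∣ R (bas k) (bas l) ∧ (4 : ℤ) ∣ R (bas k) (gI • bas l) ∧
    (4 : ℤ) ∣ R (gI • bas k) (bas l) ∧ (4 : ℤ) ∣ R (gI • bas k) (gI • bas l) := by decide +kernel

theorem gram8 : ∀ k < 28, (8 : ℤ) ∣ R (bas k) (bas k) ∧ (8 : ℤ) ∣ R (gI • bas k) (gI • bas k) := by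
  decide +kernel

theorem chk2 : ∀ k < 56, ∀ i < 56,
    (4 : ℤ) ∣ xr (comb (t2.getD k [])) i - (fld (rows2.getD k 0) (2 * i) : ℤ) ∧
      (k < i → fld (rows2.getD k 0) (2 * i) = 0) := by decide +kernel

theorem chk1 : ∀ k < 56, ∀ i < 56,
    (4 : ℤ) ∣ xr (comb (t1.getD k [])) i - (fld (rows1.getD k 0) (2 * i) : ℤ) ∧
      (k < i → fld (rows1.getD k 0) (2 * i) = 0) ∧
      (2 : ℤ) ∣ (fld (rows1.getD k 0) (2 * i) : ℤ) := by decide +kernel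

end Cfsg.Agent.Lib.Helper27.RuL
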