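import Mathlib

/-! # Data for the Rudvalis lattice (helper27; generated by py/ru28/emit.py) -/

set_option autoImplicit false

namespace Cfsg.Agent.Lib.Helper27.RuL

/-- a triangular basis over the Gaussian integers -/
def basL : List (List (ℤ × ℤ)) := [
  [(4, 0), (0, 0), (0, 0), (0, 0), (0, 0), (0, 0), (0, 0), (0, 0), (0, 0), (0, 0), (0, 0), (0, 0), (0, 0), (0, 0), (0, 0), (0, 0), (0, 0), (0, 0), (0, 0), (0, 0), (0, 0), (0, 0), (0, 0), (0, 0), (0, 0), (0, 0), (0, 0), (0, 0)],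
  [(0, 0), (4, 0), (0, 0), (0, 0), (0, 0), (0, 0), (0, 0), (0, 0), (0, 0), (0, 0), (0, 0), (0, 0), (0, 0), (0, 0), (0, 0), (0, 0), (0, 0), (0, 0), (0, 0), (0, 0), (0, 0), (0, 0), (0, 0), (0, 0), (0, 0), (0, 0), (0, 0), (0, 0)],
  [(0, 0), (0, 0), (4, 0), (0, 0), (0, 0), (0, 0), (0, 0), (0, 0), (0, 0), (0, 0), (0, 0), (0, 0), (0, 0), (0, 0), (0, 0), (0, 0), (0, 0), (0, 0), (0, 0), (0, 0), (0, 0), (0, 0), (0, 0), (0, 0), (0, 0), (0, 0), (0, 0), (0, 0)],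
  [(-2, -2), (-2, -2), (-2, -2), (2, 2), (0, 0), (0, 0), (0, 0), (0, 0), (0, 0), (0, 0), (0, 0), (0, 0), (0, 0), (0, 0), (0, 0), (0, 0), (0, 0), (0, 0), (0, 0), (0, 0), (0, 0), (0, 0), (0, 0), (0, 0), (0, 0), (0, 0), (0, 0), (0, 0)],
  [(0, 0), (0, 0), (0, 0), (0, 0), (4, 0), (0, 0), (0, 0), (0, 0), (0, 0), (0, 0), (0, 0), (0, 0), (0, 0), (0, 0), (0, 0), (0, 0), (0, 0), (0, 0), (0, 0), (0, 0), (0, 0), (0, 0), (0, 0), (0, 0), (0, 0), (0, 0), (0, 0), (0, 0)],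
  [(0, -2), (0, -2), (-2, 0), (0, -2), (-2, -2), (2, 2), (0, 0), (0, 0), (0, 0), (0, 0), (0, 0), (0, 0), (0, 0), (0, 0), (0, 0), (0, 0), (0, 0), (0, 0), (0, 0), (0, 0), (0, 0), (0, 0), (0, 0), (0, 0), (0, 0), (0, 0), (0, 0), (0, 0)],
  [(-2, 0), (0, -2), (0, -2), (0, -2), (-2, -2), (0, 0), (2, 2), (0, 0), (0, 0), (0, 0), (0, 0), (0, 0), (0, 0), (0, 0), (0, 0), (0, 0), (0, 0), (0, 0), (0, 0), (0, 0), (0, 0), (0, 0), (0, 0), (0, 0), (0, 0), (0, 0), (0, 0), (0, 0)],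
  [(0, -2), (-2, 0), (0, -2), (0, -2), (0, -2), (0, -2), (0, -2), (2, 0), (0, 0), (0, 0), (0, 0), (0, 0), (0, 0), (0, 0), (0, 0), (0, 0), (0, 0), (0, 0), (0, 0), (0, 0), (0, 0), (0, 0), (0, 0), (0, 0), (0, 0), (0, 0), (0, 0), (0, 0)],
  [(0, 0), (0, 0), (0, 0), (0, 0), (0, 0), (0, 0), (0, 0), (0, 0), (4, 0), (0, 0), (0, 0), (0, 0), (0, 0), (0, 0), (0, 0), (0, 0), (0, 0), (0, 0), (0, 0), (0, 0), (0, 0), (0, 0), (0, 0), (0, 0), (0, 0), (0, 0), (0, 0), (0, 0)],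
  [(0, 0), (-2, -2), (-2, -2), (0, 0), (0, 0), (0, 0), (0, 0), (0, 0), (-2, -2), (2, 2), (0, 0), (0, 0), (0, 0), (0, 0), (0, 0), (0, 0), (0, 0), (0, 0), (0, 0), (0, 0), (0, 0), (0, 0), (0, 0), (0, 0), (0, 0), (0, 0), (0, 0), (0, 0)],
  [(1, -1), (-1, 1), (-1, -1), (1, -1), (-1, -1), (1, -1), (-1, -1), (-1, -1), (0, -2), (0, 0), (2, 0), (0, 0), (0, 0), (0, 0), (0, 0), (0, 0), (0, 0), (0, 0), (0, 0), (0, 0), (0, 0), (0, 0), (0, 0), (0, 0), (0, 0), (0, 0), (0, 0), (0, 0)],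
  [(0, -2), (-2, 0), (0, 0), (0, 0), (1, -1), (-1, -1), (-1, -1), (-1, -1), (1, 1), (1, -1), (-1, -1), (1, 1), (0, 0), (0, 0), (0, 0), (0, 0), (0, 0), (0, 0), (0, 0), (0, 0), (0, 0), (0, 0), (0, 0), (0, 0), (0, 0), (0, 0), (0, 0), (0, 0)],
  [(-2, 0), (-2, -2), (0, -2), (0, 0), (0, 0), (0, -2), (0, -2), (0, 0), (0, 0), (0, 0), (0, 0), (0, 0), (2, 2), (0, 0), (0, 0), (0, 0), (0, 0), (0, 0), (0, 0), (0, 0), (0, 0), (0, 0), (0, 0), (0, 0), (0, 0), (0, 0), (0, 0), (0, 0)],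
  [(-2, -2), (0, 0), (0, 0), (0, 0), (-2, -2), (0, -2), (0, -2), (0, 0), (0, 0), (0, 0), (0, 0), (0, 0), (0, -2), (2, 0), (0, 0), (0, 0), (0, 0), (0, 0), (0, 0), (0, 0), (0, 0), (0, 0), (0, 0), (0, 0), (0, 0), (0, 0), (0, 0), (0, 0)],
  [(-2, 0), (0, -2), (0, 0), (0, 0), (0, -2), (0, 0), (0, -2), (0, 0), (0, 0), (0, 0), (0, 0), (0, 0), (0, -2), (0, 0), (2, 0), (0, 0), (0, 0), (0, 0), (0, 0), (0, 0), (0, 0), (0, 0), (0, 0), (0, 0), (0, 0), (0, 0), (0, 0), (0, 0)],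
  [(-2, -2), (0, 0), (0, -2), (0, -2), (-1, -1), (-1, -1), (1, -1), (-1, -1), (0, -2), (0, -2), (0, 0), (0, 0), (1, -1), (-1, -1), (-1, -1), (1, 1), (0, 0), (0, 0), (0, 0), (0, 0), (0, 0), (0, 0), (0, 0), (0, 0), (0, 0), (0, 0), (0, 0), (0, 0)],
  [(-1, -1), (-1, -1), (1, -1), (-1, -1), (1, -1), (1, -1), (1, -1), (-1, -1), (-2, 0), (0, -2), (0, 0), (0, 0), (0, 0), (0, 0), (0, 0), (0, 0), (2, 2), (0, 0), (0, 0), (0, 0), (0, 0), (0, 0), (0, 0), (0, 0), (0, 0), (0, 0), (0, 0), (0, 0)],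
  [(-2, 1), (-1, -2), (1, 0), (1, 0), (-2, 0), (0, 0), (0, 0), (0, 0), (0, -2), (1, -1), (-1, -1), (0, 0), (0, -1), (0, -1), (-1, 0), (0, -1), (-1, -1), (1, 1), (0, 0), (0, 0), (0, 0), (0, 0), (0, 0), (0, 0), (0, 0), (0, 0), (0, 0), (0, 0)],
  [(-1, 1), (1, -1), (-1, -1), (1, -1), (-1, 1), (-1, -1), (-1, -1), (-1, -1), (-2, -2), (0, 0), (0, 0), (0, 0), (0, 0), (0, 0), (0, 0), (0, 0), (0, -2), (0, 0), (2, 0), (0, 0), (0, 0), (0, 0), (0, 0), (0, 0), (0, 0), (0, 0), (0, 0), (0, 0)],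
  [(-1, -1), (-2, -2), (1, 1), (0, 0), (1, 1), (1, -1), (1, -1), (-1, -1), (0, -1), (0, -1), (-1, 0), (0, -1), (1, -1), (-1, -1), (0, 0), (0, 0), (-1, 0), (0, -1), (-1, 0), (1, 0), (0, 0), (0, 0), (0, 0), (0, 0), (0, 0), (0, 0), (0, 0), (0, 0)],
  [(-1, 1), (-1, -1), (-2, -2), (0, 0), (-1, -1), (1, -1), (-1, -1), (-1, -1), (1, -2), (1, 0), (-1, 0), (0, -1), (-1, 0), (0, -1), (0, -1), (0, -1), (-1, -1), (0, 0), (-1, -1), (0, 0), (2, 0), (0, 0), (0, 0), (0, 0), (0, 0), (0, 0), (0, 0), (0, 0)],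
  [(0, 1), (0, 1), (1, 0), (0, 1), (-1, 0), (0, 1), (0, 1), (0, -1), (0, 1), (-1, 0), (0, -1), (0, -1), (1, 0), (0, -1), (0, -1), (0, -1), (-1, -1), (0, 0), (-1, -1), (0, 0), (-1, -1), (1, 1), (0, 0), (0, 0), (0, 0), (0, 0), (0, 0), (0, 0)],
  [(-1, -2), (-1, 0), (1, 0), (0, -1), (-1, -1), (-1, -1), (0, 0), (0, 0), (-1, 1), (0, -2), (-1, -1), (0, 0), (1, 0), (0, -1), (0, -1), (0, -1), (1, -1), (0, 0), (-1, -1), (0, 0), (-1, -1), (0, 0), (1, 1), (0, 0), (0, 0), (0, 0), (0, 0), (0, 0)],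
  [(-1, 1), (0, -2), (-2, 0), (-1, -1), (1, 1), (0, -2), (0, -2), (-1, -1), (1, -1), (-1, -1), (0, 0), (0, 0), (1, 0), (0, -1), (0, -1), (0, -1), (-1, -1), (0, 0), (-1, -1), (0, 0), (0, -1), (0, -1), (0, -1), (1, 0), (0, 0), (0, 0), (0, 0), (0, 0)],
  [(-1, -2), (0, 0), (-1, -1), (0, 1), (1, 1), (0, -2), (-1, 0), (-1, 0), (0, -2), (0, -2), (0, -1), (0, -1), (0, -2), (-1, 0), (0, 0), (0, -1), (-1, -1), (0, -1), (-1, 0), (0, 0), (-1, 0), (0, 0), (0, -1), (0, 0), (1, 1), (0, 0), (0, 0), (0, 0)],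
  [(-1, -1), (-1, 0), (-2, 0), (-1, 0), (-2, -1), (1, -1), (-1, -1), (-1, 0), (-1, 0), (1, -1), (-1, 0), (0, 0), (1, -1), (0, 0), (0, 0), (0, 0), (-1, -1), (0, -1), (0, -1), (0, 0), (0, -1), (0, -1), (0, 0), (0, 0), (0, -1), (1, 0), (0, 0), (0, 0)],
  [(-1, 0), (-1, -2), (-2, -1), (0, 1), (-2, 0), (1, 0), (0, 1), (0, 0), (0, -1), (0, 1), (0, 0), (0, 0), (0, -2), (0, 0), (0, -1), (0, -1), (1, 0), (0, 0), (-1, 0), (0, 0), (0, 0), (0, -1), (0, -1), (0, 0), (0, -1), (0, 0), (1, 0), (0, 0)],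
  [(0, 1), (0, 0), (-2, 1), (1, -1), (1, 0), (0, -1), (-1, 0), (0, -1), (-1, 0), (-1, -1), (0, 0), (0, -1), (0, -2), (-1, -1), (0, -1), (0, -1), (0, 1), (0, -1), (-1, -1), (0, 0), (0, -1), (0, 0), (0, -1), (0, 0), (0, -1), (0, 0), (0, 0), (1, 0)]]

def cRj : List (List (ℕ × ℤ × ℤ)) := [
  [(1, 0, 1)],
  [(0, 0, 1)],
  [(0, -1, 0), (1, -1, 0), (2, -1, 0), (3, -1, 1)],
  [(0, 1, 0), (1, 1, 0), (2, 1, 1), (3, 1, 0)],
  [(0, -1, 1), (1, -1, 1), (2, 0, 1), (3, 0, 1), (4, 0, 1), (5, 1, 1)],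
  [(0, 2, 0), (1, 2, 0), (2, 1, -1), (3, 1, -1), (5, 0, -1)],
  [(0, 4, -1), (1, 3, -1), (2, 3, -2), (3, 2, -2), (4, 2, -2), (5, 0, -2), (6, 0, -1), (7, -1, -1)],
  [(0, -1, 0), (1, 0, 1), (2, -1, 0), (3, 0, 1), (7, 0, 1)],
  [(1, 0, 1), (2, 0, 1), (8, 0, 1), (9, 1, 1)],
  [(0, 1, 0), (1, 1, 0), (2, 1, 0), (3, 1, 0), (9, 0, -1)],
  [(0, 0, -4), (1, 1, -3), (2, 1, -5), (3, -1, -3), (4, -1, -3), (5, -1, -1), (6, -2, 0), (7, -1, 0), (8, 1, -1), (9, 0, -1), (10, -1, 0), (11, -1, 1)],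
  [(0, -6, 2), (1, -4, 2), (2, -6, 3), (3, -3, 4), (4, -3, 3), (5, 0, 2), (6, 0, 2), (7, 1, 2), (8, -1, 1), (9, 0, 1), (10, 1, 1), (11, 1, 0)],
  [(0, -3, -3), (1, -1, -4), (2, -2, -3), (3, -2, -1), (4, -3, -2), (5, -2, 0), (6, -2, 0), (7, 0, 1), (12, -1, 0), (13, -1, 1)],
  [(0, -2, 2), (1, -3, 1), (2, -4, 1), (3, -2, 2), (4, -1, 2), (5, 0, 1), (6, 0, 2), (7, 0, 1), (12, 1, 1), (13, 1, 0)],
  [(0, -2, -5), (1, 1, -6), (2, 0, -6), (3, -2, -3), (4, -1, -4), (5, -1, -1), (6, -2, -2), (7, -1, 1), (8, -1, -1), (9, -1, 0), (12, -1, -1), (14, -1, 0), (15, -1, 1)],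
  [(0, -5, 4), (1, -7, 0), (2, -7, 0), (3, -4, 3), (4, -5, 3), (5, -1, 2), (6, -2, 4), (7, 0, 1), (8, 1, 1), (9, 1, 0), (12, 0, 2), (13, 1, 1), (14, 1, 1), (15, 1, 0)],
  [(0, -3, -15), (1, 1, -17), (2, -1, -20), (3, -6, -11), (4, -5, -12), (5, -5, -4), (6, -7, -4), (7, -3, 1), (8, -3, -2), (9, -3, 0), (10, -1, 1), (12, -3, -1), (13, -2, 0), (14, -1, 1), (15, -1, 1), (16, 0, 1), (17, 0, 2)],
  [(0, -1, 12), (1, -5, 13), (2, -5, 15), (3, 1, 11), (4, 1, 11), (5, 3, 4), (6, 5, 5), (7, 2, 1), (8, 2, 2), (9, 2, 0), (10, 1, 0), (11, 1, 0), (12, 3, 1), (13, 2, 0), (14, 1, -1), (15, 1, -1), (17, 0, -1)],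
  [(0, 17, 7), (1, 14, 9), (2, 18, 11), (3, 14, 1), (4, 15, 3), (5, 6, -3), (6, 6, -3), (7, 1, -4), (8, 4, -1), (9, 2, -3), (10, 0, -2), (11, -1, -1), (12, 3, -1), (13, 1, -1), (14, 1, -1), (15, 1, -1), (16, -1, -1), (17, 0, -2), (18, -1, 0), (19, -2, 0)],
  [(0, -11, 7), (1, -11, 5), (2, -12, 7), (3, -6, 9), (4, -7, 8), (5, 0, 6), (6, 0, 5), (7, 2, 3), (8, 1, 2), (9, 1, 1), (10, 1, 0), (11, 1, 0), (12, 0, 1), (13, 1, 1), (16, 1, 0), (18, 1, 0), (19, 1, 0)],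
  [(0, -24, -26), (1, -15, -31), (2, -22, -32), (3, -24, -13), (4, -23, -18), (5, -14, 0), (6, -16, 1), (7, -6, 7), (8, -5, 1), (9, -2, 2), (10, -1, 2), (11, 0, 2), (12, -5, 0), (13, -2, 2), (14, -2, 1), (15, 0, 2), (16, 0, 2), (18, 0, 2), (19, 1, 1), (20, 0, 1), (21, 1, 1)],
  [(0, -19, 8), (1, -21, 4), (2, -22, 6), (3, -12, 11), (4, -14, 9), (5, -3, 8), (6, -2, 9), (7, 2, 4), (8, -1, 2), (9, 0, 2), (10, 1, 1), (11, 1, 1), (12, 0, 3), (13, 1, 2), (14, 1, 0), (15, 1, 0), (16, 1, 0), (18, 1, 0), (19, 1, 1), (21, 0, -1)],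
  [(0, -42, 59), (1, -58, 49), (2, -58, 57), (3, -17, 55), (4, -26, 55), (5, 5, 28), (6, 9, 32), (7, 15, 10), (8, 3, 11), (9, 4, 6), (10, 5, 2), (11, 4, 0), (12, 4, 11), (13, 5, 4), (14, 6, 2), (15, 4, -1), (16, 5, -1), (17, 1, 1), (18, 4, -2), (19, 1, 1), (20, 2, -2), (21, 0, -2), (22, 0, -1), (23, -1, -1)],
  [(0, -19, -14), (1, -14, -18), (2, -17, -17), (3, -17, -5), (4, -16, -9), (5, -9, 3), (6, -10, 2), (7, -3, 5), (8, -3, 1), (9, -1, 2), (10, 0, 1), (11, 0, 1), (12, -3, 0), (13, -1, 2), (14, -1, 0), (15, 0, 1), (16, 0, 1), (18, 0, 1), (19, 1, 1), (23, 0, 1)],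
  [(0, 79, 22), (1, 76, 44), (2, 85, 37), (3, 66, -3), (4, 68, 7), (5, 28, -17), (6, 31, -20), (7, 5, -19), (8, 13, -11), (9, 4, -10), (10, -1, -6), (11, -1, -3), (12, 10, -9), (13, 3, -7), (14, 1, -8), (15, -3, -5), (16, -3, -5), (17, -1, -1), (18, -3, -4), (19, 1, 0), (20, -3, -2), (21, -2, 0), (22, -1, 0), (23, 0, 1), (24, -1, 0), (25, -1, 1)],
  [(0, -49, -50), (1, -35, -63), (2, -46, -61), (3, -49, -25), (4, -45, -32), (5, -28, 2), (6, -29, 2), (7, -11, 12), (8, -14, 1), (9, -8, 5), (10, -2, 5), (11, 0, 3), (12, -10, 1), (13, -4, 4), (14, -4, 3), (15, -1, 4), (16, 0, 4), (17, 0, 1), (18, 0, 4), (19, 0, 1), (20, 1, 2), (21, 1, 0), (22, 0, 1), (24, 1, 1), (25, 1, 0)],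
  [(0, 13, -21), (1, 19, -17), (2, 15, -19), (3, 4, -19), (4, 7, -17), (5, -4, -8), (6, -3, -10), (7, -4, -3), (8, -3, -3), (9, -2, 0), (10, -1, 0), (11, -1, 0), (12, -2, -4), (13, -2, -1), (14, -2, -2), (15, -2, 1), (17, 1, 1), (18, -2, 0), (19, 1, 0), (20, -1, 0), (21, 0, 1), (22, -1, 0), (23, 0, 1), (25, 1, 0), (27, -1, 0)],
  [(0, -41, -105), (1, -12, -117), (2, -26, -124), (3, -57, -70), (4, -45, -80), (5, -41, -15), (6, -47, -19), (7, -24, 9), (8, -22, -7), (9, -15, 4), (10, -6, 6), (11, -2, 4), (12, -17, -5), (13, -9, 3), (14, -9, 3), (15, -4, 7), (16, -3, 6), (17, 0, 3), (18, -2, 5), (19, 1, 1), (20, -1, 3), (21, 1, 1), (22, 0, 2), (23, 0, 1), (24, 1, 1), (25, 1, 0), (26, 1, 0)]]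

def cRk : List (List (ℕ × ℤ × ℤ)) := [
  [(2, 0, 1)],
  [(0, 1, 0), (1, 1, 0), (2, 1, 0), (3, 1, -1)],
  [(0, 0, 1)],
  [(0, 0, -1), (1, -1, -1), (2, 0, -1), (3, -1, 0)],
  [(0, 0, 1), (1, -1, 1), (2, -1, 1), (3, 0, 1), (4, 0, 1), (6, 1, 1)],
  [(0, -2, 0), (1, -1, 1), (2, -1, 1), (3, -1, 1), (4, -1, 1), (5, 0, 1), (7, 1, 1)],
  [(0, 1, -1), (1, 1, 0), (2, 1, -1), (3, 0, -1), (6, 0, -1)],
  [(0, 2, 0), (1, 1, 1), (2, 2, 1), (3, 1, 0), (4, 2, 0), (6, 1, -1), (7, 0, -1)],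
  [(0, -3, -4), (1, -2, -3), (2, -4, -3), (3, -4, -1), (4, -3, -1), (5, -2, 0), (6, -1, 1), (7, -1, 1), (8, -1, 0), (10, 0, 2)],
  [(0, -6, 6), (1, -5, 5), (2, -6, 7), (3, -2, 7), (4, -2, 6), (5, 1, 3), (6, 2, 2), (7, 2, 2), (8, -1, 1), (9, 0, 1), (10, 2, 0), (11, 2, 0)],
  [(0, -1, 3), (1, -1, 3), (2, 0, 4), (3, 1, 3), (4, 1, 2), (5, 1, 1), (6, 1, 0), (7, 1, 0), (8, 0, 1), (10, 1, 0)],
  [(0, 3, 1), (1, 2, 1), (2, 3, 1), (3, 2, 0), (4, 3, 0), (5, 1, -1), (6, 1, -1), (7, 0, -1), (11, 0, -1)],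
  [(0, 1, -1), (1, 1, -3), (2, 2, -3), (3, 0, -2), (4, 1, -2), (5, 0, -1), (6, -1, -1), (7, 0, -1), (12, -1, 0), (14, -1, 1)],
  [(0, 3, 8), (1, -3, 9), (2, -1, 8), (3, 2, 5), (4, 2, 7), (5, 2, 2), (6, 3, 3), (7, 1, -1), (8, 1, 1), (9, 1, 0), (12, 2, 2), (13, 1, 0), (14, 2, 0), (15, 1, -1)],
  [(0, 0, 1), (1, -2, 2), (2, -2, 1), (3, -1, 1), (4, 0, 2), (5, 0, 1), (6, 1, 1), (12, 1, 1), (14, 1, 0)],
  [(0, 9, -2), (1, 10, 1), (2, 12, 0), (3, 7, -3), (4, 8, -3), (5, 2, -3), (6, 2, -5), (7, 0, -2), (8, 1, 0), (9, 0, -1), (10, 1, -1), (11, -1, -1), (12, 0, -2), (13, -1, -1), (15, -1, 0)],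
  [(0, 8, 1), (1, 6, -1), (2, 9, -1), (3, 5, -3), (4, 7, -1), (5, 2, -2), (6, 1, -3), (7, 0, -3), (9, 0, -1), (10, 0, -2), (11, -1, -1), (16, -1, 0), (18, -1, 1)],
  [(0, -11, -6), (1, -8, -7), (2, -10, -8), (3, -9, -1), (4, -9, -3), (5, -5, 2), (6, -4, 1), (7, 0, 3), (8, -1, 1), (9, -1, 1), (10, 1, 1), (12, -2, 0), (13, -1, 1), (15, -1, 0), (16, 1, 1), (17, 0, 1), (18, 1, 0), (19, 1, 1)],
  [(0, -3, 4), (1, -4, 4), (2, -3, 4), (3, 0, 4), (4, -1, 2), (5, 1, 2), (6, 0, 1), (7, 1, 1), (8, 1, 2), (9, 0, 1), (10, 1, -1), (16, 1, 1), (18, 1, 0)],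
  [(0, 9, 9), (1, 9, 10), (2, 11, 11), (3, 10, 4), (4, 10, 6), (5, 6, -1), (6, 6, -2), (7, 3, -3), (8, 2, -1), (9, 1, -1), (10, 1, -1), (11, 0, -1), (12, 1, -1), (13, 0, -1), (15, -1, 0), (16, 0, -1), (18, 0, -1), (19, 0, -1)],
  [(0, -9, -16), (1, -1, -17), (2, -5, -16), (3, -9, -8), (4, -6, -11), (5, -6, -2), (6, -6, -4), (7, -3, 2), (8, -4, 0), (9, -2, 1), (10, 1, 2), (12, -3, -2), (13, -2, 1), (14, -2, 0), (15, -1, 1), (16, -1, 1), (18, 0, 1), (20, 0, 1), (22, 1, 1)],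
  [(0, 5, -33), (1, 14, -31), (2, 12, -35), (3, -4, -26), (4, -2, -29), (5, -8, -10), (6, -11, -11), (7, -8, -1), (8, -2, -4), (9, -2, -1), (10, -3, 0), (11, -2, 1), (12, -4, -4), (13, -3, 0), (14, -3, 0), (15, -2, 1), (16, -1, 1), (18, -1, 1), (20, -1, 1), (21, 0, 1), (23, 1, 1)],
  [(0, 8, 10), (1, 2, 11), (2, 6, 11), (3, 7, 5), (4, 6, 6), (5, 4, 1), (6, 4, 1), (7, 2, -2), (8, 4, 1), (9, 2, -1), (10, 0, -2), (11, -1, -1), (12, 2, 1), (13, 1, 0), (14, 1, 0), (15, 0, -1), (16, 1, 0), (18, 1, 0), (22, 0, -1)],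
  [(0, -27, 22), (1, -35, 15), (2, -34, 19), (3, -15, 23), (4, -20, 22), (5, -1, 14), (6, -1, 17), (7, 5, 6), (8, 2, 7), (9, 2, 3), (10, 2, 1), (11, 0, 1), (12, 0, 6), (13, 2, 3), (14, 2, 3), (15, 2, 0), (16, 3, 1), (18, 3, 0), (20, 2, 0), (22, 1, -1), (23, 0, -1)],
  [(0, 69, 44), (1, 59, 62), (2, 71, 62), (3, 65, 16), (4, 62, 28), (5, 31, -8), (6, 36, -11), (7, 12, -17), (8, 15, -5), (9, 7, -8), (10, 2, -7), (11, -1, -4), (12, 10, -5), (13, 3, -5), (14, 3, -6), (15, -2, -4), (16, 0, -6), (17, 0, -1), (18, -1, -4), (19, 0, -1), (20, -1, -2), (21, -1, 0), (22, -2, -1), (24, -1, 0), (26, -1, 1)],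
  [(0, -88, -33), (1, -79, -61), (2, -90, -55), (3, -74, -5), (4, -75, -18), (5, -33, 16), (6, -39, 17), (7, -8, 19), (8, -16, 9), (9, -7, 10), (10, 0, 6), (11, 1, 3), (12, -13, 10), (13, -3, 8), (14, -3, 9), (15, 2, 7), (16, 1, 6), (17, 1, 1), (18, 3, 4), (19, 0, -1), (20, 2, 3), (21, 1, 0), (22, 2, 1), (23, 0, -1), (24, 1, 1), (26, 1, 0), (27, 1, 0)],
  [(0, -70, -38), (1, -61, -57), (2, -71, -54), (3, -63, -11), (4, -61, -20), (5, -29, 11), (6, -32, 12), (7, -9, 16), (8, -15, 5), (9, -8, 7), (10, -1, 6), (11, 1, 4), (12, -10, 6), (13, -3, 6), (14, -2, 6), (15, 1, 5), (16, 0, 5), (17, 0, 1), (18, 2, 4), (20, 2, 2), (21, 1, 0), (22, 1, 1), (23, 0, -1), (24, 1, 1), (26, 1, 0)],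
  [(0, -11, 11), (1, -14, 6), (2, -12, 9), (3, -5, 10), (4, -7, 9), (5, 1, 6), (6, -1, 6), (7, 2, 1), (8, 1, 3), (9, 1, 1), (10, 1, -1), (12, 0, 3), (13, 1, 2), (14, 1, 2), (15, 1, 1), (17, 0, -1), (18, 1, 0), (19, 0, -1), (20, 1, 0), (22, 1, 0), (25, -1, 0), (26, 1, 0)]]

def cSg : List (List (ℕ × ℤ × ℤ)) := [
  [(0, -1, 0)],
  [(1, -1, 0)],
  [(2, -1, 0)],
  [(3, -1, 0)],
  [(4, 1, 0)],
  [(0, 0, 2), (1, 0, 2), (2, 1, 1), (3, 1, 1), (5, 1, 0)],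
  [(0, 1, 1), (1, 0, 2), (2, 0, 2), (3, 1, 1), (6, 1, 0)],
  [(0, 0, 2), (1, 1, 1), (2, 0, 2), (3, 1, 1), (7, 1, 0)],
  [(8, 1, 0)],
  [(1, 1, 1), (2, 1, 1), (9, 1, 0)],
  [(0, -1, 1), (2, 0, 1), (3, 0, 1), (10, 1, 0)],
  [(0, 0, 1), (1, 1, 0), (11, 1, 0)],
  [(0, 1, -2), (1, 2, -2), (2, 1, -2), (3, 0, -2), (4, 0, -2), (5, -1, -1), (6, -1, -1), (12, -1, 0)],
  [(0, 1, -2), (1, 2, -2), (2, 1, -2), (3, 0, -2), (4, -1, -3), (5, -1, -1), (6, -1, -1), (13, -1, 0)],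
  [(0, 0, -1), (1, 1, -1), (2, 1, -1), (3, 0, -1), (4, 0, -2), (6, -1, -1), (14, -1, 0)],
  [(0, 3, -3), (1, 3, -3), (2, 3, -3), (3, 1, -3), (4, 1, -3), (5, -1, -1), (6, 0, -2), (7, -1, -1), (8, 0, -2), (9, -1, -1), (15, -1, 0)],
  [(0, 1, 1), (1, 1, 1), (2, 0, 1), (3, 1, 0), (16, 1, 0)],
  [(0, -9, 1), (1, -11, -3), (2, -12, -3), (3, -8, 2), (4, -9, 2), (5, -3, 3), (6, -4, 4), (7, 0, 1), (8, -1, 1), (9, 0, 1), (12, -1, 3), (13, 0, 2), (14, 1, 1), (15, 1, 1), (17, 1, 0)],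
  [(1, -1, 1), (2, 0, 1), (3, 0, 1), (18, 1, 0)],
  [(0, -3, 2), (1, -4, 0), (2, -5, -1), (3, -3, 1), (4, -3, 2), (5, -1, 2), (6, -1, 2), (12, 0, 2), (13, 1, 1), (19, 1, 0)],
  [(0, 15, -3), (1, 15, -3), (2, 17, -5), (3, 9, -9), (4, 9, -6), (5, 2, -6), (6, 0, -5), (7, -1, -5), (8, 2, -3), (9, 1, -2), (10, -1, -1), (11, -1, -1), (16, -1, -1), (18, -1, -1), (20, -1, 0)],
  [(0, 13, 4), (1, 11, 3), (2, 15, 3), (3, 11, -3), (4, 10, 0), (5, 4, -3), (6, 3, -4), (7, 1, -5), (8, 1, -1), (9, 0, -1), (10, 0, -2), (11, -1, -1), (16, -1, -1), (18, -1, -1), (21, -1, 0)],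
  [(0, 9, 2), (1, 9, 1), (2, 10, 1), (3, 7, -3), (4, 5, 0), (5, 2, -2), (6, 2, -2), (7, 1, -3), (8, 1, -3), (9, 0, -2), (10, -1, -1), (16, 0, -2), (18, -1, -1), (22, -1, 0)],
  [(0, 9, -4), (1, 10, -4), (2, 10, -5), (3, 5, -7), (4, 6, -4), (5, 0, -4), (6, 0, -4), (7, -1, -3), (8, 0, -3), (9, -1, -1), (16, -1, -1), (18, -1, -1), (23, -1, 0)],
  [(0, 19, 3), (1, 17, 3), (2, 21, 3), (3, 14, -4), (4, 16, -1), (5, 5, -5), (6, 5, -5), (7, 0, -5), (8, 3, -4), (9, 0, -4), (10, 0, -3), (11, -1, -1), (12, 2, -1), (13, 1, -1), (14, 0, -1), (15, 0, -1), (16, -2, -1), (17, -1, -1), (18, -1, 0), (24, -1, 0)],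
  [(0, 14, 3), (1, 14, 6), (2, 16, 4), (3, 11, -2), (4, 10, -1), (5, 5, -4), (6, 4, -3), (7, 0, -3), (8, 3, -3), (9, 1, -3), (10, -1, -1), (12, 2, -1), (13, 1, -1), (14, 0, -1), (15, 0, -1), (16, -1, -1), (17, -1, -1), (18, 0, -1), (25, -1, 0)],
  [(0, 3, 1), (1, 3, 1), (2, 3, 1), (3, 2, -1), (4, 1, 1), (5, 1, -1), (6, 1, 0), (7, 0, -1), (8, 0, -1), (9, 1, 0), (16, 0, -1), (18, -1, 0), (26, -1, 0)],
  [(0, 17, 8), (1, 15, 9), (2, 18, 10), (3, 15, 0), (4, 14, 3), (5, 6, -3), (6, 6, -3), (7, 2, -5), (8, 3, -2), (9, 1, -2), (10, 0, -2), (11, -1, -1), (12, 2, -1), (13, 1, -1), (14, 0, -1), (15, 0, -1), (16, 0, -1), (17, -1, -1), (18, -1, -1), (27, -1, 0)]]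

def cSh : List (List (ℕ × ℤ × ℤ)) := [
  [(0, -69, 30), (1, -76, 11), (2, -80, 21), (3, -45, 39), (4, -52, 32), (5, -9, 27), (6, -12, 30), (7, 6, 16), (8, -4, 17), (9, 4, 11), (10, 5, 5), (11, 3, 1), (12, -3, 11), (13, 2, 6), (14, 2, 6), (15, 5, 3), (16, 4, 2), (17, 2, 0), (18, 3, 1), (20, 2, 0), (22, 2, 0), (24, 2, -2)],
  [(0, -82, -151), (1, -43, -171), (2, -70, -175), (3, -101, -92), (4, -85, -107), (5, -67, -13), (6, -71, -17), (7, -35, 19), (8, -35, -4), (9, -21, 10), (10, -7, 11), (11, -3, 7), (12, -25, -3), (13, -14, 6), (14, -12, 6), (15, -5, 11), (16, -2, 10), (17, 2, 4), (18, -3, 9), (20, 0, 6), (21, 2, 2), (22, 0, 2), (24, 2, 2), (25, 4, 0)],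
  [(0, -95, -166), (1, -50, -196), (2, -75, -203), (3, -114, -104), (4, -96, -126), (5, -73, -17), (6, -86, -20), (7, -40, 20), (8, -37, -4), (9, -24, 9), (10, -9, 11), (11, -3, 7), (12, -29, -1), (13, -14, 8), (14, -14, 10), (15, -3, 13), (16, -6, 12), (17, 0, 2), (18, -1, 9), (20, 0, 6), (21, 2, 2), (22, 2, 4), (24, 2, 2), (26, 4, 0)],
  [(0, -3, 137), (1, -41, 136), (2, -22, 150), (3, 32, 106), (4, 15, 111), (5, 41, 37), (6, 45, 43), (7, 32, 0), (8, 24, 13), (9, 19, 0), (10, 9, -5), (11, 5, -3), (12, 17, 13), (13, 12, 2), (14, 12, 0), (15, 7, -7), (16, 6, -8), (17, 0, -2), (18, 5, -5), (20, 2, -4), (21, 0, -4), (22, 0, -2), (24, -2, -2), (25, -2, -2), (26, -2, -2), (27, 2, 2)],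
  [(0, 1, 0)],
  [(0, -87, 214), (1, -144, 195), (2, -132, 225), (3, -11, 186), (4, -42, 185), (5, 40, 82), (6, 45, 92), (7, 49, 23), (8, 24, 41), (9, 28, 15), (10, 19, -1), (11, 9, -3), (12, 20, 28), (13, 18, 8), (14, 18, 6), (15, 15, -5), (16, 14, -4), (17, 4, -4), (18, 10, -4), (20, 6, -4), (21, 0, -2), (22, 2, -4), (24, 0, -4), (25, 0, -2), (26, -2, 0), (27, 0, -2)],
  [(0, -198, 129), (1, -235, 78), (2, -241, 111), (3, -117, 149), (4, -143, 128), (5, -14, 92), (6, -17, 104), (7, 28, 48), (8, -3, 47), (9, 13, 28), (10, 15, 9), (11, 9, 3), (12, 1, 35), (13, 11, 17), (14, 12, 16), (15, 16, 4), (16, 14, 6), (17, 4, -2), (18, 12, 2), (20, 8, 0), (21, 2, -2), (22, 4, -2), (24, 2, -2), (25, 0, -2), (26, 0, -2), (27, 0, -2)],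
  [(0, -100, 213), (1, -160, 185), (2, -148, 213), (3, -23, 186), (4, -57, 181), (5, 35, 83), (6, 36, 98), (7, 47, 26), (8, 23, 42), (9, 26, 16), (10, 18, 0), (11, 9, -3), (12, 19, 31), (13, 19, 9), (14, 19, 9), (15, 17, -5), (16, 13, -1), (17, 2, -4), (18, 11, -5), (20, 6, -4), (21, 0, -2), (22, 4, -4), (24, 0, -4), (25, -2, 0), (26, 0, -2), (27, 0, -2)],
  [(4, 1, 0)],
  [(0, -70, 248), (1, -137, 231), (2, -116, 262), (3, 10, 206), (4, -26, 207), (5, 56, 85), (6, 60, 97), (7, 57, 18), (8, 32, 40), (9, 32, 13), (10, 19, -3), (11, 10, -4), (12, 25, 29), (13, 21, 7), (14, 21, 5), (15, 16, -8), (16, 15, -7), (17, 2, -4), (18, 11, -7), (20, 6, -6), (21, 0, -4), (22, 2, -4), (24, 0, -4), (25, -2, -2), (26, -2, -2)],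
  [(0, -34, 98), (1, -62, 89), (2, -56, 99), (3, -2, 83), (4, -17, 82), (5, 19, 34), (6, 21, 41), (7, 21, 9), (8, 11, 17), (9, 12, 6), (10, 8, 0), (11, 4, -2), (12, 10, 13), (13, 9, 3), (14, 9, 3), (15, 7, -3), (16, 5, -1), (17, 1, -1), (18, 4, -3), (20, 2, -2), (21, -1, -1), (22, 2, -2), (24, 0, -2), (25, -1, 1), (26, -1, -1), (27, 1, -1)],
  [(0, 55, 110), (1, 26, 123), (2, 44, 127), (3, 69, 69), (4, 58, 80), (5, 47, 11), (6, 50, 15), (7, 26, -12), (8, 26, 4), (9, 16, -7), (10, 6, -8), (11, 2, -5), (12, 18, 3), (13, 10, -4), (14, 9, -4), (15, 4, -8), (16, 2, -7), (17, -1, -3), (18, 2, -6), (20, 0, -4), (21, -1, -1), (22, 0, -2), (24, -2, -2), (25, -2, 0)],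
  [(0, -83, 149), (1, -124, 126), (2, -114, 149), (3, -25, 134), (4, -48, 128), (5, 23, 63), (6, 23, 72), (7, 34, 20), (8, 16, 30), (9, 18, 12), (10, 12, 0), (11, 7, -1), (12, 12, 23), (13, 13, 8), (14, 13, 7), (15, 12, -3), (16, 10, -2), (17, 1, -3), (18, 9, -3), (20, 5, -3), (21, 1, -3), (22, 2, -2), (24, 0, -2), (25, -2, -2), (26, 0, -2)],
  [(0, 49, 19), (1, 44, 32), (2, 51, 29), (3, 42, 3), (4, 42, 10), (5, 18, -9), (6, 21, -9), (7, 5, -11), (8, 11, -7), (9, 4, -8), (10, 0, -5), (11, -1, -2), (12, 7, -4), (13, 2, -4), (14, 2, -4), (15, -1, -4), (16, -1, -3), (17, -1, -1), (18, -1, -2), (20, -1, -1), (22, -1, -1), (24, -2, 0)],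
  [(0, -43, 27), (1, -49, 17), (2, -49, 26), (3, -24, 33), (4, -28, 28), (5, -2, 21), (6, -2, 21), (7, 7, 10), (8, 0, 9), (9, 3, 5), (10, 4, 1), (11, 2, 1), (12, 0, 7), (13, 2, 4), (14, 2, 3), (15, 3, 1), (16, 3, 0), (17, 1, -1), (18, 3, 1), (20, 2, 0), (21, 1, -1), (25, 0, -2)],
  [(0, -108, 124), (1, -145, 95), (2, -145, 116), (3, -52, 122), (4, -74, 112), (5, 6, 63), (6, 7, 75), (7, 27, 28), (8, 7, 31), (9, 13, 16), (10, 12, 3), (11, 7, 0), (12, 8, 24), (13, 11, 9), (14, 12, 9), (15, 12, -1), (16, 10, 3), (17, 2, -2), (18, 8, -1), (20, 5, -1), (21, 1, -1), (22, 3, -3), (24, 0, -2), (26, 0, -2), (27, 0, -2)],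
  [(0, -66, 115), (1, -98, 97), (2, -93, 115), (3, -22, 104), (4, -40, 99), (5, 16, 49), (6, 16, 57), (7, 26, 17), (8, 12, 25), (9, 14, 10), (10, 10, 0), (11, 5, -1), (12, 10, 18), (13, 10, 6), (14, 10, 6), (15, 10, -2), (16, 8, 0), (17, 1, -3), (18, 7, -2), (20, 4, -2), (21, 1, -1), (22, 2, -2), (24, 0, -2), (25, -1, -1), (26, 1, -1), (27, -1, -1)],
  [(0, -78, -32), (1, -69, -56), (2, -76, -51), (3, -66, -6), (4, -64, -19), (5, -28, 14), (6, -35, 14), (7, -8, 16), (8, -14, 7), (9, -6, 8), (10, -1, 5), (11, 1, 3), (12, -11, 8), (13, -2, 8), (14, -3, 7), (15, 2, 6), (16, 0, 4), (17, 1, 0), (18, 3, 4), (20, 2, 2), (21, 1, -1), (22, 1, 2), (24, 1, 1), (25, -1, -2), (26, 1, 0), (27, 1, 0)],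
  [(0, -131, 15), (1, -138, -18), (2, -150, -4), (3, -96, 46), (4, -104, 30), (5, -30, 43), (6, -32, 48), (7, 2, 31), (8, -15, 22), (9, -1, 18), (10, 5, 9), (11, 4, 4), (12, -8, 17), (13, 1, 11), (14, 3, 10), (15, 6, 6), (16, 6, 6), (17, 3, 1), (18, 5, 4), (20, 4, 2), (21, 1, -1), (22, 2, 0), (24, 2, 0), (25, 1, -1), (26, -1, -1), (27, 1, -1)],
  [(0, 10, 64), (1, -6, 64), (2, 5, 70), (3, 24, 45), (4, 19, 47), (5, 23, 13), (6, 22, 14), (7, 15, -3), (8, 13, 6), (9, 9, -2), (10, 4, -4), (11, 2, -2), (12, 8, 5), (13, 6, 0), (14, 4, 0), (15, 4, -3), (16, 1, -4), (17, 0, -3), (18, 3, -2), (20, 1, -2), (21, 0, -1), (24, -1, -1), (25, -2, -2), (26, 1, 1)],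
  [(0, -39, 166), (1, -84, 156), (2, -70, 177), (3, 13, 136), (4, -11, 138), (5, 39, 55), (6, 43, 63), (7, 39, 10), (8, 22, 25), (9, 21, 8), (10, 12, -3), (11, 6, -3), (12, 17, 18), (13, 14, 4), (14, 14, 2), (15, 10, -6), (16, 11, -5), (17, 1, -2), (18, 7, -5), (20, 4, -4), (21, 0, -3), (22, 1, -3), (24, 0, -2), (25, -1, -1), (26, -2, -2)],
  [(0, 41, -107), (1, 70, -99), (2, 64, -113), (3, 4, -93), (4, 20, -92), (5, -21, -40), (6, -24, -46), (7, -24, -12), (8, -12, -19), (9, -14, -7), (10, -9, 0), (11, -5, 1), (12, -11, -13), (13, -9, -3), (14, -9, -3), (15, -7, 3), (16, -7, 2), (17, -1, 2), (18, -5, 2), (20, -3, 2), (21, 0, 1), (22, -1, 2), (24, 0, 2), (25, 0, 1), (26, 1, 0), (27, 0, 1)],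
  [(0, -5, 50), (1, -19, 46), (2, -13, 51), (3, 9, 39), (4, 3, 38), (5, 13, 13), (6, 12, 16), (7, 11, 2), (8, 9, 8), (9, 6, 0), (10, 4, -3), (11, 1, -2), (12, 6, 5), (13, 5, 1), (14, 4, 1), (15, 4, -2), (16, 1, 0), (17, 0, -2), (18, 3, -1), (20, 1, -1), (22, 1, -1), (24, -1, -1), (25, -1, 0), (26, 1, 0), (27, 0, -1)],
  [(0, -30, 169), (1, -73, 164), (2, -60, 186), (3, 22, 137), (4, -1, 141), (5, 42, 55), (6, 49, 59), (7, 41, 9), (8, 24, 25), (9, 22, 7), (10, 13, -4), (11, 6, -3), (12, 18, 16), (13, 14, 3), (14, 13, 0), (15, 9, -6), (16, 11, -6), (17, 2, -3), (18, 7, -5), (19, 1, 0), (20, 4, -4), (21, 0, -2), (22, 0, -3), (24, 0, -2), (25, 0, -2), (26, -2, 0), (27, -1, -1)],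
  [(0, 50, 59), (1, 33, 71), (2, 44, 74), (3, 52, 33), (4, 46, 41), (5, 29, 1), (6, 34, 3), (7, 15, -11), (8, 17, -2), (9, 9, -6), (10, 3, -6), (11, 0, -3), (12, 11, -1), (13, 5, -4), (14, 5, -4), (15, 1, -6), (16, 2, -5), (17, -1, -1), (18, 0, -4), (20, 0, -2), (21, 0, -1), (22, -1, -2), (24, -2, -1), (26, -1, -1), (27, 0, 1)],
  [(0, 114, 181), (1, 67, 214), (2, 96, 221), (3, 133, 110), (4, 115, 133), (5, 83, 14), (6, 95, 18), (7, 44, -24), (8, 44, 2), (9, 26, -13), (10, 9, -14), (11, 3, -8), (12, 32, 0), (13, 16, -10), (14, 15, -11), (15, 4, -15), (16, 5, -13), (17, -2, -4), (18, 2, -10), (20, 0, -7), (21, -1, -2), (22, -2, -4), (24, -3, -2), (25, -1, 0), (26, -2, 0), (27, -1, 0)],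
  [(0, 2, 167), (1, -41, 168), (2, -20, 187), (3, 46, 126), (4, 24, 133), (5, 51, 44), (6, 56, 48), (7, 40, 0), (8, 29, 18), (9, 23, 2), (10, 11, -7), (11, 5, -4), (12, 20, 13), (13, 14, 1), (14, 13, -1), (15, 8, -8), (16, 9, -8), (17, 0, -3), (18, 6, -6), (20, 3, -5), (21, 0, -3), (22, 0, -3), (24, -1, -2), (25, -1, -2), (26, -2, -1), (27, 0, 1)],
  [(0, 4, 13), (1, 1, 14), (2, 3, 15), (3, 8, 9), (4, 5, 10), (5, 5, 2), (6, 6, 1), (7, 3, -1), (8, 1, 1), (9, 2, 0), (10, 1, -1), (11, 0, -1), (12, 1, 0), (13, 1, 0), (14, 0, -1), (16, 0, -1), (17, 1, 0), (21, -1, 0), (23, 1, 0), (26, -2, 1), (27, 1, -1)]]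

def cTab : List (List (ℕ × ℤ × ℤ)) := [
  [(0, 1, 0)],
  [(0, -5, -73), (1, 18, -77), (2, 12, -83), (3, -21, -55), (4, -13, -60), (5, -21, -19), (6, -27, -21), (7, -17, 0), (8, -10, -8), (9, -8, -2), (10, -5, 2), (11, -2, 2), (12, -11, -6), (13, -6, 1), (14, -7, 2), (15, -3, 4), (16, -4, 2), (17, -1, 0), (18, -2, 3), (20, -1, 2), (21, 1, 1), (22, 0, 2), (23, 1, 0), (25, -1, 0), (26, 1, 0), (27, 0, 1)],
  [(0, -42, 108), (1, -72, 96), (2, -64, 110), (3, -4, 92), (4, -22, 90), (5, 20, 39), (6, 21, 46), (7, 24, 11), (8, 12, 21), (9, 14, 7), (10, 9, -1), (11, 4, -2), (12, 9, 14), (13, 9, 4), (14, 9, 4), (15, 8, -3), (16, 6, -1), (17, 1, -2), (18, 5, -2), (20, 3, -2), (21, -1, -1), (22, 2, -2), (23, 1, 0), (24, 0, -2), (25, -1, 0), (26, -1, 0), (27, 0, -1)],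
  [(0, 54, 25), (1, 46, 43), (2, 54, 41), (3, 46, 7), (4, 48, 18), (5, 22, -7), (6, 28, -10), (7, 7, -13), (8, 8, -6), (9, 3, -5), (10, 0, -3), (11, 0, -2), (12, 9, -5), (13, 2, -5), (14, 2, -6), (15, -2, -4), (16, 0, -5), (17, 0, 1), (18, -2, -3), (20, -1, -2), (21, -1, -1), (22, -2, 0), (23, -1, 0), (25, 1, 0), (26, -1, 0), (27, 0, 1)],
  [(0, -99, -27), (1, -91, -52), (2, -106, -44), (3, -81, 5), (4, -82, -9), (5, -34, 22), (6, -38, 23), (7, -7, 24), (8, -17, 14), (9, -6, 14), (10, 2, 8), (11, 2, 4), (12, -11, 9), (13, -3, 8), (14, -2, 8), (15, 3, 7), (16, 3, 7), (17, 2, 1), (18, 3, 4), (20, 3, 2), (21, 1, 1), (22, 2, 0), (23, -1, 0), (24, 2, 0), (25, 1, 0), (26, 1, 0), (27, 0, -1)],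
  [(0, 12, 1), (1, 10, 4), (2, 10, 4), (3, 8, -3), (4, 8, 0), (5, 2, -2), (6, 3, -2), (7, 0, -2), (8, 2, 0), (9, 1, 0), (10, 0, -1), (11, -1, 0), (12, 1, -1), (13, 0, -1), (14, 0, -1), (15, 0, -1), (16, 1, 0), (18, -1, 0), (21, 0, 1), (22, 0, -1), (25, 1, 0), (27, -1, 0)],
  [(0, 99, -58), (1, 115, -32), (2, 119, -47), (3, 60, -69), (4, 73, -59), (5, 9, -44), (6, 10, -50), (7, -13, -24), (8, 2, -22), (9, -5, -13), (10, -7, -5), (11, -4, -2), (12, 1, -17), (13, -5, -8), (14, -5, -8), (15, -7, -2), (16, -7, -3), (17, -1, 0), (18, -6, -1), (19, -1, 0), (20, -4, 0), (21, -1, 1), (22, -2, 1), (23, 0, 1), (24, -1, 1), (26, 0, 1)],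
  [(0, 38, 27), (1, 29, 41), (2, 36, 38), (3, 35, 12), (4, 33, 19), (5, 18, -3), (6, 22, -3), (7, 7, -8), (8, 8, -4), (9, 3, -4), (10, 0, -2), (11, 0, -1), (12, 8, -3), (13, 2, -4), (14, 3, -4), (15, -1, -4), (16, 1, -3), (17, -1, 1), (18, 0, -3), (19, 0, 1), (20, 0, -2), (21, -1, -1), (22, -1, -1), (23, -1, 0), (26, -1, 0)],
  [(0, 43, 86), (1, 20, 99), (2, 32, 103), (3, 54, 55), (4, 45, 65), (5, 36, 10), (6, 42, 12), (7, 21, -9), (8, 18, 3), (9, 12, -4), (10, 5, -5), (11, 2, -4), (12, 14, 2), (13, 7, -4), (14, 7, -4), (15, 2, -6), (16, 3, -6), (17, 0, -1), (18, 1, -5), (20, 0, -3), (21, -1, -1), (22, -1, -2), (24, -1, -1), (26, -1, 0)],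
  [(0, -25, 17), (1, -32, 10), (2, -33, 14), (3, -16, 20), (4, -19, 17), (5, -2, 12), (6, -2, 15), (7, 4, 6), (8, 0, 5), (9, 1, 3), (10, 1, 1), (11, 1, 0), (12, 1, 5), (13, 2, 2), (14, 2, 2), (15, 2, 0), (16, 2, 1), (18, 2, 0), (20, 1, 0), (21, 1, -1), (26, 0, -1)],
  [(0, 23, 19), (1, 14, 27), (2, 17, 23), (3, 20, 9), (4, 19, 13), (5, 10, -2), (6, 13, 0), (7, 4, -4), (8, 4, -2), (9, 1, -2), (10, 0, -1), (11, 0, -1), (12, 6, -1), (13, 2, -3), (14, 3, -2), (15, 0, -3), (17, -1, 1), (18, 0, -2), (19, 0, 1), (20, 0, -1), (21, -1, 0), (22, 0, -1), (23, -1, 0), (25, 0, 1), (27, 0, -1)],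
  [(0, -89, -50), (1, -76, -72), (2, -91, -69), (3, -80, -14), (4, -78, -27), (5, -38, 14), (6, -40, 15), (7, -12, 21), (8, -18, 6), (9, -9, 9), (10, -1, 8), (11, 1, 5), (12, -13, 7), (13, -4, 7), (14, -4, 7), (15, 0, 6), (16, 1, 6), (17, 1, 2), (18, 2, 5), (19, 1, 0), (20, 2, 3), (21, 1, 0), (22, 1, 1), (23, 0, -1), (24, 1, 1), (25, 1, 0), (27, 1, 0)],
  [(0, -5, 43), (1, -19, 46), (2, -15, 49), (3, 6, 36), (4, 2, 37), (5, 11, 14), (6, 15, 16), (7, 10, 2), (8, 6, 5), (9, 4, 2), (10, 3, 0), (11, 2, 0), (12, 7, 4), (13, 4, 0), (14, 5, -1), (15, 2, -3), (16, 3, -1), (18, 2, -2), (19, 0, 1), (20, 1, -2), (21, 0, -1), (22, 0, -1), (23, -1, 0), (26, 0, -1)],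
  [(0, -37, -40), (1, -28, -52), (2, -33, -52), (3, -38, -22), (4, -35, -29), (5, -21, 0), (6, -25, 0), (7, -10, 8), (8, -10, 0), (9, -7, 3), (10, -3, 3), (11, -1, 3), (12, -8, 2), (13, -3, 3), (14, -3, 4), (15, 0, 4), (16, -1, 4), (17, -1, 0), (18, 1, 3), (19, -1, 0), (20, 1, 2), (21, 1, 0), (22, 1, 1), (23, 0, -1), (24, 1, 1), (26, 1, 0)],
  [(0, -49, -74), (1, -30, -88), (2, -41, -90), (3, -56, -43), (4, -47, -53), (5, -34, -5), (6, -38, -7), (7, -18, 10), (8, -19, -1), (9, -11, 5), (10, -3, 6), (11, -1, 3), (12, -13, 0), (13, -7, 4), (14, -6, 4), (15, -2, 6), (16, -3, 5), (17, 1, 2), (18, -1, 5), (20, 0, 3), (22, 1, 2), (24, 1, 1), (25, 1, 0), (27, 1, 0)],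
  [(0, -25, 5), (1, -26, -1), (2, -26, 4), (3, -17, 11), (4, -18, 7), (5, -4, 9), (6, -5, 9), (7, 2, 6), (8, -1, 4), (9, 1, 3), (10, 1, 1), (11, 1, 1), (12, -2, 3), (13, 0, 2), (14, 0, 2), (15, 1, 1), (16, 2, 0), (18, 2, 1), (20, 1, 0), (21, 1, -1), (25, 0, -1), (27, 0, 1)],
  [(0, -112, 65), (1, -130, 36), (2, -136, 52), (3, -68, 77), (4, -83, 67), (5, -11, 50), (6, -12, 56), (7, 15, 27), (8, -3, 25), (9, 6, 15), (10, 8, 6), (11, 5, 2), (12, -2, 20), (13, 5, 10), (14, 6, 9), (15, 8, 3), (16, 8, 3), (17, 3, 0), (18, 7, 1), (19, 1, 0), (20, 4, 0), (21, 1, -1), (22, 2, -1), (23, 0, -1), (24, 1, -1), (25, 0, -1), (27, 0, -1)],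
  [(0, -24, -26), (1, -16, -35), (2, -20, -35), (3, -24, -14), (4, -23, -20), (5, -13, -1), (6, -17, -1), (7, -7, 5), (8, -7, 0), (9, -3, 1), (10, -1, 2), (11, 0, 1), (12, -6, 1), (13, -2, 2), (14, -3, 3), (15, 0, 3), (16, -2, 2), (18, 0, 2), (19, 0, -1), (20, 0, 2), (22, 1, 1), (23, 1, 0), (25, -1, 0), (27, 1, 0)],
  [(0, -13, 33), (1, -23, 31), (2, -21, 36), (3, -1, 29), (4, -7, 29), (5, 6, 13), (6, 8, 15), (7, 8, 4), (8, 4, 5), (9, 4, 2), (10, 2, 0), (11, 1, 0), (12, 3, 4), (13, 3, 1), (14, 3, 0), (15, 2, -1), (16, 3, -1), (18, 2, -1), (20, 1, -1), (21, 0, -1), (22, 0, -1), (26, -1, 0)],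
  [(0, -57, 34), (1, -70, 18), (2, -72, 27), (3, -37, 40), (4, -44, 35), (5, -6, 26), (6, -7, 31), (7, 7, 14), (8, -1, 14), (9, 4, 8), (10, 4, 3), (11, 2, 1), (12, 0, 11), (13, 3, 5), (14, 4, 5), (15, 5, 1), (16, 4, 2), (17, 1, 0), (18, 3, 1), (20, 2, 0), (21, 1, 0), (22, 1, -1), (24, 1, -1), (26, 0, -1)]]

def t1 : List (List (ℕ × ℤ × ℤ)) := [
  [],
  [],
  [],
  [],
  [],
  [],
  [],
  [(0, 1, 1), (1, 1, 1), (2, 1, 1), (3, 1, 0)],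
  [],
  [],
  [],
  [(0, 0, 2), (1, 0, 2), (2, 1, 1), (3, 1, 1), (4, 1, 1), (5, 1, 0)],
  [],
  [(0, 1, 1), (1, 0, 2), (2, 0, 2), (3, 1, 1), (4, 1, 1), (6, 1, 0)],
  [(0, -1, 4), (1, -1, 3), (2, -1, 4), (3, 1, 3), (4, 0, 3), (5, 1, 1), (6, 1, 1), (7, 1, 0)],
  [(1, 0, 1), (7, 0, 1)],
  [],
  [],
  [],
  [(1, 1, 1), (2, 1, 1), (8, 1, 1), (9, 1, 0)],
  [],
  [(0, -4, 3), (1, -3, 3), (2, -3, 4), (3, -1, 4), (4, -1, 3), (5, 0, 2), (6, 1, 1), (7, 1, 1), (8, 0, 1), (10, 1, 1)],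
  [(0, -2, 9), (1, -1, 8), (2, -2, 10), (3, 2, 7), (4, 1, 7), (5, 2, 2), (6, 3, 1), (7, 3, 1), (8, 0, 2), (9, 1, 1), (10, 2, 0), (11, 1, -1)],
  [(0, -11, 6), (1, -8, 6), (2, -11, 8), (3, -5, 9), (4, -5, 8), (5, 0, 4), (6, 2, 4), (7, 2, 4), (8, -1, 2), (9, 1, 1), (10, 2, 2), (11, 2, 0)],
  [],
  [(0, 0, 2), (1, -1, 3), (2, -1, 3), (3, 0, 2), (4, 0, 2), (5, 1, 1), (6, 1, 1), (12, 1, 0)],
  [(0, -1, 4), (1, -4, 3), (2, -3, 3), (3, -1, 3), (4, 0, 4), (5, 1, 2), (6, 1, 2), (12, 1, 1), (13, 1, 0)],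
  [(0, 0, 1), (4, 0, 1), (13, 0, 1)],
  [(0, 0, 2), (1, -3, 3), (2, -3, 2), (3, -1, 2), (4, -1, 3), (5, 0, 1), (6, 1, 2), (12, 1, 1), (14, 1, 0)],
  [(0, 0, 1), (14, 0, 1)],
  [(0, 0, 14), (1, -8, 14), (2, -6, 14), (3, 1, 10), (4, 0, 12), (5, 3, 4), (6, 4, 7), (7, 2, 0), (8, 2, 2), (9, 2, 0), (12, 3, 3), (13, 2, 0), (14, 2, 0), (15, 1, -1)],
  [(0, -12, 14), (1, -20, 7), (2, -18, 8), (3, -8, 11), (4, -10, 13), (5, 0, 7), (6, -1, 10), (7, 2, 2), (8, 0, 2), (9, 1, 1), (12, 1, 5), (13, 2, 2), (14, 2, 2), (15, 2, 0)],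
  [],
  [(0, -2, 3), (1, -2, 4), (2, -2, 5), (3, 0, 3), (4, -1, 3), (5, 0, 2), (6, 1, 1), (7, 1, 1), (8, 1, 2), (9, 1, 1), (10, 1, 0), (16, 1, 0)],
  [(0, -16, 21), (1, -23, 14), (2, -22, 18), (3, -8, 18), (4, -12, 18), (5, 1, 10), (6, 0, 13), (7, 4, 3), (8, 2, 5), (9, 3, 2), (10, 1, 0), (12, 1, 5), (13, 2, 2), (14, 2, 2), (15, 3, 0), (16, 1, -1), (17, 1, -1)],
  [(0, -28, 5), (1, -29, -4), (2, -33, 0), (3, -21, 9), (4, -24, 9), (5, -8, 10), (6, -8, 12), (7, 1, 5), (8, -2, 6), (9, 2, 4), (10, 2, 2), (12, -2, 6), (13, 0, 4), (14, 2, 2), (15, 2, 2), (16, 2, 0), (17, 2, 0)],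
  [(0, -5, 4), (1, -5, 4), (2, -6, 4), (3, -2, 5), (4, -3, 3), (5, 0, 2), (6, 0, 2), (7, 1, 2), (8, 1, 2), (9, 0, 1), (10, 1, 0), (16, 1, 1), (18, 1, 0)],
  [(0, -3, 3), (1, -3, 2), (2, -3, 4), (3, -1, 4), (4, -1, 3), (5, 0, 2), (6, 1, 1), (7, 1, 1), (8, 0, 1), (10, 1, 0), (18, 0, 1)],
  [(0, -45, 5), (1, -44, -3), (2, -51, -1), (3, -32, 16), (4, -35, 12), (5, -10, 15), (6, -9, 16), (7, 2, 11), (8, -5, 6), (9, -1, 6), (10, 2, 4), (11, 2, 2), (12, -3, 5), (13, 0, 4), (14, 0, 2), (15, 0, 2), (16, 3, 1), (17, 2, 2), (18, 2, 0), (19, 2, 0)],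
  [(0, -17, -10), (1, -16, -13), (2, -18, -13), (3, -17, -2), (4, -14, -4), (5, -8, 3), (6, -7, 4), (7, -3, 5), (8, -3, 2), (9, -1, 1), (10, 0, 2), (12, -1, 1), (13, 0, 2), (16, 0, 2), (18, 0, 2), (19, 0, 2)],
  [],
  [(0, -22, -2), (1, -22, -8), (2, -24, -5), (3, -17, 5), (4, -18, 2), (5, -7, 6), (6, -6, 7), (7, -1, 6), (8, -2, 2), (9, -1, 1), (10, 1, 1), (11, 0, 1), (12, -2, 2), (13, 0, 2), (14, 0, 2), (15, 0, 1), (16, 1, 1), (18, 1, 1), (20, 1, 1)],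
  [(0, -56, 30), (1, -61, 14), (2, -64, 25), (3, -33, 37), (4, -40, 31), (5, -6, 23), (6, -5, 26), (7, 8, 15), (8, -3, 10), (9, 2, 6), (10, 4, 3), (11, 4, 1), (12, -2, 8), (13, 2, 4), (14, 2, 4), (15, 4, 1), (16, 3, 1), (18, 3, 1), (20, 2, 0), (21, 1, -1)],
  [(0, -74, -27), (1, -65, -46), (2, -76, -40), (3, -62, 0), (4, -63, -11), (5, -27, 14), (6, -29, 18), (7, -7, 19), (8, -11, 6), (9, -4, 6), (10, 0, 6), (11, 2, 4), (12, -9, 5), (13, -2, 6), (14, -2, 6), (15, 2, 4), (16, 2, 4), (18, 2, 4), (20, 2, 2), (21, 2, 0)],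
  [(0, -46, 25), (1, -55, 10), (2, -55, 17), (3, -28, 29), (4, -36, 23), (5, -6, 19), (6, -8, 23), (7, 5, 12), (8, -1, 11), (9, 2, 6), (10, 2, 1), (11, 1, 1), (12, -2, 8), (13, 2, 4), (14, 2, 4), (15, 4, 1), (16, 3, 3), (18, 3, 1), (20, 2, 0), (22, 1, -1)],
  [(0, -64, -20), (1, -58, -41), (2, -65, -34), (3, -52, 1), (4, -53, -10), (5, -23, 12), (6, -27, 14), (7, -6, 15), (8, -10, 9), (9, -4, 7), (10, 2, 4), (11, 0, 2), (12, -9, 5), (13, -2, 6), (14, -2, 6), (15, 2, 4), (16, 1, 5), (18, 2, 4), (20, 2, 2), (22, 2, 0)],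
  [(0, -80, -114), (1, -47, -141), (2, -67, -142), (3, -88, -67), (4, -81, -85), (5, -55, -9), (6, -65, -7), (7, -28, 19), (8, -23, 1), (9, -12, 6), (10, -5, 7), (11, -3, 5), (12, -23, -1), (13, -10, 8), (14, -10, 8), (15, -1, 9), (16, -3, 9), (18, -1, 9), (20, 0, 6), (21, 2, 2), (22, 2, 2), (23, 2, 0)],
  [(0, -11, -5), (1, -13, -7), (2, -14, -5), (3, -11, 1), (4, -9, -3), (5, -5, 3), (6, -5, 3), (7, -2, 4), (8, -2, 3), (9, 0, 2), (16, 0, 2), (18, 0, 2), (23, 0, 2)],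
  [],
  [(0, -97, -41), (1, -84, -67), (2, -99, -61), (3, -82, -7), (4, -82, -21), (5, -37, 16), (6, -42, 17), (7, -10, 22), (8, -21, 11), (9, -8, 14), (10, 0, 10), (11, 2, 4), (12, -15, 7), (13, -4, 8), (14, -4, 8), (15, 2, 8), (16, 2, 6), (17, 2, 2), (18, 2, 4), (20, 2, 2), (22, 2, 2), (24, 2, 0)],
  [(0, -80, -149), (1, -40, -168), (2, -68, -173), (3, -99, -91), (4, -84, -106), (5, -65, -14), (6, -70, -17), (7, -35, 19), (8, -34, -4), (9, -20, 9), (10, -7, 11), (11, -3, 7), (12, -24, -4), (13, -14, 6), (14, -12, 6), (15, -5, 11), (16, -2, 10), (17, 2, 4), (18, -3, 9), (20, 0, 6), (21, 2, 2), (22, 0, 2), (24, 2, 2), (25, 2, 0)],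
  [(0, -10, -2), (1, -9, -1), (2, -13, -1), (3, -8, 3), (4, -9, 1), (5, -4, 2), (6, -2, 4), (7, -1, 4), (8, -1, 2), (9, 0, 1), (10, 0, 2), (16, 1, 1), (25, 0, 2)],
  [(0, -93, -161), (1, -48, -191), (2, -74, -197), (3, -110, -101), (4, -95, -123), (5, -71, -18), (6, -84, -19), (7, -39, 20), (8, -36, -3), (9, -22, 10), (10, -9, 11), (11, -3, 7), (12, -30, -2), (13, -14, 8), (14, -14, 10), (15, -3, 13), (16, -5, 11), (17, 0, 2), (18, -1, 9), (20, 0, 6), (21, 2, 2), (22, 2, 4), (24, 2, 2), (26, 2, 0)],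
  [(0, -2, -5), (1, -3, -6), (2, -2, -6), (3, -4, -4), (4, -2, -3), (5, -3, 0), (6, -2, -1), (7, -2, 1), (8, -1, 1), (9, 0, -1), (12, -1, 1), (16, -1, 1), (18, 0, 2), (26, 0, 2)],
  [(0, -113, -147), (1, -74, -180), (2, -99, -185), (3, -122, -84), (4, -108, -106), (5, -72, -7), (6, -82, -9), (7, -37, 24), (8, -39, -1), (9, -22, 12), (10, -7, 13), (11, -1, 7), (12, -28, 2), (13, -12, 10), (14, -12, 10), (15, -3, 13), (16, -5, 11), (17, 2, 4), (18, -1, 9), (20, 0, 6), (22, 2, 4), (24, 2, 2), (27, 2, 0)],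
  [(0, -7, -3), (1, -9, -7), (2, -8, -4), (3, -8, -1), (4, -7, 0), (5, -4, 2), (6, -3, 3), (7, -1, 1), (8, -1, 3), (9, 1, 1), (12, -2, 2), (13, 0, 2), (18, 0, 2), (27, 0, 2)]]

def t2 : List (List (ℕ × ℤ × ℤ)) := [
  [(0, 1, 0)],
  [(0, 0, 1)],
  [(1, 1, 0)],
  [(1, 0, 1)],
  [(2, 1, 0)],
  [(2, 0, 1)],
  [(3, 1, -1)],
  [(3, 1, 0)],
  [(4, 1, 0)],
  [(4, 0, 1)],
  [(5, 1, -1)],
  [(5, 1, 0)],
  [(6, 1, -1)],
  [(6, 1, 0)],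
  [(7, 1, 0)],
  [(7, 0, 1)],
  [(8, 1, 0)],
  [(8, 0, 1)],
  [(9, 1, -1)],
  [(9, 1, 0)],
  [(10, 1, 0)],
  [(10, 0, 1)],
  [(11, 1, -1)],
  [(11, 1, 0)],
  [(12, 1, -1)],
  [(12, 1, 0)],
  [(13, 1, 0)],
  [(13, 0, 1)],
  [(14, 1, 0)],
  [(14, 0, 1)],
  [(15, 1, -1)],
  [(15, 1, 0)],
  [(16, 1, -1)],
  [(16, 1, 0)],
  [(17, 1, -1)],
  [(17, 1, 0)],
  [(18, 1, 0)],
  [(18, 0, 1)],
  [(19, 1, 0)],
  [(19, 0, 1)],
  [(20, 1, 0)],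
  [(20, 0, 1)],
  [(21, 1, -1)],
  [(21, 1, 0)],
  [(22, 1, -1)],
  [(22, 1, 0)],
  [(23, 1, 0)],
  [(23, 0, 1)],
  [(24, 1, -1)],
  [(24, 1, 0)],
  [(25, 1, 0)],
  [(25, 0, 1)],
  [(26, 1, 0)],
  [(26, 0, 1)],
  [(27, 1, 0)],
  [(27, 0, 1)]]

def rows1 : List ℕ := [0, 0, 0, 0, 0, 0, 0, 43690, 0, 0, 0, 11174536, 0, 168462466, 680036392, 2183275138, 0, 0, 0, 730144443040, 0, 11038644929160, 37942314139818, 187649984430080, 0, 2814749909715106, 11258999211687946, 36591747008692234, 146366988024283266, 577023702290530344, 2461217927175776768, 12297641735351828480, 0, 184467443528857952898, 639295537300226738856, 3145352272034698109480, 9592306920536582652074, 37815825353312764461602, 162958585141419710220810, 642979759328095529208330, 0, 12098740588214453889828874, 41112971022744585760672266, 205564807303330637048611464, 621397475118052945462602250,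 3106986774378301986750235170, 12543861722290087019259011082, 40274202165235243688896667658, 0, 794759935072469542425057724930, 3169290954806626456083888611370, 10299702240551729825657485688970, 41201275139492363268987134445602, 162418390847816718198926336860808, 649673418218194962977585434372104, 2596307507028166974017133791977986]

def rows2 : List ℕ := [0, 0, 0, 0, 0, 0, 0, 43690, 0, 0, 43690, 11174536, 43690, 168462466, 680036392, 2183275138, 0, 0, 0, 730144443040, 2237675855741, 8808396840437, 37942314139818, 105372727443496, 178260490, 2814749909715106, 11258999211687946, 36591747008692234, 146366988024283266, 577023702290530344, 2461217927175776768, 6916685191087884298, 730824452130, 184467441299700448767, 645059303144283626975, 1766549356155439813046, 9592306918376210948055, 37815825351151252888927, 93322149697350928762287, 359416421517189862328237,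 2488978592484729301175031, 9733038361758785689422559, 41112977939531809521360213, 114919079816092303164129604, 621397482034740294125288829, 1565630026459951710901092667, 8912272269151525371294118535, 20137139009123437943225571375, 163107100194592043171288601101, 399858277466063190086084022027, 2218635231753480318045032165951, 5149851120423438874251154278605, 21237093501898312818688701648563, 81209195461687291525507756603884, 325473020010291419199276247537156, 1298153753551899348952002698959619]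

end Cfsg.Agent.Lib.Helper27.RuL
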