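import Cfsg.Agent.Lib.Helper27.RuLSearch
import Cfsg.Agent.Lib.Helper27.RuLData

/-! # The search for vectors of norm 8 in the Rudvalis lattice comes back empty (helper27) -/

set_option autoImplicit false

namespace Cfsg.Agent.Lib.Helper27.RuL

theorem run : searchAll rows1 rows2 = true := by decide +kernel

end Cfsg.Agent.Lib.Helper27.RuL
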