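import Cfsg.Agent.Lib.Helper27.RuLChkA
import Cfsg.Agent.Lib.Helper27.RuLChkB
import Cfsg.Agent.Lib.Helper27.RuLRun

/-! # The Rudvalis lattice is even and has no vector of (stored) norm 8 (helper27) -/

set_option autoImplicit false

namespace Cfsg.Agent.Lib.Helper27.RuL

open Cfsg.Spor

theorem L_closed : L ∈ ruClosed := by
  refine ⟨fun v hv => ?_, fun v hv => ⟨gI_mem hv, ?_, ?_, ?_, ?_⟩⟩
  · rw [certTab] at hv
    obtain ⟨cs, _, rfl⟩ := List.mem_map.1 hv
    exact comb_mem cs
  · exact closed_of ruRj rj_add rj_I (fun k hk => by rw [certRj k hk]; exact comb_mem _) v hv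
  · exact closed_of ruRk rk_add rk_I (fun k hk => by rw [certRk k hk]; exact comb_mem _) v hv
  · exact closed_of ruSign sg_add sg_I (fun k hk => by rw [certSg k hk]; exact comb_mem _) v hv
  · exact closed_of ruShift sh_add sh_I (fun k hk => by rw [certSh k hk]; exact comb_mem _) v hv

theorem lat_le : ruLattice ≤ L := sInf_le L_closed

theorem R_comm (v w : RuVec) : R v w = R w v := by
  unfold R
  exact Finset.sum_congr rfl (fun i _ => mul_comm _ _)

theorem dvd4_gen {g : RuVec} (hg : ∃ k < 28, g = bas k ∨ g = gI • bas k) :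
    ∀ v ∈ L, (4 : ℤ) ∣ R v g := by
  intro v hv
  induction hv using AddSubgroup.closure_induction with
  | mem x hx =>
    obtain ⟨l, hl, hg'⟩ := hg
    obtain ⟨k, hk, hx'⟩ := hx
    rcases hx' with rfl | rfl <;> rcases hg' with rfl | rfl
    · exact (gram k hk l hl).1
    · exact (gram k hk l hl).2.1
    · exact (gram k hk l hl).2.2.1
    · exact (gram k hk l hl).2.2.2
  | zero => rw [R_zero_left]; exact dvd_zero _
  | add x y _ _ hx hy => rw [R_add_left]; exact dvd_add hx hy
  | neg x _ hx => rw [R_neg_left]; exact (dvd_neg).2 hx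

theorem dvd4 {v w : RuVec} (hv : v ∈ L) (hw : w ∈ L) : (4 : ℤ) ∣ R v w := by
  induction hw using AddSubgroup.closure_induction with
  | mem x hx => exact dvd4_gen hx v hv
  | zero => rw [R_zero_right]; exact dvd_zero _
  | add x y _ _ hx hy => rw [R_add_right]; exact dvd_add hx hy
  | neg x _ hx => rw [R_neg_right]; exact (dvd_neg).2 hx

theorem dvd8 {v : RuVec} (hv : v ∈ L) : (8 : ℤ) ∣ R v v := by
  induction hv using AddSubgroup.closure_induction with
  | mem x hx =>
    obtain ⟨k, hk, rfl | rfl⟩ := hx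
    · exact (gram8 k hk).1
    · exact (gram8 k hk).2
  | zero => rw [R_zero_left]; exact dvd_zero _
  | add x y hx' hy' hx hy =>
    rw [R_add_left, R_add_right, R_add_right]
    obtain ⟨a, ha⟩ := hx
    obtain ⟨b, hb⟩ := hy
    obtain ⟨c, hc⟩ := dvd4 (v := x) (w := y) hx' hy'
    exact ⟨a + b + c, by rw [R_comm y x, ha, hb, hc]; ring⟩
  | neg x _ hx => rw [R_neg_left, R_neg_right, neg_neg]; exact hx

theorem tsum_test (x y : ℕ → ℤ) (T k : ℕ) (hk : k < 56)
    (h : (4 : ℤ) ∣ ∑ i ∈ Finset.range 56, x i * y i)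
    (hc : ∀ i < 56, (4 : ℤ) ∣ y i - (fld T (2 * i) : ℤ))
    (hz : ∀ i < 56, k < i → fld T (2 * i) = 0) : (4 : ℤ) ∣ tsum x T (k + 1) := by
  have h1 : tsum x T (k + 1) = tsum x T 56 := by
    unfold tsum
    apply Finset.sum_subset (Finset.range_subset_range.2 (by omega))
    intro i hi hni
    rw [Finset.mem_range] at hi hni
    rw [hz i hi (by omega)]
    simp
  rw [h1]
  have h2 : (4 : ℤ) ∣ (∑ i ∈ Finset.range 56, x i * y i) - tsum x T 56 := by
    unfold tsum
    rw [← Finset.sum_sub_distrib]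
    apply Finset.dvd_sum
    intro i hi
    rw [← mul_sub]
    exact Dvd.dvd.mul_left (hc i (Finset.mem_range.1 hi)) _
  obtain ⟨a, ha⟩ := h
  obtain ⟨b, hb⟩ := h2
  exact ⟨a - b, by linear_combination ha - hb⟩

theorem no8 {v : RuVec} (hv : v ∈ L) : R v v ≠ 8 := by
  intro h8
  have hl1 : rows1.length = 56 := rfl
  have hl2 : rows2.length = 56 := rfl
  refine searchAll_sound (xr v) rows1 rows2 run (hl2.trans hl1.symm) ?_ ?_ ?_
  · apply pass1_of
    intro k hk
    have hk' : k < 56 := hl1 ▸ hk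
    have hc := chk1 k hk'
    refine ⟨?_, fun i hi => (hc i (by omega)).2.2⟩
    rw [zero_add]
    exact tsum_test (xr v) (xr (comb (t1.getD k []))) _ k hk' (dvd4 hv (comb_mem _))
      (fun i hi => (hc i hi).1) (fun i hi => (hc i hi).2.1)
  · apply pass2_of
    intro k hk
    have hk' : k < 56 := hl2 ▸ hk
    have hc := chk2 k hk'
    rw [zero_add]
    exact tsum_test (xr v) (xr (comb (t2.getD k []))) _ k hk' (dvd4 hv (comb_mem _))
      (fun i hi => (hc i hi).1) (fun i hi => (hc i hi).2)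
  · rw [nrm_eq_sum, hl1, ← h8]
    unfold R
    apply Finset.sum_congr rfl
    intro i _
    rw [zero_add, sq]

theorem norm_pos {x : RuVec} (h : x ≠ 0) : 0 < ruNorm x := by
  have hnn : ∀ p ∈ (Finset.univ : Finset RuIdx), 0 ≤ (x p).norm :=
    fun p _ => GaussianInt.norm_nonneg _
  rcases (Finset.sum_nonneg hnn).lt_or_eq with h1 | h1
  · exact h1
  · exfalso
    apply h
    have := (Finset.sum_eq_zero_iff_of_nonneg hnn).1 h1.symm
    funext p
    exact (Zsqrtd.norm_eq_zero_iff (by norm_num) _).1 (this p (Finset.mem_univ p))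

theorem w0_mem : bas 0 ∈ ruTable := by decide +kernel
theorem w0_norm : ruNorm (bas 0) = 16 := by decide +kernel

theorem w0_lat : bas 0 ∈ ruLattice := by
  rw [ruLattice, AddSubgroup.mem_sInf]
  exact fun K hK => hK.1 _ w0_mem

end Cfsg.Agent.Lib.Helper27.RuL
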