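import Cfsg.Agent.Lib.Helper28.TCBasic

/-!
# A verified two-phase depth-first search for short vectors (helper27)

Phase 1 enumerates the parity patterns of integer vectors of square norm at most `r` that are orthogonal
modulo 4 to a triangular family of even test vectors; phase 2 enumerates, for a given parity pattern, the
residue patterns modulo 4 of vectors of square norm exactly `r` orthogonal modulo 4 to a triangular
family of test vectors.
-/

set_option autoImplicit false

namespace Cfsg.Agent.Lib.Helper27.RuL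

open Cfsg.Agent.Lib.Helper28

/-- the two-bit field at bit position `s` -/
noncomputable def fld (T s : ℕ) : ℕ := Nat.land (Nat.shiftRight T s) 3

/-- the bit at position `s` -/
noncomputable def pbit (T s : ℕ) : ℕ := Nat.land (Nat.shiftRight T s) 1

/-- sparse dot product -/
noncomputable def sdot (T : ℕ) (sp : List (ℕ × ℕ)) : ℕ :=
  List.rec (motive := fun _ => ℕ) 0 (fun p _ ih => Nat.add (Nat.mul (fld T p.1) p.2) ih) sp

/-- one branch of the search -/
noncomputable def br (k : ℕ → List (ℕ × ℕ) → Bool) (d f r : ℕ) (sp : List (ℕ × ℕ)) (c cost : ℕ) :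
    Bool :=
  Bool.rec (motive := fun _ => Bool) true
    (Bool.rec (motive := fun _ => Bool) true (force (Nat.sub r cost) fun r' => k r' sp)
      (Nat.beq (Nat.land (Nat.add d (Nat.mul c f)) 3) 0))
    (Nat.ble cost r)

/-- conjunction, evaluated left to right -/
noncomputable def band' (a b : Bool) : Bool := Bool.rec (motive := fun _ => Bool) false b a

/-- the step of phase 2 -/
noncomputable def step2 (e T : ℕ) (ih : ℕ → ℕ → List (ℕ × ℕ) → Bool) (s r : ℕ)
    (sp : List (ℕ × ℕ)) : Bool :=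
  force (sdot T sp) fun d => force (fld T s) fun f => force (Nat.add s 2) fun s' =>
    natCase
      (band' (br (ih s') d f r sp 0 0) (br (ih s') d f r ((s, 2) :: sp) 2 4))
      (fun _ => band' (br (ih s') d f r ((s, 1) :: sp) 1 1) (br (ih s') d f r ((s, 3) :: sp) 3 1))
      (pbit e s)

/-- phase 2 -/
noncomputable def search2 (e : ℕ) (rows : List ℕ) : ℕ → ℕ → List (ℕ × ℕ) → Bool :=
  List.rec (motive := fun _ => ℕ → ℕ → List (ℕ × ℕ) → Bool) (fun _ r _ => Nat.blt 0 r)
    (fun T _ ih => step2 e T ih) rows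

/-- the step of phase 1 -/
noncomputable def step1 (T : ℕ) (ih : ℕ → ℕ → List (ℕ × ℕ) → ℕ → Bool) (s r : ℕ)
    (sp : List (ℕ × ℕ)) (e : ℕ) : Bool :=
  force (sdot T sp) fun d => force (fld T s) fun f => force (Nat.add s 2) fun s' =>
    band' (br (fun r' sp' => ih s' r' sp' e) d f r sp 0 0)
      (force (Nat.add e (Nat.shiftLeft 1 s)) fun e' =>
        br (fun r' sp' => ih s' r' sp' e') d f r ((s, 1) :: sp) 1 1)

/-- phase 1, with continuation `K` at the leaves -/
noncomputable def search1 (K : ℕ → Bool) (rows : List ℕ) : ℕ → ℕ → List (ℕ × ℕ) → ℕ → Bool :=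
  List.rec (motive := fun _ => ℕ → ℕ → List (ℕ × ℕ) → ℕ → Bool) (fun _ _ _ e => K e)
    (fun T _ ih => step1 T ih) rows

/-! ### specifications -/

theorem band'_eq (a b : Bool) : band' a b = (a && b) := by cases a <;> rfl

theorem fld_eq (T s : ℕ) : fld T s = T / 2 ^ s % 4 := by
  unfold fld
  rw [show Nat.shiftRight T s = T >>> s from rfl, Nat.shiftRight_eq_div_pow]
  exact Nat.and_two_pow_sub_one_eq_mod _ 2

theorem pbit_eq (T s : ℕ) : pbit T s = T / 2 ^ s % 2 := by
  unfold pbit
  rw [show Nat.shiftRight T s = T >>> s from rfl, Nat.shiftRight_eq_div_pow]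
  exact Nat.and_two_pow_sub_one_eq_mod _ 1

theorem pbit_of_lt {e s : ℕ} (h : e < 2 ^ s) : pbit e s = 0 := by
  rw [pbit_eq, Nat.div_eq_of_lt h]

theorem pbit_add_top {e s : ℕ} (h : e < 2 ^ s) : pbit (e + 2 ^ s) s = 1 := by
  rw [pbit_eq, Nat.add_div_right _ (by positivity), Nat.div_eq_of_lt h]

theorem pbit_add_low (e : ℕ) {s t : ℕ} (h : t < s) : pbit (e + 2 ^ s) t = pbit e t := by
  obtain ⟨k, rfl⟩ : ∃ k, s = t + 1 + k := ⟨s - t - 1, by omega⟩
  rw [pbit_eq, pbit_eq, show 2 ^ (t + 1 + k) = 2 ^ t * (2 * 2 ^ k) by ring,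
    Nat.add_mul_div_left _ _ (by positivity), Nat.add_mul_mod_self_left]

theorem sdot_cons (T s c : ℕ) (sp : List (ℕ × ℕ)) :
    sdot T ((s, c) :: sp) = fld T s * c + sdot T sp := rfl

theorem br_true {k : ℕ → List (ℕ × ℕ) → Bool} {d f r : ℕ} {sp : List (ℕ × ℕ)} {c cost : ℕ}
    (h : br k d f r sp c cost = true) (h1 : cost ≤ r) (h2 : (d + c * f) % 4 = 0) :
    k (r - cost) sp = true := by
  unfold br at h
  have e1 : Nat.ble cost r = true := Nat.ble_eq_true_of_le h1
  have e2 : Nat.beq (Nat.land (Nat.add d (Nat.mul c f)) 3) 0 = true := by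
    have : Nat.land (Nat.add d (Nat.mul c f)) 3 = (d + c * f) % 4 :=
      Nat.and_two_pow_sub_one_eq_mod _ 2
    rw [this, h2]; rfl
  rw [e1, e2] at h
  simpa [force_eq] using h

/-- square norm of the coordinates `j, …, j + n - 1` -/
def nrm (x : ℕ → ℤ) : ℕ → ℕ → ℤ
  | 0, _ => 0
  | n + 1, j => x j ^ 2 + nrm x n (j + 1)

theorem nrm_nonneg (x : ℕ → ℤ) : ∀ n j, 0 ≤ nrm x n j
  | 0, _ => le_refl _
  | n + 1, j => add_nonneg (sq_nonneg _) (nrm_nonneg x n (j + 1))

theorem nrm_eq_sum (x : ℕ → ℤ) : ∀ n j, nrm x n j = ∑ i ∈ Finset.range n, x (j + i) ^ 2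
  | 0, _ => by simp [nrm]
  | n + 1, j => by
    rw [nrm, nrm_eq_sum x n (j + 1), Finset.sum_range_succ']
    simp only [add_zero]
    rw [add_comm]
    congr 1
    apply Finset.sum_congr rfl
    intro i _
    congr 2
    omega

/-- the partial test sum -/
noncomputable def tsum (x : ℕ → ℤ) (T j : ℕ) : ℤ := ∑ i ∈ Finset.range j, x i * (fld T (2 * i) : ℤ)

theorem tsum_succ (x : ℕ → ℤ) (T j : ℕ) :
    tsum x T (j + 1) = tsum x T j + x j * (fld T (2 * j) : ℤ) := Finset.sum_range_succ _ _

/-- the invariant of phase 2 -/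
def Inv2 (x : ℕ → ℤ) (j : ℕ) (sp : List (ℕ × ℕ)) : Prop :=
  ∀ T : ℕ, (4 : ℤ) ∣ tsum x T j - (sdot T sp : ℤ)

/-- the tests of phase 2 -/
def Pass2 (x : ℕ → ℤ) : List ℕ → ℕ → Prop
  | [], _ => True
  | T :: rows, j => ((4 : ℤ) ∣ tsum x T (j + 1)) ∧ Pass2 x rows (j + 1)

theorem inv2_step {x : ℕ → ℤ} {j : ℕ} {sp : List (ℕ × ℕ)} (h : Inv2 x j sp) (c : ℕ)
    (hc : (4 : ℤ) ∣ x j - c) : Inv2 x (j + 1) ((2 * j, c) :: sp) := by
  intro T
  rw [tsum_succ, sdot_cons]
  obtain ⟨u, hu⟩ := h T
  obtain ⟨v, hv⟩ := hc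
  refine ⟨u + v * fld T (2 * j), ?_⟩
  push_cast
  linear_combination hu + (fld T (2 * j) : ℤ) * hv

theorem inv2_step0 {x : ℕ → ℤ} {j : ℕ} {sp : List (ℕ × ℕ)} (h : Inv2 x j sp)
    (hc : (4 : ℤ) ∣ x j) : Inv2 x (j + 1) sp := by
  intro T
  rw [tsum_succ]
  obtain ⟨u, hu⟩ := h T
  obtain ⟨v, hv⟩ := hc
  refine ⟨u + v * fld T (2 * j), ?_⟩
  linear_combination hu + (fld T (2 * j) : ℤ) * hv

theorem search2_sound (x : ℕ → ℤ) (e : ℕ) : ∀ (rows : List ℕ) (j r : ℕ) (sp : List (ℕ × ℕ)),
    search2 e rows (2 * j) r sp = true → r ≤ 8 → Inv2 x j sp → Pass2 x rows j →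
    (∀ i, i < j + rows.length → (2 : ℤ) ∣ x i - (pbit e (2 * i) : ℤ)) →
    nrm x rows.length j = r → False := by
  intro rows
  induction rows with
  | nil =>
    intro j r sp h _ _ _ _ hn
    have h0 : 0 < r := lt_of_blt h
    simp only [List.length_nil, nrm] at hn
    omega
  | cons T rows ih =>
    intro j r sp h hr hI hP hpar hn
    have h' : step2 e T (search2 e rows) (2 * j) r sp = true := h
    unfold step2 at h'
    simp only [force_eq] at h'
    rw [show Nat.add (2 * j) 2 = 2 * (j + 1) from by show 2 * j + 2 = _; ring] at h'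
    simp only [List.length_cons, nrm] at hn
    have hnn := nrm_nonneg x rows.length (j + 1)
    have hd : (4 : ℤ) ∣ (sdot T sp : ℤ) + x j * (fld T (2 * j) : ℤ) := by
      have h1 := hP.1
      rw [tsum_succ] at h1
      obtain ⟨u, hu⟩ := h1
      obtain ⟨v, hv⟩ := hI T
      exact ⟨u - v, by linear_combination hu - hv⟩
    have key : ∀ (c cost : ℕ) (sp' : List (ℕ × ℕ)),
        br (search2 e rows (2 * (j + 1))) (sdot T sp) (fld T (2 * j)) r sp' c cost = true →
        (4 : ℤ) ∣ x j - c → x j ^ 2 = cost → Inv2 x (j + 1) sp' → False := by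
      intro c cost sp' hbr hc hcost hI'
      have h1 : cost ≤ r := by
        have : (cost : ℤ) ≤ r := by linarith
        exact_mod_cast this
      have h2 : (sdot T sp + c * fld T (2 * j)) % 4 = 0 := by
        have : (4 : ℤ) ∣ ((sdot T sp + c * fld T (2 * j) : ℕ) : ℤ) := by
          push_cast
          obtain ⟨u, hu⟩ := hd
          obtain ⟨v, hv⟩ := hc
          exact ⟨u - v * fld T (2 * j), by linear_combination hu - (fld T (2 * j) : ℤ) * hv⟩
        have h4 : 4 ∣ sdot T sp + c * fld T (2 * j) := by exact_mod_cast this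
        exact Nat.mod_eq_zero_of_dvd h4
      have h3 := br_true hbr h1 h2
      refine ih (j + 1) (r - cost) sp' h3 (by omega) hI' hP.2 (fun i hi => hpar i ?_) ?_
      · simp only [List.length_cons]; omega
      · rw [Nat.cast_sub h1]; linarith
    have hj := hpar j (by simp only [List.length_cons]; omega)
    have hb : pbit e (2 * j) = 0 ∨ pbit e (2 * j) = 1 := by
      rw [pbit_eq]; omega
    have ha : x j ^ 2 ≤ 8 := by
      have : (r : ℤ) ≤ 8 := by exact_mod_cast hr
      linarith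
    have ha1 : -2 ≤ x j := by nlinarith
    have ha2 : x j ≤ 2 := by nlinarith
    rcases hb with hb | hb
    · rw [hb, natCase_zero, band'_eq, Bool.and_eq_true] at h'
      rw [hb] at hj
      have : x j = -2 ∨ x j = 0 ∨ x j = 2 := by omega
      rcases this with h0 | h0 | h0
      · exact key 2 4 _ h'.2 (by rw [h0]; norm_num) (by rw [h0]; norm_num)
          (inv2_step hI 2 (by rw [h0]; norm_num))
      · exact key 0 0 _ h'.1 (by rw [h0]; norm_num) (by rw [h0]; norm_num)
          (inv2_step0 hI (by rw [h0]; norm_num))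
      · exact key 2 4 _ h'.2 (by rw [h0]; norm_num) (by rw [h0]; norm_num)
          (inv2_step hI 2 (by rw [h0]; norm_num))
    · rw [hb, natCase_succ, band'_eq, Bool.and_eq_true] at h'
      rw [hb] at hj
      have : x j = -1 ∨ x j = 1 := by omega
      rcases this with h0 | h0
      · exact key 3 1 _ h'.2 (by rw [h0]; norm_num) (by rw [h0]; norm_num)
          (inv2_step hI 3 (by rw [h0]; norm_num))
      · exact key 1 1 _ h'.1 (by rw [h0]; norm_num) (by rw [h0]; norm_num)
          (inv2_step hI 1 (by rw [h0]; norm_num))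

/-- the invariant of phase 1 -/
def Inv1 (x : ℕ → ℤ) (j : ℕ) (sp : List (ℕ × ℕ)) : Prop :=
  ∀ T : ℕ, (∀ i < j, (2 : ℤ) ∣ (fld T (2 * i) : ℤ)) → (4 : ℤ) ∣ tsum x T j - (sdot T sp : ℤ)

/-- the tests of phase 1 -/
def Pass1 (x : ℕ → ℤ) : List ℕ → ℕ → Prop
  | [], _ => True
  | T :: rows, j => ((4 : ℤ) ∣ tsum x T (j + 1)) ∧ (∀ i < j + 1, (2 : ℤ) ∣ (fld T (2 * i) : ℤ)) ∧
      Pass1 x rows (j + 1)

theorem search1_sound (x : ℕ → ℤ) (K : ℕ → Bool) :
    ∀ (rows : List ℕ) (j r : ℕ) (sp : List (ℕ × ℕ)) (e : ℕ),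
    search1 K rows (2 * j) r sp e = true → Inv1 x j sp → e < 2 ^ (2 * j) →
    (∀ i < j, (2 : ℤ) ∣ x i - (pbit e (2 * i) : ℤ)) → Pass1 x rows j →
    nrm x rows.length j ≤ r →
    (∀ e', K e' = true → (∀ i < j + rows.length, (2 : ℤ) ∣ x i - (pbit e' (2 * i) : ℤ)) → False) →
    False := by
  intro rows
  induction rows with
  | nil =>
    intro j r sp e h _ _ hpar _ _ hK
    exact hK e h (by simpa using hpar)
  | cons T rows ih =>
    intro j r sp e h hI he hpar hP hn hK
    have h' : step1 T (search1 K rows) (2 * j) r sp e = true := h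
    unfold step1 at h'
    simp only [force_eq] at h'
    rw [show Nat.add (2 * j) 2 = 2 * (j + 1) from by show 2 * j + 2 = _; ring,
      show Nat.add e (Nat.shiftLeft 1 (2 * j)) = e + 2 ^ (2 * j) from by
        show e + 1 <<< (2 * j) = _
        rw [Nat.one_shiftLeft], band'_eq, Bool.and_eq_true] at h'
    simp only [List.length_cons, nrm] at hn
    have hnn := nrm_nonneg x rows.length (j + 1)
    obtain ⟨hP1, hP2, hP3⟩ := hP
    have hf : (2 : ℤ) ∣ (fld T (2 * j) : ℤ) := hP2 j (Nat.lt_succ_self j)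
    have hd : (4 : ℤ) ∣ (sdot T sp : ℤ) + x j * (fld T (2 * j) : ℤ) := by
      rw [tsum_succ] at hP1
      obtain ⟨u, hu⟩ := hP1
      obtain ⟨v, hv⟩ := hI T (fun i hi => hP2 i (Nat.lt_succ_of_lt hi))
      exact ⟨u - v, by linear_combination hu - hv⟩
    have hK' : ∀ e', K e' = true →
        (∀ i < j + 1 + rows.length, (2 : ℤ) ∣ x i - (pbit e' (2 * i) : ℤ)) → False := by
      intro e' h1 h2
      refine hK e' h1 (fun i hi => h2 i ?_)
      simp only [List.length_cons] at hi
      omega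
    have hpow : (2 : ℕ) ^ (2 * (j + 1)) = 4 * 2 ^ (2 * j) := by
      rw [show 2 * (j + 1) = 2 * j + 2 by ring, pow_add]; ring
    rcases Int.even_or_odd' (x j) with ⟨m, hm | hm⟩
    · -- even
      obtain ⟨g, hg⟩ := hf
      have h2 : (sdot T sp + 0 * fld T (2 * j)) % 4 = 0 := by
        have : (4 : ℤ) ∣ ((sdot T sp + 0 * fld T (2 * j) : ℕ) : ℤ) := by
          push_cast
          obtain ⟨u, hu⟩ := hd
          rw [hm, hg] at hu
          rw [hg]
          exact ⟨u - m * g, by linear_combination hu⟩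
        have h4 : 4 ∣ sdot T sp + 0 * fld T (2 * j) := by exact_mod_cast this
        exact Nat.mod_eq_zero_of_dvd h4
      have h3 := br_true h'.1 (Nat.zero_le r) h2
      refine ih (j + 1) (r - 0) sp e h3 ?_ (by rw [hpow]; omega) ?_ hP3 ?_ hK'
      · intro T' hT'
        rw [tsum_succ]
        obtain ⟨u, hu⟩ := hI T' (fun i hi => hT' i (Nat.lt_succ_of_lt hi))
        obtain ⟨g', hg'⟩ := hT' j (Nat.lt_succ_self j)
        refine ⟨u + m * g', ?_⟩
        rw [hm, hg']
        linear_combination hu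
      · intro i hi
        rcases Nat.lt_succ_iff_lt_or_eq.mp hi with h5 | rfl
        · exact hpar i h5
        · rw [pbit_of_lt he, hm]; exact ⟨m, by push_cast; ring⟩
      · have : (0 : ℤ) ≤ x j ^ 2 := sq_nonneg _
        simp only [Nat.sub_zero]
        linarith
    · -- odd
      obtain ⟨g, hg⟩ := hf
      have hsq : (1 : ℤ) ≤ x j ^ 2 := by
        have h0 : x j ≠ 0 := by rw [hm]; omega
        have hpos : 0 < x j ^ 2 := by positivity
        linarith
      have h1 : 1 ≤ r := by
        have : (1 : ℤ) ≤ r := by linarith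
        exact_mod_cast this
      have h2 : (sdot T sp + 1 * fld T (2 * j)) % 4 = 0 := by
        have : (4 : ℤ) ∣ ((sdot T sp + 1 * fld T (2 * j) : ℕ) : ℤ) := by
          push_cast
          obtain ⟨u, hu⟩ := hd
          rw [hm, hg] at hu
          rw [hg]
          exact ⟨u - m * g, by linear_combination hu⟩
        have h4 : 4 ∣ sdot T sp + 1 * fld T (2 * j) := by exact_mod_cast this
        exact Nat.mod_eq_zero_of_dvd h4
      have h3 := br_true h'.2 h1 h2
      refine ih (j + 1) (r - 1) ((2 * j, 1) :: sp) (e + 2 ^ (2 * j)) h3 ?_ (by rw [hpow]; omega) ?_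
        hP3 ?_ hK'
      · intro T' hT'
        rw [tsum_succ, sdot_cons]
        obtain ⟨u, hu⟩ := hI T' (fun i hi => hT' i (Nat.lt_succ_of_lt hi))
        obtain ⟨g', hg'⟩ := hT' j (Nat.lt_succ_self j)
        refine ⟨u + m * g', ?_⟩
        push_cast
        rw [hm, hg']
        linear_combination hu
      · intro i hi
        rcases Nat.lt_succ_iff_lt_or_eq.mp hi with h5 | rfl
        · rw [pbit_add_low e (by omega : 2 * i < 2 * j)]; exact hpar i h5
        · rw [pbit_add_top he, hm]; exact ⟨m, by push_cast; ring⟩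
      · rw [Nat.cast_sub h1]
        push_cast
        linarith

/-- the combined search -/
noncomputable def searchAll (rows1 rows2 : List ℕ) : Bool :=
  search1 (fun e => search2 e rows2 0 8 []) rows1 0 8 [] 0

theorem searchAll_sound (x : ℕ → ℤ) (rows1 rows2 : List ℕ) (h : searchAll rows1 rows2 = true)
    (hlen : rows2.length = rows1.length) (h1 : Pass1 x rows1 0) (h2 : Pass2 x rows2 0)
    (hn : nrm x rows1.length 0 = 8) : False := by
  refine search1_sound x _ rows1 0 8 [] 0 h ?_ (by norm_num) (by simp) h1 (by rw [hn]; norm_num) ?_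
  · intro T _
    simp [tsum, sdot]
  · intro e he hpar
    refine search2_sound x e rows2 0 8 [] he (le_refl _) ?_ h2 (by rw [hlen]; exact hpar)
      (by rw [hlen, hn]; norm_num)
    intro T
    simp [tsum, sdot]

theorem pass2_of (x : ℕ → ℤ) : ∀ (rows : List ℕ) (j : ℕ),
    (∀ k, k < rows.length → (4 : ℤ) ∣ tsum x (rows.getD k 0) (j + k + 1)) → Pass2 x rows j
  | [], _, _ => trivial
  | T :: rows, j, h => by
    refine ⟨by simpa using h 0 (by simp), pass2_of x rows (j + 1) (fun k hk => ?_)⟩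
    have := h (k + 1) (by simpa using hk)
    rw [List.getD_cons_succ] at this
    rwa [show j + 1 + k + 1 = j + (k + 1) + 1 by ring]

theorem pass1_of (x : ℕ → ℤ) : ∀ (rows : List ℕ) (j : ℕ),
    (∀ k, k < rows.length → ((4 : ℤ) ∣ tsum x (rows.getD k 0) (j + k + 1)) ∧
      ∀ i < j + k + 1, (2 : ℤ) ∣ (fld (rows.getD k 0) (2 * i) : ℤ)) → Pass1 x rows j
  | [], _, _ => trivial
  | T :: rows, j, h => by
    have h0 := h 0 (by simp)
    refine ⟨by simpa using h0.1, by simpa using h0.2, pass1_of x rows (j + 1) (fun k hk => ?_)⟩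
    have := h (k + 1) (by simpa using hk)
    rw [List.getD_cons_succ] at this
    rwa [show j + 1 + k + 1 = j + (k + 1) + 1 by ring]

end Cfsg.Agent.Lib.Helper27.RuL
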