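import Cfsg.Prelude.Def_Spor_Ru
import Cfsg.Agent.Lib.Helper27.RuLSearch
import Cfsg.Agent.Lib.Helper27.RuLData

/-!
# The Rudvalis lattice: a basis, the real form, and divisibility (helper27)
-/

set_option autoImplicit false

namespace Cfsg.Agent.Lib.Helper27.RuL

open Cfsg.Spor

/-- a vector from a list of 28 pairs -/
def ofL (l : List (ℤ × ℤ)) : RuVec := fun p =>
  ⟨(l.getD (4 * p.1.val + p.2.val) (0, 0)).1, (l.getD (4 * p.1.val + p.2.val) (0, 0)).2⟩

/-- the basis vectors -/
def bas (k : ℕ) : RuVec := ofL (basL.getD k [])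

/-- Gaussian combinations of the basis vectors -/
def comb : List (ℕ × ℤ × ℤ) → RuVec
  | [] => 0
  | c :: cs => (⟨c.2.1, c.2.2⟩ : GaussianInt) • bas c.1 + comb cs

/-- the lattice spanned by the basis -/
def L : AddSubgroup RuVec := AddSubgroup.closure {v | ∃ k < 28, v = bas k ∨ v = gI • bas k}

theorem gI_gI (v : RuVec) : gI • gI • v = -v := by
  rw [smul_smul]
  have : gI * gI = -1 := by decide
  rw [this, neg_one_smul]

theorem bas_mem {k : ℕ} (hk : k < 28) : bas k ∈ L := AddSubgroup.subset_closure ⟨k, hk, Or.inl rfl⟩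
theorem ibas_mem {k : ℕ} (hk : k < 28) : gI • bas k ∈ L :=
  AddSubgroup.subset_closure ⟨k, hk, Or.inr rfl⟩

theorem bas_big {k : ℕ} (hk : 28 ≤ k) : bas k = 0 := by
  unfold bas
  rw [List.getD_eq_default _ _ (by exact hk)]
  rfl

theorem bas_mem' (k : ℕ) : bas k ∈ L := by
  rcases Nat.lt_or_ge k 28 with h | h
  · exact bas_mem h
  · rw [bas_big h]; exact L.zero_mem

theorem gI_mem {v : RuVec} (hv : v ∈ L) : gI • v ∈ L := by
  induction hv using AddSubgroup.closure_induction with
  | mem x hx =>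
    obtain ⟨k, hk, rfl | rfl⟩ := hx
    · exact ibas_mem hk
    · rw [gI_gI]; exact L.neg_mem (bas_mem hk)
  | zero => rw [smul_zero]; exact L.zero_mem
  | add x y _ _ hx hy => rw [smul_add]; exact L.add_mem hx hy
  | neg x _ hx => rw [smul_neg]; exact L.neg_mem hx

theorem gsmul_mem (c : GaussianInt) {v : RuVec} (hv : v ∈ L) : c • v ∈ L := by
  have : c • v = c.re • v + c.im • (gI • v) := by
    funext p
    simp only [Pi.smul_apply, Pi.add_apply, smul_eq_mul, zsmul_eq_mul]
    apply Zsqrtd.ext <;> simp [gI] <;> ring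
  rw [this]
  exact L.add_mem (L.zsmul_mem hv _) (L.zsmul_mem (gI_mem hv) _)

theorem comb_mem : ∀ cs : List (ℕ × ℤ × ℤ), comb cs ∈ L
  | [] => L.zero_mem
  | c :: cs => L.add_mem (gsmul_mem _ (bas_mem' c.1)) (comb_mem cs)

theorem closed_of (f : RuVec → RuVec) (hadd : ∀ v w, f (v + w) = f v + f w)
    (hI : ∀ v, f (gI • v) = gI • f v) (hB : ∀ k < 28, f (bas k) ∈ L) : ∀ v ∈ L, f v ∈ L := by
  have h0 : f 0 = 0 := by
    have := hadd 0 0
    rw [add_zero] at this
    exact (add_eq_left.mp this.symm)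
  have hneg : ∀ v, f (-v) = -f v := by
    intro v
    have := hadd v (-v)
    rw [add_neg_cancel, h0] at this
    exact (neg_eq_of_add_eq_zero_right this.symm).symm
  intro v hv
  induction hv using AddSubgroup.closure_induction with
  | mem x hx =>
    obtain ⟨k, hk, rfl | rfl⟩ := hx
    · exact hB k hk
    · rw [hI]; exact gI_mem (hB k hk)
  | zero => rw [h0]; exact L.zero_mem
  | add x y _ _ hx hy => rw [hadd]; exact L.add_mem hx hy
  | neg x _ hx => rw [hneg]; exact L.neg_mem hx

theorem rj_add (v w : RuVec) : ruRj (v + w) = ruRj v + ruRj w := by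
  funext ⟨n, t⟩
  fin_cases t <;> simp [ruRj, mul_add] <;> ring
theorem rk_add (v w : RuVec) : ruRk (v + w) = ruRk v + ruRk w := by
  funext ⟨n, t⟩
  fin_cases t <;> simp [ruRk, mul_add] <;> ring
theorem sg_add (v w : RuVec) : ruSign (v + w) = ruSign v + ruSign w := by
  funext p
  simp only [ruSign, Pi.add_apply]
  split_ifs <;> ring
theorem sh_add (v w : RuVec) : ruShift (v + w) = ruShift v + ruShift w := rfl
theorem rj_I (v : RuVec) : ruRj (gI • v) = gI • ruRj v := by
  funext ⟨n, t⟩
  fin_cases t <;> simp [ruRj]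
theorem rk_I (v : RuVec) : ruRk (gI • v) = gI • ruRk v := by
  funext ⟨n, t⟩
  fin_cases t <;> simp [ruRk]
theorem sg_I (v : RuVec) : ruSign (gI • v) = gI • ruSign v := by
  funext p
  simp only [ruSign, Pi.smul_apply]
  split_ifs <;> simp
theorem sh_I (v : RuVec) : ruShift (gI • v) = gI • ruShift v := rfl

/-! ### real coordinates -/

/-- the index of the `m`-th Gaussian coordinate -/
def idx (m : ℕ) : RuIdx := (Fin.ofNat 7 (m / 4), Fin.ofNat 4 m)

/-- real coordinates -/
def xr (v : RuVec) (i : ℕ) : ℤ := if i % 2 = 0 then (v (idx (i / 2))).re else (v (idx (i / 2))).im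

/-- the real form -/
def R (v w : RuVec) : ℤ := ∑ i ∈ Finset.range 56, xr v i * xr w i

theorem xr_add (v w : RuVec) (i : ℕ) : xr (v + w) i = xr v i + xr w i := by
  unfold xr; split_ifs <;> simp
theorem xr_neg (v : RuVec) (i : ℕ) : xr (-v) i = -xr v i := by
  unfold xr; split_ifs <;> simp
theorem xr_zero (i : ℕ) : xr 0 i = 0 := by
  unfold xr; split_ifs <;> simp

theorem R_add_left (u v w : RuVec) : R (u + v) w = R u w + R v w := by
  simp only [R, xr_add, add_mul, Finset.sum_add_distrib]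
theorem R_add_right (u v w : RuVec) : R u (v + w) = R u v + R u w := by
  simp only [R, xr_add, mul_add, Finset.sum_add_distrib]
theorem R_neg_left (v w : RuVec) : R (-v) w = -R v w := by
  simp only [R, xr_neg, neg_mul, Finset.sum_neg_distrib]
theorem R_neg_right (v w : RuVec) : R v (-w) = -R v w := by
  simp only [R, xr_neg, mul_neg, Finset.sum_neg_distrib]
theorem R_zero_left (w : RuVec) : R 0 w = 0 := by simp [R, xr_zero]
theorem R_zero_right (w : RuVec) : R w 0 = 0 := by simp [R, xr_zero]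

theorem sum_idx (h : RuIdx → ℤ) : ∑ p, h p = ∑ m ∈ Finset.range 28, h (idx m) := by
  have e : ∀ m : Fin 28, finProdFinEquiv.symm m = idx m := by decide
  calc ∑ p, h p = ∑ m : Fin 28, h (finProdFinEquiv.symm m) :=
        (Equiv.sum_comp (finProdFinEquiv (m := 7) (n := 4)).symm h).symm
    _ = ∑ m : Fin 28, h (idx m) := by simp only [e]
    _ = ∑ m ∈ Finset.range 28, h (idx m) := Fin.sum_univ_eq_sum_range (fun m => h (idx m)) 28

theorem sum_double (C : ℕ → ℤ) : ∀ n : ℕ,
    ∑ i ∈ Finset.range (2 * n), C i = ∑ m ∈ Finset.range n, (C (2 * m) + C (2 * m + 1))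
  | 0 => by simp
  | n + 1 => by
    rw [show 2 * (n + 1) = 2 * n + 1 + 1 by ring, Finset.sum_range_succ, Finset.sum_range_succ,
      Finset.sum_range_succ, sum_double C n]
    ring

theorem xr_even (v : RuVec) (m : ℕ) : xr v (2 * m) = (v (idx m)).re := by
  unfold xr
  rw [if_pos (by omega), show 2 * m / 2 = m by omega]
theorem xr_odd (v : RuVec) (m : ℕ) : xr v (2 * m + 1) = (v (idx m)).im := by
  unfold xr
  rw [if_neg (by omega), show (2 * m + 1) / 2 = m by omega]

theorem ruNorm_eq (v : RuVec) : ruNorm v = R v v := by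
  unfold ruNorm R
  rw [sum_idx, show 56 = 2 * 28 from rfl, sum_double]
  apply Finset.sum_congr rfl
  intro m _
  rw [xr_even, xr_odd, Zsqrtd.norm_def]
  ring

end Cfsg.Agent.Lib.Helper27.RuL
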