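import Cfsg.Agent.Lib.Helper27.RuPData

set_option autoImplicit false
set_option maxRecDepth 100000

namespace Cfsg.Agent.Lib.Helper27.RuPLk1

open Cfsg.Agent.Lib.Helper28 Cfsg.Agent.Lib.Helper27.PC

noncomputable def tabC0 : Tr := .leaf 0x4e0
noncomputable def auxC0 : Tr := .leaf 0x180
noncomputable def tabC1 : Tr := .leaf 0x462
noncomputable def auxC1 : Tr := .leaf 0x222
noncomputable def tabC2 : Tr := .leaf 0x890
noncomputable def auxC2 : Tr := .leaf 0x1281
noncomputable def tabC3 : Tr := .leaf 0x8d0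
noncomputable def auxC3 : Tr := .leaf 0x1301
noncomputable def tabC4 : Tr := .leaf 0x890
noncomputable def auxC4 : Tr := .leaf 0x1381
noncomputable def tabC5 : Tr := .leaf 0x8d0
noncomputable def auxC5 : Tr := .leaf 0x1401
noncomputable def tabC6 : Tr := .leaf 0x950
noncomputable def auxC6 : Tr := .leaf 0x1481
noncomputable def tabC7 : Tr := .leaf 0x910
noncomputable def auxC7 : Tr := .leaf 0x1501
noncomputable def tabC8 : Tr := .leaf 0x950
noncomputable def auxC8 : Tr := .leaf 0x1581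
noncomputable def tabC9 : Tr := .leaf 0x910
noncomputable def auxC9 : Tr := .leaf 0x1601
noncomputable def tabC10 : Tr := .leaf 0x9d0
noncomputable def auxC10 : Tr := .leaf 0x1681
noncomputable def tabC11 : Tr := .leaf 0x990
noncomputable def auxC11 : Tr := .leaf 0x1701
noncomputable def tabC12 : Tr := .leaf 0xa10
noncomputable def auxC12 : Tr := .leaf 0x1781
noncomputable def tabC13 : Tr := .leaf 0
noncomputable def auxC13 : Tr := .leaf 0
noncomputable def dC : Tr := .leaf 0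
noncomputable def tabCols : List Tr := [tabC0, tabC1, tabC2, tabC3, tabC4, tabC5, tabC6, tabC7, tabC8, tabC9, tabC10, tabC11, tabC12, tabC13]
noncomputable def auxCols : List Tr := [auxC0, auxC1, auxC2, auxC3, auxC4, auxC5, auxC6, auxC7, auxC8, auxC9, auxC10, auxC11, auxC12, auxC13]
def pairsC : List ((List ℕ × ℕ × List ℕ) × ℕ) := [
  (([1, 8, 4, 9, 2, 11, 9, 6, 6, 12], 1, []), 4098),
  (([1], 0, []), 8192),
  (([0], 1, []), 7168),
  (([1, 8, 10, 6, 3, 6, 8, 7, 12, 10, 0], 2, []), 5124),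
  (([2], 3, []), 9216),
  (([1, 10, 10, 8, 5, 12, 6, 10, 7, 12, 10, 10, 0], 4, []), 6148),
  (([4], 5, []), 11264),
  (([7], 6, []), 14336),
  (([3, 3, 4, 4, 3, 5, 5], 7, []), 2),
  (([9], 8, []), 16384),
  (([4, 2, 5, 3, 5, 2], 9, []), 1026),
  (([11], 10, []), 18432),
  (([2, 9, 4, 4, 6, 9, 5, 6, 8, 6, 8, 7], 11, []), 3072),
  (([11, 11, 2, 7, 2, 11, 6, 10, 5, 6, 8, 10, 8], 12, []), 2072)]
def subL : List ℕ := [2, 3, 4, 5, 6, 7, 8, 9, 10, 11, 12]
noncomputable def D : UB where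
  tab := field tabCols 6 63 6 63
  aux := field auxCols 6 63 7 127
  dinfo := field [dC] 6 63 8 255 0
  rb := 4
  RM := 15
  pb := 5
  PM := 31
  m := 2
  K := 13
  Kall := 14
  pairs := pairsC.map Prod.fst
  isSub := fun x => subL.contains x
  fuel := 4
def ren : ℕ → ℕ
  | 0 => 4
  | 1 => 5
  | 2 => 6
  | 3 => 7
  | 4 => 8
  | 5 => 9
  | 6 => 10
  | 7 => 11
  | 8 => 12
  | 9 => 13
  | 10 => 14
  | 11 => 15
  | 12 => 16
  | x => 0
def linv : ℕ → ℕ
  | 0 => 1
  | 1 => 0
  | 2 => 3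
  | 3 => 2
  | 4 => 5
  | 5 => 4
  | 6 => 7
  | 7 => 6
  | 8 => 9
  | 9 => 8
  | 10 => 11
  | 11 => 10
  | 12 => 12
  | x => x
def relsL : List (List ℕ) := [
  [7, 3, 3, 4, 4, 3, 5, 5],
  [9, 4, 2, 5, 3, 5, 2],
  [2, 7, 2, 11, 6, 10, 5, 6, 8, 10, 8, 12, 11, 11],
  [2, 9, 4, 4, 6, 9, 5, 6, 8, 6, 8, 7, 11],
  [1, 1, 8, 4, 9, 2, 11, 9, 6, 6, 12],
  [0, 2, 1, 8, 10, 6, 3, 6, 8, 7, 12, 10],
  [0, 4, 1, 10, 10, 8, 5, 12, 6, 10, 7, 12, 10, 10]]
noncomputable def Lk : Link where
  D := D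
  ren := ren
  inv := linv
  rels := relsL
  pairsC := pairsC
  subL := subL
  n := 2
theorem chk_0 : allRange D.checkLabel 0 2 = true := by decide +kernel
theorem check_all : ∀ c < D.m, D.checkLabel c = true := by
  intro c hc
  have hc' : c < 2 := hc
  by_cases h0 : c < 2
  · exact allRange_iff.mp chk_0 c (by omega) (by omega)
  omega
theorem pairs_ok : pairsC.all (pairOK (relsAll relsL linv 14) linv 13 14) = true := by decide +kernel
theorem relsK_ok : ∀ r ∈ relsAll relsL linv 14, ∀ y ∈ r, y < 14 := by decide +kernel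
theorem fin_all : allBelow D.finalLabel 2 = true := by decide +kernel
theorem live_count : D.liveCount = 2 := by decide +kernel
theorem h0_ok : D.tg D.K 0 = 0 := by decide +kernel
theorem ok : Lk.OK Cfsg.Agent.Lib.Helper27.RuP.W Cfsg.Agent.Lib.Helper27.RuP.L.inv Cfsg.Agent.Lib.Helper27.RuP.L.K [4, 5, 6, 7, 8, 9, 10, 11, 12, 13, 14, 15, 16] [6, 7, 8, 9, 10, 11, 12, 13, 14, 15, 16] where
  Kall := rfl
  invK := by decide +kernel
  invE := rfl
  relsIn := by decide +kernel
  Dpairs := rfl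
  pairs := pairs_ok
  relsK := relsK_ok
  isSub := by
    intro x hx
    have hx' : subL.contains x = true := hx
    show x ∈ subL
    simpa using hx'
  sub := by decide +kernel
  check := check_all
  gens := by decide +kernel
  hm := by decide
  h0 := h0_ok
  fin := allBelow_iff.mp fin_all
  count := live_count

end Cfsg.Agent.Lib.Helper27.RuPLk1
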