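import Cfsg.Agent.Lib.Helper27.FlagStab
import Cfsg.Agent.Lib.Helper92.GolayCount

/-!
# Boolean tests on masks and their meaning after moving a configuration to standard position;
counting codewords satisfying a test.
-/

set_option autoImplicit false

namespace Cfsg.Agent.Lib.Helper27

open Cfsg
open scoped Pointwise
open Cfsg.Agent.Lib.Helper92 (countBelow ncard_codeSet)

/-- raw test of bit `i`. -/
def tb (m i : ℕ) : Bool := Nat.beq (Nat.land (Nat.shiftRight m i) 1) 1

theorem tb_eq (m i : ℕ) : tb m i = m.testBit i := by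
  have h : tb m i = Nat.beq ((m >>> i) &&& 1) 1 := rfl
  rw [h, shiftRight_and_one]
  cases m.testBit i <;> rfl

/-- Boolean negation by a bare recursor. -/
def bnot (x : Bool) : Bool := Bool.rec true false x

@[simp] theorem bnot_eq (x : Bool) : bnot x = !x := by cases x <;> rfl

theorem pc_mask_smul (t : Equiv.Perm GolayPt) (s : Finset GolayPt) : pc (mask (t • s)) = s.card := by
  rw [← card_eq_pc, Finset.card_smul_finset]

theorem smul_mem_smul_iff (t : Equiv.Perm GolayPt) (s : Finset GolayPt) (x : GolayPt) :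
    t x ∈ t • s ↔ x ∈ s := by
  show t • x ∈ t • s ↔ x ∈ s
  exact Finset.smul_mem_smul_finset_iff t

theorem tb_mask_smul {t : Equiv.Perm GolayPt} {x : GolayPt} {b : ℕ} (hb : b < 24) (e : t x = pt b)
    (s : Finset GolayPt) : tb (mask (t • s)) b = true ↔ x ∈ s := by
  rw [tb_eq, ← idx_pt hb, ← mem_iff_testBit, ← e, smul_mem_smul_iff]

theorem bnot_tb_mask_smul {t : Equiv.Perm GolayPt} {x : GolayPt} {b : ℕ} (hb : b < 24)
    (e : t x = pt b) (s : Finset GolayPt) : bnot (tb (mask (t • s)) b) = true ↔ x ∉ s := by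
  rw [← tb_mask_smul hb e s, bnot_eq]
  cases tb (mask (t • s)) b <;> simp

theorem pc_land_mask_smul {t : Equiv.Perm GolayPt} {o : Finset GolayPt} {O : ℕ} (hO : O < 2 ^ 24)
    (e : t • o = unmask O) (s : Finset GolayPt) :
    pc (Nat.land O (mask (t • s))) = (o ∩ s).card := by
  show pc (O &&& mask (t • s)) = _
  rw [← mask_unmask hO, ← e, ← mask_inter, ← Finset.smul_finset_inter, pc_mask_smul]

theorem smul_mem_supports_iff {t : Equiv.Perm GolayPt} (ht : t ∈ M24) (s : Finset GolayPt) :
    t • s ∈ supports (golayCode : Set (GolayPt → ZMod 2)) ↔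
      s ∈ supports (golayCode : Set (GolayPt → ZMod 2)) := by
  constructor
  · intro h
    have := smul_mem_supports (M24.inv_mem ht) h
    rwa [inv_smul_smul] at this
  · exact smul_mem_supports ht

/-- counting a set of codeword supports described, after moving by `t ∈ M24`, by a Boolean test. -/
theorem ncard_eq_count {t : Equiv.Perm GolayPt} (ht : t ∈ M24) (S : Set (Finset GolayPt))
    (f : ℕ → Bool)
    (h : ∀ s, s ∈ S ↔ (s ∈ supports (golayCode : Set (GolayPt → ZMod 2)) ∧ f (mask (t • s)) = true)) :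
    S.ncard = countBelow (fun k => f (enc k)) 4096 := by
  rw [← ncard_codeSet f]
  have : {s : Finset GolayPt | s ∈ supports (golayCode : Set (GolayPt → ZMod 2)) ∧ f (mask s) = true}
      = (fun s => t • s) '' S := by
    ext s
    simp only [Set.mem_ofPred_eq, Set.mem_image]
    constructor
    · rintro ⟨h1, h2⟩
      refine ⟨t⁻¹ • s, (h _).2 ⟨smul_mem_supports (M24.inv_mem ht) h1, ?_⟩, smul_inv_smul t s⟩
      rw [smul_inv_smul]; exact h2
    · rintro ⟨s', hs', rfl⟩
      obtain ⟨h1, h2⟩ := (h s').1 hs'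
      exact ⟨smul_mem_supports ht h1, h2⟩
  rw [this, Set.ncard_image_of_injective _ (MulAction.injective t)]

end Cfsg.Agent.Lib.Helper27
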