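import Cfsg.Agent.Lib.Helper27.OctadPointwise
import Cfsg.Prelude.Def_SporadicCombinatorics

/-!
# The fifteen trios through an octad
-/

set_option autoImplicit false

namespace Cfsg.Agent.Lib.Helper27

open Cfsg
open scoped Pointwise

theorem card_golayPt24 : Fintype.card GolayPt = 24 := by decide

/-! ### basic facts on trios -/

theorem trio_compl {T : Finset (Finset GolayPt)} (hT : T ∈ trios) {a b v : Finset GolayPt}
    (ha : a ∈ T) (hb : b ∈ T) (hab : a ≠ b) (hv : v ∈ T) (hva : v ≠ a) (hvb : v ≠ b) :
    v = (a ∪ b)ᶜ := by
  apply Finset.eq_of_subset_of_card_le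
  · intro q hq
    rw [Finset.mem_compl, Finset.mem_union]
    rintro (h | h)
    · exact Finset.disjoint_left.1 (hT.2.2 v hv a ha hva) hq h
    · exact Finset.disjoint_left.1 (hT.2.2 v hv b hb hvb) hq h
  · rw [Finset.card_compl, card_golayPt24, Finset.card_union_of_disjoint (hT.2.2 a ha b hb hab),
      (hT.2.1 a ha).2, (hT.2.1 b hb).2, (hT.2.1 v hv).2]

theorem trio_exists_third {T : Finset (Finset GolayPt)} (hT : T ∈ trios) (a b : Finset GolayPt) :
    ∃ c ∈ T, c ≠ a ∧ c ≠ b := by
  by_contra hcon
  push Not at hcon
  have hsub : T ⊆ {a, b} := by
    intro c hc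
    rw [Finset.mem_insert, Finset.mem_singleton]
    by_cases hca : c = a
    · exact Or.inl hca
    · exact Or.inr (hcon c hc hca)
  have := Finset.card_le_card hsub
  rw [hT.1] at this
  have h2 : ({a, b} : Finset (Finset GolayPt)).card ≤ 2 := Finset.card_le_two
  omega

theorem trio_compl_mem {T : Finset (Finset GolayPt)} (hT : T ∈ trios) {a b : Finset GolayPt}
    (ha : a ∈ T) (hb : b ∈ T) (hab : a ≠ b) : (a ∪ b)ᶜ ∈ T := by
  obtain ⟨c, hc, hca, hcb⟩ := trio_exists_third hT a b
  rw [← trio_compl hT ha hb hab hc hca hcb]; exact hc

theorem trio_mem_cases {T : Finset (Finset GolayPt)} (hT : T ∈ trios) {a b v : Finset GolayPt}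
    (ha : a ∈ T) (hb : b ∈ T) (hab : a ≠ b) (hv : v ∈ T) : v = a ∨ v = b ∨ v = (a ∪ b)ᶜ := by
  by_cases hva : v = a
  · exact Or.inl hva
  by_cases hvb : v = b
  · exact Or.inr (Or.inl hvb)
  exact Or.inr (Or.inr (trio_compl hT ha hb hab hv hva hvb))

/-- a trio is determined by two of its members. -/
theorem trio_eq_of_two {T T' : Finset (Finset GolayPt)} (hT : T ∈ trios) (hT' : T' ∈ trios)
    {a b : Finset GolayPt} (ha : a ∈ T) (hb : b ∈ T) (ha' : a ∈ T') (hb' : b ∈ T') (hab : a ≠ b) :
    T = T' := by
  apply Finset.eq_of_subset_of_card_le _ (by rw [hT.1, hT'.1])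
  intro u hu
  rcases trio_mem_cases hT ha hb hab hu with rfl | rfl | rfl
  · exact ha'
  · exact hb'
  · exact trio_compl_mem hT' ha' hb' hab

theorem smul_mem_trios27 {g : Equiv.Perm GolayPt} (hg : g ∈ M24) {T : Finset (Finset GolayPt)}
    (hT : T ∈ trios) : g • T ∈ trios := by
  refine ⟨by rw [Finset.card_smul_finset]; exact hT.1, ?_, ?_⟩
  · intro t ht
    obtain ⟨s, hs, rfl⟩ := Finset.mem_smul_finset.1 ht
    exact smul_mem_octads hg (hT.2.1 s hs)
  · intro t ht u hu htu
    obtain ⟨s, hs, rfl⟩ := Finset.mem_smul_finset.1 ht
    obtain ⟨s', hs', rfl⟩ := Finset.mem_smul_finset.1 hu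
    rw [Finset.disjoint_iff_inter_eq_empty, ← Finset.smul_finset_inter,
      Finset.disjoint_iff_inter_eq_empty.1 (hT.2.2 s hs s' hs' (fun h => htu (by rw [h]))),
      Finset.smul_finset_empty]

theorem octad_nonempty {o : Finset GolayPt} (ho : o ∈ octads) : o.Nonempty := by
  rw [← Finset.card_pos, ho.2]; norm_num

theorem ne_of_disjoint_octads {o a : Finset GolayPt} (ho : o ∈ octads) (hd : Disjoint o a) :
    o ≠ a := by
  rintro rfl
  exact (octad_nonempty ho).ne_empty (Finset.disjoint_self_iff_empty _ |>.1 hd)

theorem compl_union_mem_octads {o a : Finset GolayPt} (ho : o ∈ octads) (ha : a ∈ octads)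
    (hd : Disjoint o a) : (o ∪ a)ᶜ ∈ octads := by
  have h1 := (mem_octads_iff o).1 ho
  have h2 := (mem_octads_iff a).1 ha
  rw [mem_octads_iff]
  constructor
  · have e : o ∪ a = symmDiff o a := (Disjoint.symmDiff_eq_sup hd).symm
    rw [mask_compl, e, mask_symmDiff]
    exact isCode_xor (isCode_xor h1.1 h2.1) (by decide +kernel)
  · rw [← card_eq_pc, Finset.card_compl, card_golayPt24, Finset.card_union_of_disjoint hd,
      ho.2, ha.2]

theorem mk_trio {o a : Finset GolayPt} (ho : o ∈ octads) (ha : a ∈ octads) (hd : Disjoint o a) :
    ({o, a, (o ∪ a)ᶜ} : Finset (Finset GolayPt)) ∈ trios := by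
  have hc := compl_union_mem_octads ho ha hd
  have d1 : Disjoint o (o ∪ a)ᶜ := by
    rw [Finset.disjoint_left]; intro q hq h
    exact (Finset.mem_compl.1 h) (Finset.mem_union_left _ hq)
  have d2 : Disjoint a (o ∪ a)ᶜ := by
    rw [Finset.disjoint_left]; intro q hq h
    exact (Finset.mem_compl.1 h) (Finset.mem_union_right _ hq)
  have n0 := ne_of_disjoint_octads ho hd
  have n1 := ne_of_disjoint_octads ho d1
  have n2 := ne_of_disjoint_octads ha d2
  refine ⟨?_, ?_, ?_⟩
  · rw [Finset.card_insert_of_notMem (by
        rw [Finset.mem_insert, Finset.mem_singleton]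
        rintro (h | h)
        · exact n0 h
        · exact n1 h), Finset.card_insert_of_notMem (by
        rw [Finset.mem_singleton]; exact n2), Finset.card_singleton]
  · intro u hu
    simp only [Finset.mem_insert, Finset.mem_singleton] at hu
    rcases hu with rfl | rfl | rfl
    · exact ho
    · exact ha
    · exact hc
  · intro u hu v hv huv
    simp only [Finset.mem_insert, Finset.mem_singleton] at hu hv
    rcases hu with rfl | rfl | rfl <;> rcases hv with rfl | rfl | rfl
    · exact absurd rfl huv
    · exact hd
    · exact d1
    · exact hd.symm
    · exact absurd rfl huv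
    · exact d2
    · exact d1.symm
    · exact d2.symm
    · exact absurd rfl huv

/-! ### representatives -/

/-- the octads disjoint from `o` avoiding the point `x`: one in each trio through `o`. -/
def trioReps (o : Finset GolayPt) (x : GolayPt) : Set (Finset GolayPt) :=
  {a | a ∈ octads ∧ Disjoint o a ∧ x ∉ a}

def repTest (m : ℕ) : Bool := band (bnot (tb m 4)) (octTest 8536111 0 m)

theorem mem_trioReps_iff {o : Finset GolayPt} {x : GolayPt} {t : Equiv.Perm GolayPt}
    (h : Maps t [{x}, o] [2 ^ 4, 8536111]) (a : Finset GolayPt) :
    a ∈ trioReps o x ↔ (a ∈ supports (golayCode : Set (GolayPt → ZMod 2)) ∧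
      repTest (mask (t • a)) = true) := by
  simp only [maps_cons] at h
  obtain ⟨e1, e2, _⟩ := h
  have e1' := (smul_singleton_eq (by norm_num)).1 e1
  unfold repTest
  rw [band_eq, Bool.and_eq_true, bnot_tb_mask_smul (by norm_num) e1' a]
  simp only [octTest, band_eq, Bool.and_eq_true, Nat.beq_eq, pc_mask_smul,
    pc_land_mask_smul (by norm_num) e2, Finset.card_eq_zero, ← Finset.disjoint_iff_inter_eq_empty]
  unfold trioReps octads wordsOfWeight
  simp only [Set.mem_ofPred_eq]
  tauto

theorem ncard_trioReps {o : Finset GolayPt} (ho : o ∈ octads) {x : GolayPt} (hx : x ∉ o) :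
    (trioReps o x).ncard = 15 := by
  obtain ⟨t, ht, h⟩ := oflag_out ho hx
  rw [ncard_eq_count ht _ repTest (mem_trioReps_iff h)]
  decide +kernel

theorem exists_not_mem_octad {o : Finset GolayPt} (ho : o ∈ octads) : ∃ x, x ∉ o := by
  by_contra h
  push Not at h
  have h1 : o = Finset.univ := Finset.eq_univ_iff_forall.2 h
  have h2 := ho.2
  rw [h1, Finset.card_univ, card_golayPt24] at h2
  omega

theorem exists_rep {T : Finset (Finset GolayPt)} (hT : T ∈ trios) {o : Finset GolayPt} (ho : o ∈ T)
    {x : GolayPt} (hx : x ∉ o) : ∃ a ∈ T, a ∈ trioReps o x := by
  obtain ⟨a0, ha0, hne, _⟩ := trio_exists_third hT o o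
  have hd : Disjoint o a0 := hT.2.2 o ho a0 ha0 hne.symm
  by_cases hxa : x ∈ a0
  · refine ⟨(o ∪ a0)ᶜ, trio_compl_mem hT ho ha0 hne.symm,
      compl_union_mem_octads (hT.2.1 o ho) (hT.2.1 a0 ha0) hd, ?_, ?_⟩
    · rw [Finset.disjoint_left]; intro q hq h
      exact (Finset.mem_compl.1 h) (Finset.mem_union_left _ hq)
    · intro h
      exact (Finset.mem_compl.1 h) (Finset.mem_union_right _ hxa)
  · exact ⟨a0, ha0, hT.2.1 a0 ha0, hd, hxa⟩

theorem ncard_trios_through {o : Finset GolayPt} (ho : o ∈ octads) :
    {T : Finset (Finset GolayPt) | T ∈ trios ∧ o ∈ T}.ncard = 15 := by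
  obtain ⟨x, hx⟩ := exists_not_mem_octad ho
  rw [← ncard_trioReps ho hx]
  have e : {T : Finset (Finset GolayPt) | T ∈ trios ∧ o ∈ T} =
      (fun a => ({o, a, (o ∪ a)ᶜ} : Finset (Finset GolayPt))) '' trioReps o x := by
    ext T
    simp only [Set.mem_ofPred_eq, Set.mem_image]
    constructor
    · rintro ⟨hT, hoT⟩
      obtain ⟨a, haT, ha⟩ := exists_rep hT hoT hx
      refine ⟨a, ha, ?_⟩
      exact trio_eq_of_two (mk_trio ho ha.1 ha.2.1) hT (by simp) (by simp) hoT haT
        (ne_of_disjoint_octads ho ha.2.1)
    · rintro ⟨a, ha, rfl⟩
      exact ⟨mk_trio ho ha.1 ha.2.1, by simp⟩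
  rw [e, Set.InjOn.ncard_image]
  intro a ha a' ha' h
  have h0 : ({o, a, (o ∪ a)ᶜ} : Finset (Finset GolayPt)) = {o, a', (o ∪ a')ᶜ} := h
  have h1 : a ∈ ({o, a', (o ∪ a')ᶜ} : Finset (Finset GolayPt)) := by
    rw [← h0]; simp
  simp only [Finset.mem_insert, Finset.mem_singleton] at h1
  rcases h1 with h1 | h1 | h1
  · exact absurd h1.symm (ne_of_disjoint_octads ho ha.2.1)
  · exact h1
  · exfalso
    apply ha.2.2
    rw [h1, Finset.mem_compl, Finset.mem_union]
    rintro (h2 | h2)
    · exact hx h2
    · exact ha'.2.2 h2

/-! ### double transitivity -/

theorem orb_trio2 : ∀ m, isCode m = true → (fun m => band (bnot (tb m 4)) (band (octTest 8536111 0 m) (bnot (Nat.beq m 337856)))) m = true →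
    ∃ g ∈ fixer [337856, 2 ^ 4, 8536111], g • unmask m = unmask 1161408 :=
  code_descent (fun m => band (bnot (tb m 4)) (band (octTest 8536111 0 m) (bnot (Nat.beq m 337856)))) [337856, 2 ^ 4, 8536111]
    [103425535220950820799173516488826033, 607072418179026839068195478617757409, 103346978032744736663727715329279095, 70566797978375653248737025775426661]
    0xc0000000000000000000000000000000000000000000000000000000000000000000000000000000000000000000000000000000000000000000000000000000000000000000000000000000000000000000000000000000000000000000000000000000000000000000000000000000000000000000000000000000000000000000000000000000000000000000000000000000000000000000000000000000000000000000000000000000000000000000000000000000000000000000000000000000000000000000000000000000000000000000000000000000000000000000000000000000000000000000000000000000000000000000000000000000a000000000000000000000000000000000000000000000000000000000000000000000000000000000000000000000000000000000000000000000000000000000000000000000000000000000000000000000000000000000000000000000000000000000000000000000000000000000000000000000000000000000000000a0000000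0000000000000000000000000000000000000000000000000000000000000000000000000000000000000000000000000000000000000000000000000000000000000000000000000000000000000000000000000000000000000000000000000000000000000000000000000000000000000000000000000000000000000000000000000000000000000000000000000000000000000000000000000000000000000000000000000000000000000000000000000000000000000000000000000000000000000000000000000000000000000000000000000000000000000000000000000000000000000000000000000000000000000000000000006000000000000000000000000000000000000000000000000000000000000000000000000000000000000000000000000000000000000000000000000000000000000000000000000000000000000000000000000000000000000000000000000000000000000000000000000000000000000000000000000000000000000000000000000000000000000000000000000000000000000000000000000000000000000000000000000000000000000000000000000000000000000000000000000000000000000000000000000000000000000000000000000000000000000000000000000000000000000000000000000000000000000000000000000000000000000000000000000000000000000000000000000000000000000000000000000000000000000000000000000000000000000000000000000000000000000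00090000000000000000000000000000000000000000000000000000000000000000000000000000000000000000000000000000000000000000000000000000000000000000000000000000000000000000000000000000000000000000000000000000000000000000000000000000000000000000000000000000000000000000000000000000000000000000000000000000000000000000000000000000000000000000000000000000000000000000000000000000000000000000000000000000000000000000000000000000000000000000000000000000000000000000000000000000000000000000000000000000000000000000000000000000000b0000000000000000000000000000000000000000000000000000000000000000000000000000000000000000000000000000000000000000000000000000000000000000000000000000000000000000000000000000000000000000000000000000000000000000000000000000000000000000000000000000000000000007000000000000000000000000000000000000000000000000000000000000000000000000000000000000000000000000000000000000000000000000000000000000000000000000000000000000000000000000000000000000000000000000000000000000000000000000000000000000000000000000000000000000000000000000000000000000000000000000000000000000000000000000000000000000000000000000000000000000000000000000000000000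0000000000000000000000000000000000000000000000000000000000000000000000000000000000000000000000000000000000000000000000000000000000000000000000000000000000000000000000000000000000000000000000000000000000000000000000000000000000000000000000000000000000000000000000000000000000000000000000000000000000000000000000000000000000000000000000000000000000000000000000000000000000000000000000000000000000000000000000000000000000000000000000000000000000000000000000000000000000000000000000000000000000000000000000000000000000000000000000000000000000000000000000000000000000000000000000000000000000000000000000000000000000000000000000000000000000000000000000000000000000000000000000000000000000000000000000000000000000000000000000000000000000000000000000000000000000000000000000000000000000000000000000000000000000000000000000000000000000000000000000000000000000000000000000000000000000000000000000000000000000000000000000000000000000000000000000000000000000000000000000000000000000000000000000000000000000000000000000000000000000000000000000000000000000000000000000000000000000000000000000000000000000000000000000000000000000000000000000000000000000000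0000000000000000000000000a00000000000000000000000000000000000000000000000000000000000000000000000000000000000000000000000000000000000000000000000000000000000000000000000000000000000000000000000000000000000000000000000000000000000000000000000000000000000000000000000000000000000000000000000000000000000000000000000000000000000000000000000000000000000000000000000000000000000000000000000000000000000000000000000000000000000000000000000000000000000000000000000000000000000000000000000000000000000000000000000000000000000000000000000000000000000000000000000000000000000000000000000000000000000000000000000000000000000000000000000000000000000000000000000000000000000000000000000000000000000000000000000000000000000000000000000000000000000000000000000000000000000000000000000000000000000000000000000900000000000000000000000000000000000000000000000000000000000000000000000000000000000000000000000000000000000000000000000000000000000000000000000000000000000000000000000000000000000000000000000000000000000000000000000000000000000000000000000000000000000000000000000000000000000000000000000000000000000000000000000000000000000000000000000000000000000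00000000000000000000000000000000000000000000000000000000000000000000000000000000000000000000000000000000000000000000000000000000000000000000000000000000000000000000b0000000000000000000000000000000000000000000000000000000000000000000000000000000000000000000000000000000000000000000000000000000000000000000000000000000000000000000000000000000000000000000000000000000000000000000000000000000000000000000000000000000000000000000000000000000000000000000000000000000000000000000000000000000000000000000000000000000000000000000000000000000000000000000000040000000000000000000000000000000000000000000000000000000000000000000000000000000000000000000000000000000000000000000000000000000000000000000000000000000000000000000000000000000000000000000000000000000000000000000000000000000000000000000000000000000000000000000000000000000000000000000000000000000000000000000000000000000000000000000000000000000000000000000000000000000000000000000000000000000000000000000000000000000000000000000000000000000000000000000000000000000000000000000000000000000000000000000000000000000f00000000000000000000000000000000000000000000000000000000000000000000000000000000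000000000000000000000000000000000000000000000000000000000000000000000000000000000000000000000000000000000000000000000000000000000000000000000000000000000000000000000000000000000000000000000000000000000000000000000000000000000000000000000000000000000000000000000000000000000000000000000000000000000000000000000000000000000000000000000000000000000000000000000000000000000000000000000000000000000000000000000000000000000000000000000000000000000000000000000000000000000000000000000000000000000000000000000000000000000000000000000000000000000000000000000000000000000000000000000000000000000000000000000000000000000000000000000000000000000000000000000000000000000000000000000000000000000000000e00000000000000000000000000000000000000000000000000000000000000000000000000000000000000000000000000000000000000000000000000000000000000000000000000000000000000000000000000000000000000000000000000000000000000000000000000000000000000000000000000000000000000000000000000000000000000000000000000000000000000000000000000000000000000000000000000000000000000000000000000000000000000000000000000000000000000000000000000000000000000000000000000000000000000000000000000000000000000000000000000000000000000000000000000000000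
    1161408 (by decide +kernel) (by decide +kernel) (by decide +kernel)
theorem flag_two {o : Finset GolayPt} (ho : o ∈ octads) {x : GolayPt} (hx : x ∉ o)
    {a1 a2 : Finset GolayPt} (h1 : a1 ∈ trioReps o x) (h2 : a2 ∈ trioReps o x) (hne : a1 ≠ a2) :
    ∃ t ∈ M24, Maps t [a2, a1, {x}, o] [1161408, 337856, 2 ^ 4, 8536111] := by
  obtain ⟨t0, ht0, m0⟩ := oflag_out ho hx
  obtain ⟨t1, ht1, m1⟩ := m0.extend_code ht0 orb_out_0 h1.1.1 ((mem_trioReps_iff m0 a1).1 h1).2
  have m1' := m1
  rw [maps_cons] at m1'
  refine m1.extend_code ht1 orb_trio2 h2.1.1 ?_
  have h3 := ((mem_trioReps_iff m1'.2 a2).1 h2).2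
  unfold repTest at h3
  rw [band_eq, Bool.and_eq_true] at h3
  simp only [band_eq, Bool.and_eq_true, bnot_eq, Bool.not_eq_true']
  refine ⟨by simpa using h3.1, h3.2, ?_⟩
  rw [← Bool.not_eq_true, Nat.beq_eq]
  intro e
  apply hne
  have : t1 • a2 = t1 • a1 := by
    rw [m1'.1, ← e, unmask_mask]
  exact (MulAction.injective t1 this).symm

theorem trios_two_transitive {o : Finset GolayPt} (ho : o ∈ octads)
    {T₁ T₂ T₁' T₂' : Finset (Finset GolayPt)} (h1 : T₁ ∈ trios) (h2 : T₂ ∈ trios)
    (h1' : T₁' ∈ trios) (h2' : T₂' ∈ trios) (o1 : o ∈ T₁) (o2 : o ∈ T₂) (o1' : o ∈ T₁')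
    (o2' : o ∈ T₂') (hne : T₁ ≠ T₂) (hne' : T₁' ≠ T₂') :
    ∃ g ∈ M24, g • o = o ∧ g • T₁ = T₁' ∧ g • T₂ = T₂' := by
  obtain ⟨x, hx⟩ := exists_not_mem_octad ho
  obtain ⟨a1, b1, r1⟩ := exists_rep h1 o1 hx
  obtain ⟨a2, b2, r2⟩ := exists_rep h2 o2 hx
  obtain ⟨a1', b1', r1'⟩ := exists_rep h1' o1' hx
  obtain ⟨a2', b2', r2'⟩ := exists_rep h2' o2' hx
  have n : a1 ≠ a2 := by
    rintro rfl
    exact hne (trio_eq_of_two h1 h2 o1 b1 o2 b2 (ne_of_disjoint_octads ho r1.2.1))
  have n' : a1' ≠ a2' := by
    rintro rfl
    exact hne' (trio_eq_of_two h1' h2' o1' b1' o2' b2' (ne_of_disjoint_octads ho r1'.2.1))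
  obtain ⟨t, ht, m⟩ := flag_two ho hx r1 r2 n
  obtain ⟨t', ht', m'⟩ := flag_two ho hx r1' r2' n'
  have := m.trans_inv m'
  simp only [List.forall₂_cons] at this
  obtain ⟨e2, e1, _, eo, _⟩ := this
  have hg : t'⁻¹ * t ∈ M24 := M24.mul_mem (M24.inv_mem ht') ht
  refine ⟨t'⁻¹ * t, hg, eo, ?_, ?_⟩
  · apply trio_eq_of_two (smul_mem_trios27 hg h1) h1' (a := o) (b := a1') _ _ o1' b1'
      (ne_of_disjoint_octads ho r1'.2.1)
    · have h3 := Finset.smul_mem_smul_finset (a := t'⁻¹ * t) o1
      rwa [eo] at h3
    · rw [← e1]; exact Finset.smul_mem_smul_finset b1
  · apply trio_eq_of_two (smul_mem_trios27 hg h2) h2' (a := o) (b := a2') _ _ o2' b2'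
      (ne_of_disjoint_octads ho r2'.2.1)
    · have h3 := Finset.smul_mem_smul_finset (a := t'⁻¹ * t) o2
      rwa [eo] at h3
    · rw [← e2]; exact Finset.smul_mem_smul_finset b2

/-! ### the kernel -/

def codesPO : List ℕ := [984818244535754528103549039458486304, 965128854020860192151391391390468128, 963721886883755259286232606933354528, 979121071158219704299181131031480352, 968708902336673183175954409307867168, 967812279691448225500382947153381408, 971592882964418941354553515258775584, 970499966350631336865513127433832480, 976448692869377735270425038196672544, 981818691054096003685363657089320992, 972512676110088067912772961567868960, 966182099583441531322624363496310816, 983548720921252936276249910206105632, 975346028712660580592452217730074656, 980224387687010295957922729495201824, 961365507626256404119956257276790816]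

theorem codesPO_check : allList (fun c => checkFix PO c) codesPO = true := by decide +kernel

theorem codesPO_img : imgMask codesPO 4 = 8241104 := by decide +kernel

theorem PO_exists_code {g : Equiv.Perm GolayPt} (hg : g ∈ fixer PO) :
    ∃ c ∈ codesPO, checkFix PO c = true ∧ g = permOf c := by
  have hq := PO_apply4 hg
  rw [← codesPO_img] at hq
  obtain ⟨c, hc, e⟩ := exists_code_of_mem_imgMask codesPO 4 _ hq
  have h1 := (allList_iff _ _).1 codesPO_check c hc
  refine ⟨c, hc, h1, PO_eq_of_apply4 hg (permOf_mem_fixer h1) ?_⟩
  rw [permOf_apply (valid_of_checkFix h1), idx_pt (by norm_num), e, pt_idx]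

def pairTest (c m : ℕ) : Bool :=
  bor (bnot (octTest 8536111 0 m))
    (bor (Nat.beq (permMask c m) m) (Nat.beq (Nat.land (permMask c m) m) 0))

theorem PO_pair_check :
    allList (fun c => allBelow (fun k => pairTest c (enc k)) 4096) codesPO = true := by
  decide +kernel

theorem PO_smul_rep {g : Equiv.Perm GolayPt} (hg : g ∈ fixer PO) {m : ℕ} (hm : isCode m = true)
    (ht : octTest 8536111 0 m = true) :
    g • unmask m = unmask m ∨ Disjoint (g • unmask m) (unmask m) := by
  obtain ⟨c, hc, h1, rfl⟩ := PO_exists_code hg
  have hv := valid_of_checkFix h1
  have h2 := forall_isCode _ ((allList_iff _ _).1 PO_pair_check c hc) m hm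
  unfold pairTest at h2
  simp only [bor_eq, bnot_eq, Bool.or_eq_true, Bool.not_eq_true', Nat.beq_eq, ht] at h2
  rw [smul_unmask_permOf hv (isCode_lt hm)]
  rcases h2 with h2 | h2 | h2
  · exact absurd h2 (by simp)
  · left; rw [h2]
  · right
    rw [disjoint_iff_mask, mask_unmask (permMask_lt hv (isCode_lt hm)), mask_unmask (isCode_lt hm)]
    exact h2

theorem eq_compl_of_disjoint {o a b : Finset GolayPt} (ho : o ∈ octads) (ha : a ∈ octads)
    (hb : b ∈ octads) (hoa : Disjoint o a) (hbo : Disjoint b o) (hba : Disjoint b a) :
    b = (o ∪ a)ᶜ := by
  apply Finset.eq_of_subset_of_card_le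
  · intro q hq
    rw [Finset.mem_compl, Finset.mem_union]
    rintro (h | h)
    · exact Finset.disjoint_left.1 hbo hq h
    · exact Finset.disjoint_left.1 hba hq h
  · rw [Finset.card_compl, card_golayPt24, Finset.card_union_of_disjoint hoa, ho.2, ha.2, hb.2]

theorem disjoint_of_smul {t : Equiv.Perm GolayPt} {a b : Finset GolayPt}
    (h : Disjoint (t • a) (t • b)) : Disjoint a b := by
  rw [Finset.disjoint_iff_inter_eq_empty, ← Finset.smul_finset_inter,
    Finset.smul_finset_eq_empty] at h
  exact Finset.disjoint_iff_inter_eq_empty.2 h

theorem smul_disjoint {t : Equiv.Perm GolayPt} {a b : Finset GolayPt}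
    (h : Disjoint a b) : Disjoint (t • a) (t • b) := by
  rw [Finset.disjoint_iff_inter_eq_empty, ← Finset.smul_finset_inter,
    Finset.disjoint_iff_inter_eq_empty.1 h, Finset.smul_finset_empty]

theorem conj_mem_fixer_PO {o : Finset GolayPt} {t g : Equiv.Perm GolayPt} (ht : t ∈ M24)
    (e : t • o = unmask 8536111) (hg : g ∈ M24) (hfix : ∀ p ∈ o, g p = p) :
    t * g * t⁻¹ ∈ fixer PO := by
  rw [mem_fixer_PO]
  refine ⟨M24.mul_mem (M24.mul_mem ht hg) (M24.inv_mem ht), fun p hp => ?_⟩
  rw [← e] at hp
  obtain ⟨y, hy, rfl⟩ := Finset.mem_smul_finset.1 hp
  show t (g (t⁻¹ (t y))) = t y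
  have e1 : t⁻¹ (t y) = y := t.symm_apply_apply y
  rw [e1, hfix y hy]

theorem pointwise_fixes_trios {o : Finset GolayPt} (ho : o ∈ octads) {g : Equiv.Perm GolayPt}
    (hg : g ∈ M24) (hfix : ∀ p ∈ o, g p = p) {T : Finset (Finset GolayPt)} (hT : T ∈ trios)
    (hoT : o ∈ T) : g • T = T := by
  obtain ⟨t, ht, e0⟩ := octad_to_std ho
  have e : t • o = unmask 8536111 := e0
  have hh := conj_mem_fixer_PO ht e hg hfix
  have hgo : g • o = o := smul_eq_of_fixes hfix
  obtain ⟨a, haT, hne, _⟩ := trio_exists_third hT o o
  have hd : Disjoint o a := hT.2.2 o hoT a haT hne.symm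
  have haO := hT.2.1 a haT
  have hta := (mem_octads_iff _).1 (smul_mem_octads ht haO)
  have htest : octTest 8536111 0 (mask (t • a)) = true := by
    simp only [octTest, band_eq, Bool.and_eq_true, Nat.beq_eq, pc_mask_smul,
      pc_land_mask_smul (by norm_num) e, Finset.card_eq_zero,
      ← Finset.disjoint_iff_inter_eq_empty]
    exact ⟨haO.2, hd⟩
  have key := PO_smul_rep hh hta.1 htest
  rw [unmask_mask] at key
  have e2 : (t * g * t⁻¹) • (t • a) = t • (g • a) := by
    rw [mul_smul, mul_smul, inv_smul_smul]
  rw [e2] at key
  have hgd : Disjoint o (g • a) := by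
    have h3 := smul_disjoint (t := g) hd
    rwa [hgo] at h3
  have hmem : g • a ∈ T := by
    rcases key with key | key
    · rw [MulAction.injective t key]; exact haT
    · rw [eq_compl_of_disjoint ho haO (smul_mem_octads hg haO) hd hgd.symm (disjoint_of_smul key)]
      exact trio_compl_mem hT hoT haT hne.symm
  apply trio_eq_of_two (smul_mem_trios27 hg hT) hT (a := o) (b := g • a) _ _ hoT hmem
    (ne_of_disjoint_octads ho hgd)
  · have h3 := Finset.smul_mem_smul_finset (a := g) hoT
    rwa [hgo] at h3
  · exact Finset.smul_mem_smul_finset haT

def R15 : List ℕ := [337856, 1161408, 1351424, 2702848, 2890176, 3704512, 4038912, 4819776, 5024896, 5780352, 6100032, 6337856, 6656640, 7409024, 7612992]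

theorem R15_check : allList (fun m => band (isCode m) (repTest m)) R15 = true := by decide +kernel

theorem R15_separates : ∀ p q : GolayPt, p ∈ unmask 8241104 → q ∈ unmask 8241104 →
    (∀ m ∈ R15, (q ∈ unmask m ↔ p ∈ unmask m)) → q = p := by decide +kernel

theorem stdOctad_mem : unmask 8536111 ∈ octads :=
  unmask_mem_octads (by decide +kernel) (by decide +kernel)

theorem std_fixes_trios_pointwise {h : Equiv.Perm GolayPt} (hh : h ∈ M24)
    (ho : h • unmask 8536111 = unmask 8536111)
    (hall : ∀ T ∈ trios, unmask 8536111 ∈ T → h • T = T) : h ∈ fixer PO := by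
  have hm : ∀ q : GolayPt, q ∉ unmask 8536111 → q ∈ unmask 8241104 := by decide +kernel
  have hm' : ∀ q : GolayPt, q ∈ unmask 8241104 → q ∉ unmask 8536111 := by decide +kernel
  have h4 : pt 4 ∉ unmask 8536111 := by decide +kernel
  obtain ⟨k, hk, ek, _⟩ := PO_invols _ (hm _ (Maps.apply_not_mem ho h4))
  have hkf := (mem_fixer_PO.1 hk).2
  have hko : k • unmask 8536111 = unmask 8536111 := smul_eq_of_fixes hkf
  set h' := k⁻¹ * h with hdef
  have hh' : h' ∈ M24 := M24.mul_mem (M24.inv_mem hk.1) hh
  have h'o : h' • unmask 8536111 = unmask 8536111 := by
    rw [hdef, mul_smul, ho, inv_smul_eq_iff, hko]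
  have h'4 : h' (pt 4) = pt 4 := by
    rw [hdef, Equiv.Perm.mul_apply, ← ek]
    exact k.symm_apply_apply _
  have h'T : ∀ T ∈ trios, unmask 8536111 ∈ T → h' • T = T := by
    intro T hT hoT
    rw [hdef, mul_smul, hall T hT hoT, inv_smul_eq_iff,
      pointwise_fixes_trios stdOctad_mem hk.1 hkf hT hoT]
  have hrep : ∀ m ∈ R15, h' • unmask m = unmask m := by
    intro m hmR
    have hc := (allList_iff _ _).1 R15_check m hmR
    rw [band_eq, Bool.and_eq_true] at hc
    obtain ⟨hc1, hc2⟩ := hc
    unfold repTest at hc2
    simp only [octTest, band_eq, Bool.and_eq_true, Nat.beq_eq, bnot_eq, Bool.not_eq_true',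
      tb_eq] at hc2
    obtain ⟨c4, c8, c0⟩ := hc2
    have hmo : unmask m ∈ octads := unmask_mem_octads hc1 c8
    have hd : Disjoint (unmask 8536111) (unmask m) := by
      rw [disjoint_iff_mask, mask_unmask (by norm_num), mask_unmask (isCode_lt hc1)]
      exact eq_zero_of_pc_eq_zero (lt_of_le_of_lt Nat.and_le_left (by norm_num)) c0
    have hT := mk_trio stdOctad_mem hmo hd
    have h1 : h' • unmask m ∈ ({unmask 8536111, unmask m, (unmask 8536111 ∪ unmask m)ᶜ} :
        Finset (Finset GolayPt)) := by
      have h3 : unmask m ∈ ({unmask 8536111, unmask m, (unmask 8536111 ∪ unmask m)ᶜ} :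
          Finset (Finset GolayPt)) := by simp
      have h4 := Finset.smul_mem_smul_finset (a := h') h3
      rwa [h'T _ hT (by simp)] at h4
    have hn4 : pt 4 ∉ unmask m := by
      rw [mem_unmask, idx_pt (by norm_num), c4]; simp
    simp only [Finset.mem_insert, Finset.mem_singleton] at h1
    rcases h1 with h1 | h1 | h1
    · exfalso
      rw [← h'o] at h1
      exact ne_of_disjoint_octads stdOctad_mem hd (MulAction.injective h' h1).symm
    · exact h1
    · exfalso
      have h5 : pt 4 ∈ h' • unmask m := by
        rw [h1, Finset.mem_compl, Finset.mem_union]
        rintro (h6 | h6)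
        · exact h4 h6
        · exact hn4 h6
      rw [← h'4, smul_mem_smul_iff] at h5
      exact hn4 h5
  have hone : h' = 1 := by
    apply checkRigid_sound [(4845570, 6053905), (13062145, 13938692), (13062145, 7221256), (13062145, 13062145), (4845570, 4845570), (13938692, 13938692), (7221256, 7221256), (11952160, 11952160)] 8241104 (by decide +kernel) h' hh'
    intro p hp
    apply R15_separates p (h' p) hp
    · exact hm _ (Maps.apply_not_mem h'o (hm' p hp))
    · intro m hmR
      conv_lhs => rw [← hrep m hmR]
      exact smul_mem_smul_iff h' _ p
  have : h = k := by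
    have h2 : k * h' = h := by rw [hdef]; group
    rw [← h2, hone, mul_one]
  rw [this]; exact hk

theorem fixes_trios_pointwise {o : Finset GolayPt} (ho : o ∈ octads) {g : Equiv.Perm GolayPt}
    (hg : g ∈ M24) (hgo : g • o = o) (hall : ∀ T ∈ trios, o ∈ T → g • T = T) :
    ∀ p ∈ o, g p = p := by
  obtain ⟨t, ht, e0⟩ := octad_to_std ho
  have e : t • o = unmask 8536111 := e0
  have hh : t * g * t⁻¹ ∈ fixer PO := by
    apply std_fixes_trios_pointwise (M24.mul_mem (M24.mul_mem ht hg) (M24.inv_mem ht))
    · rw [mul_smul, mul_smul, ← e, inv_smul_smul, hgo]
    · intro T hT hoT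
      have h1 : o ∈ t⁻¹ • T := by
        have : o = t⁻¹ • unmask 8536111 := by rw [← e, inv_smul_smul]
        rw [this]; exact Finset.smul_mem_smul_finset hoT
      rw [mul_smul, mul_smul, hall _ (smul_mem_trios27 (M24.inv_mem ht) hT) h1, smul_inv_smul]
  intro p hp
  have h1 := (mem_fixer_PO.1 hh).2 (t p) (by rw [← e]; exact Finset.smul_mem_smul_finset hp)
  have h2 : (t * g * t⁻¹) (t p) = t (g p) := by
    show t (g (t⁻¹ (t p))) = t (g p)
    have e1 : t⁻¹ (t p) = p := t.symm_apply_apply p
    rw [e1]
  rw [h2] at h1
  exact t.injective h1

end Cfsg.Agent.Lib.Helper27
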