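import Cfsg.Agent.Lib.Helper27.WEmb

/-!
# Extending an embedding of a derived design
-/

set_option autoImplicit false

namespace Cfsg.Agent.Lib.Helper27

open Cfsg
open scoped Pointwise

/-- a total map extending an embedding of the derived design at `x`. -/
theorem exists_partial {α : Type*} [Fintype α] [DecidableEq α] {B : Set (Finset α)}
    {R' : Finset GolayPt} {r : GolayPt} (hr : r ∈ R') (x : α)
    (h0 : StdEmbAt R' {b' : Finset {a : α // a ≠ x} |
      ∃ b ∈ B, x ∈ b ∧ b' = Finset.subtype (fun a => a ≠ x) b}) :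
    ∃ F : α → GolayPt, Function.Injective F ∧ F x = r ∧ (∀ a, a ≠ x → F a ∉ R') ∧
      (∀ b ∈ B, x ∈ b → (b.erase x).image F ∪ R' ∈ octads) ∧
      (∀ O ∈ octads, R' ⊆ O → ∃ c ∈ B, x ∈ c ∧ (c.erase x).image F ∪ R' = O) := by
  obtain ⟨f0, hf0, hr0, h0⟩ := h0
  let F : α → GolayPt := fun a => if h : a = x then r else f0 ⟨a, h⟩
  have hFx : F x = r := by simp [F]
  have hFa : ∀ a (h : a ≠ x), F a = f0 ⟨a, h⟩ := by
    intro a h; simp [F, h]
  have hnot : ∀ a, a ≠ x → F a ∉ R' := by
    intro a h
    rw [hFa a h, hr0]; exact ⟨_, rfl⟩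
  have him : ∀ b : Finset α, (Finset.subtype (fun a => a ≠ x) b).image f0 = (b.erase x).image F := by
    intro b
    ext p
    simp only [Finset.mem_image, Finset.mem_subtype, Finset.mem_erase]
    constructor
    · rintro ⟨⟨a, ha⟩, hab, rfl⟩
      exact ⟨a, ⟨ha, hab⟩, hFa a ha⟩
    · rintro ⟨a, ⟨ha, hab⟩, rfl⟩
      exact ⟨⟨a, ha⟩, hab, (hFa a ha).symm⟩
  refine ⟨F, ?_, hFx, hnot, ?_, ?_⟩
  · intro a a' h
    by_cases ha : a = x
    · by_cases ha' : a' = x
      · rw [ha, ha']
      · exfalso
        apply hnot a' ha'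
        rw [← h, ha, hFx]; exact hr
    · by_cases ha' : a' = x
      · exfalso
        apply hnot a ha
        rw [h, ha', hFx]; exact hr
      · rw [hFa a ha, hFa a' ha'] at h
        exact congrArg Subtype.val (hf0 h)
  · intro b hb hx
    rw [← him, ← h0]
    exact ⟨b, hb, hx, rfl⟩
  · intro O hO hRO
    let c' : Finset {a : α // a ≠ x} := Finset.univ.filter (fun a => f0 a ∈ O)
    have hc' : c'.image f0 ∪ R' = O := by
      ext p
      simp only [Finset.mem_union, Finset.mem_image, c', Finset.mem_filter, Finset.mem_univ,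
        true_and]
      constructor
      · rintro (⟨a, ha, rfl⟩ | h)
        · exact ha
        · exact hRO h
      · intro hp
        by_cases hpR : p ∈ R'
        · exact Or.inr hpR
        · obtain ⟨a, rfl⟩ := (hr0 p).1 hpR
          exact Or.inl ⟨a, hp, rfl⟩
    have : c' ∈ {b' : Finset {a : α // a ≠ x} |
      ∃ b ∈ B, x ∈ b ∧ b' = Finset.subtype (fun a => a ≠ x) b} := by
      rw [h0, hc']; exact hO
    obtain ⟨c, hc, hxc, e⟩ := this
    refine ⟨c, hc, hxc, ?_⟩
    rw [← him, ← e, hc']

theorem erase_of_card {R' T : Finset GolayPt} (hT : T ⊆ R') (hc : T.card + 1 = R'.card) :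
    ∃ s ∈ R', T = R'.erase s := by
  have h1 : (R' \ T).card = 1 := by
    rw [Finset.card_sdiff_of_subset hT]; omega
  obtain ⟨s, hs⟩ := Finset.card_eq_one.1 h1
  have hs' : s ∈ R' \ T := by rw [hs]; exact Finset.mem_singleton_self s
  refine ⟨s, (Finset.mem_sdiff.1 hs').1, ?_⟩
  ext p
  rw [Finset.mem_erase]
  constructor
  · intro hp
    refine ⟨?_, hT hp⟩
    rintro rfl
    exact (Finset.mem_sdiff.1 hs').2 hp
  · rintro ⟨h1, h2⟩
    by_contra h3
    have : p ∈ R' \ T := Finset.mem_sdiff.2 ⟨h2, h3⟩
    rw [hs, Finset.mem_singleton] at this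
    exact h1 this

theorem card_of_mem_supports {s : Finset GolayPt}
    (hs : s ∈ supports (golayCode : Set (GolayPt → ZMod 2))) :
    s.card = 0 ∨ s.card = 8 ∨ s.card = 12 ∨ s.card = 16 ∨ s.card = 24 := by
  rw [mem_supports_iff] at hs
  rw [card_eq_pc]; exact pc_of_isCode hs

theorem StdEmbAt.extend {α : Type*} [Fintype α] [DecidableEq α] {t k : ℕ} {B : Set (Finset α)}
    (hB : IsSteinerSystem (t + 1) (k + 1) B) {R' : Finset GolayPt}
    (ht : t + R'.card = 5) (hk : k + R'.card = 8) (hc : Fintype.card α + R'.card = 25)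
    (hne : R'.Nonempty)
    (hpar : ∀ b ∈ B, ∀ c ∈ B, Even ((b ∩ c).card + R'.card + 1))
    (hdual : DualProp R') (x : α)
    (h0 : StdEmbAt R' {b' : Finset {a : α // a ≠ x} |
      ∃ b ∈ B, x ∈ b ∧ b' = Finset.subtype (fun a => a ≠ x) b}) :
    ∃ s ∈ R', StdEmbAt (R'.erase s) B := by
  obtain ⟨r, hr⟩ := hne
  obtain ⟨F, hF, hFx, hnot, hP1, hP2⟩ := exists_partial hr x h0
  have hRpos : 0 < R'.card := Finset.card_pos.2 ⟨r, hr⟩
  -- images of sets avoiding `x` avoid `R'`
  have hdisj : ∀ b : Finset α, x ∉ b → Disjoint (b.image F) R' := by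
    intro b hxb
    rw [Finset.disjoint_left]
    intro p hp
    obtain ⟨a, ha, rfl⟩ := Finset.mem_image.1 hp
    exact hnot a (fun e => hxb (e ▸ ha))
  -- every block off `x` has a type
  have htype : ∀ b ∈ B, x ∉ b → ∃ s ∈ R', b.image F ∪ R'.erase s ∈ octads := by
    intro b hb hxb
    have hbd := hdisj b hxb
    obtain ⟨E, hE, hsupp⟩ := hdual (b.image F ∪ R'.erase r) (by
      intro O hO hRO
      obtain ⟨c, hc, hxc, rfl⟩ := hP2 O hO hRO
      have e : (b.image F ∪ R'.erase r) ∩ ((c.erase x).image F ∪ R') =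
          (b ∩ c).image F ∪ R'.erase r := by
        ext p
        simp only [Finset.mem_inter, Finset.mem_union, Finset.mem_image, Finset.mem_erase]
        constructor
        · rintro ⟨⟨a, ha, rfl⟩ | h, ⟨a', ⟨-, ha'⟩, e⟩ | h'⟩
          · rw [hF e] at ha'
            exact Or.inl ⟨a, ⟨ha, ha'⟩, rfl⟩
          · exact absurd h' (hnot a (fun e => hxb (e ▸ ha)))
          · exact Or.inr h
          · exact Or.inr h
        · rintro (⟨a, ⟨ha, ha'⟩, rfl⟩ | h)
          · exact ⟨Or.inl ⟨a, ha, rfl⟩, Or.inl ⟨a, ⟨fun e => hxb (e ▸ ha), ha'⟩, rfl⟩⟩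
          · exact ⟨Or.inr h, Or.inr h.2⟩
      rw [e, Finset.card_union_of_disjoint, Finset.card_image_of_injective _ hF,
        Finset.card_erase_of_mem hr]
      · have := hpar b hb c hc
        rw [Nat.even_iff] at *
        omega
      · exact Finset.disjoint_of_subset_left (Finset.image_subset_image Finset.inter_subset_left)
          (Finset.disjoint_of_subset_right (Finset.erase_subset _ _) hbd))
    have e2 : symmDiff (b.image F ∪ R'.erase r) E = b.image F ∪ symmDiff (R'.erase r) E := by
      ext p
      have hp : p ∈ b.image F → p ∉ R' := fun h => Finset.disjoint_left.1 hbd h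
      have hE' : p ∈ E → p ∈ R' := fun h => hE h
      simp only [Finset.mem_symmDiff, Finset.mem_union, Finset.mem_erase]
      tauto
    have hTsub : symmDiff (R'.erase r) E ⊆ R' := by
      intro p hp
      rw [Finset.mem_symmDiff] at hp
      rcases hp with ⟨h, -⟩ | ⟨h, -⟩
      · exact Finset.mem_of_mem_erase h
      · exact hE h
    rw [e2] at hsupp
    have hcard : (b.image F ∪ symmDiff (R'.erase r) E).card = k + 1 + (symmDiff (R'.erase r) E).card := by
      rw [Finset.card_union_of_disjoint (Finset.disjoint_of_subset_right hTsub hbd),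
        Finset.card_image_of_injective _ hF, hB.1 b hb]
    have hTle := Finset.card_le_card hTsub
    have hw := card_of_mem_supports hsupp
    have hw8 : (b.image F ∪ symmDiff (R'.erase r) E).card = 8 := by omega
    obtain ⟨s, hs, hs'⟩ := erase_of_card hTsub (by omega)
    refine ⟨s, hs, ?_⟩
    rw [← hs']
    exact ⟨hsupp, hw8⟩
  -- all blocks off `x` have the same type
  have hsame : ∀ b ∈ B, x ∉ b → ∀ c ∈ B, x ∉ c → ∀ s ∈ R', ∀ s' ∈ R',
      b.image F ∪ R'.erase s ∈ octads → c.image F ∪ R'.erase s' ∈ octads → s = s' := by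
    intro b hb hxb c hc hxc s hs s' hs' h1 h2
    by_contra hne
    have e : (b.image F ∪ R'.erase s) ∩ (c.image F ∪ R'.erase s') =
        (b ∩ c).image F ∪ (R'.erase s).erase s' := by
      ext p
      have hp : p ∈ b.image F → p ∉ R' := fun h => Finset.disjoint_left.1 (hdisj b hxb) h
      have hp' : p ∈ c.image F → p ∉ R' := fun h => Finset.disjoint_left.1 (hdisj c hxc) h
      rw [Finset.image_inter _ _ hF]
      simp only [Finset.mem_inter, Finset.mem_union, Finset.mem_erase]
      tauto
    have hcard : ((b.image F ∪ R'.erase s) ∩ (c.image F ∪ R'.erase s')).card =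
        (b ∩ c).card + (R'.card - 2) := by
      rw [e, Finset.card_union_of_disjoint, Finset.card_image_of_injective _ hF,
        Finset.card_erase_of_mem (Finset.mem_erase.2 ⟨fun e => hne e.symm, hs'⟩),
        Finset.card_erase_of_mem hs]
      · rfl
      · exact Finset.disjoint_of_subset_left (Finset.image_subset_image Finset.inter_subset_left)
          (Finset.disjoint_of_subset_right
            ((Finset.erase_subset _ _).trans (Finset.erase_subset _ _)) (hdisj b hxb))
    have h2le : 2 ≤ R'.card := by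
      have : ({s, s'} : Finset GolayPt) ⊆ R' := by
        intro p hp
        rcases Finset.mem_insert.1 hp with rfl | hp
        · exact hs
        · rw [Finset.mem_singleton.1 hp]; exact hs'
      have h3 := Finset.card_le_card this
      rwa [Finset.card_pair hne] at h3
    have h4 := octad_inter_card h1 h2
    have h5 := hpar b hb c hc
    rw [Nat.even_iff] at h5
    omega
  -- choose the type
  obtain ⟨s, hs, hall⟩ : ∃ s ∈ R', ∀ b ∈ B, x ∉ b → b.image F ∪ R'.erase s ∈ octads := by
    by_cases hex : ∃ b ∈ B, x ∉ b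
    · obtain ⟨b, hb, hxb⟩ := hex
      obtain ⟨s, hs, h1⟩ := htype b hb hxb
      refine ⟨s, hs, fun c hc hxc => ?_⟩
      obtain ⟨s', hs', h2⟩ := htype c hc hxc
      rw [hsame b hb hxb c hc hxc s hs s' hs' h1 h2]; exact h2
    · exact ⟨r, hr, fun b hb hxb => absurd ⟨b, hb, hxb⟩ hex⟩
  refine ⟨s, hs, ?_⟩
  have hupd : ∀ a, a ≠ x → Function.update F x s a = F a := fun a ha =>
    Function.update_of_ne ha _ _
  have hupdx : Function.update F x s x = s := Function.update_self _ _ _
  apply stdEmbAt_of_forward hB (f := Function.update F x s)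
  · intro a a' h
    by_cases ha : a = x
    · by_cases ha' : a' = x
      · rw [ha, ha']
      · exfalso
        apply hnot a' ha'
        rw [← hupd a' ha', ← h, ha, hupdx]; exact hs
    · by_cases ha' : a' = x
      · exfalso
        apply hnot a ha
        rw [← hupd a ha, h, ha', hupdx]; exact hs
      · rw [hupd a ha, hupd a' ha'] at h
        exact hF h
  · intro a
    by_cases ha : a = x
    · rw [ha, hupdx]; exact Finset.notMem_erase s R'
    · rw [hupd a ha]
      exact fun h => hnot a ha (Finset.mem_of_mem_erase h)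
  · rw [Finset.card_erase_of_mem hs]; omega
  · rw [Finset.card_erase_of_mem hs]; omega
  · rw [Finset.card_erase_of_mem hs]; omega
  · intro b hb
    by_cases hxb : x ∈ b
    · have e : b.image (Function.update F x s) ∪ R'.erase s = (b.erase x).image F ∪ R' := by
        conv_lhs => rw [← Finset.insert_erase hxb]
        rw [Finset.image_insert, hupdx]
        have : (b.erase x).image (Function.update F x s) = (b.erase x).image F :=
          Finset.image_congr (fun a ha => hupd a (Finset.ne_of_mem_erase ha))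
        rw [this]
        conv_rhs => rw [← Finset.insert_erase hs]
        ext p
        simp only [Finset.mem_union, Finset.mem_insert]
        tauto
      rw [e]; exact hP1 b hb hxb
    · have : b.image (Function.update F x s) = b.image F :=
        Finset.image_congr (fun a ha => hupd a (fun e => hxb (e ▸ ha)))
      rw [this]; exact hall b hb hxb

end Cfsg.Agent.Lib.Helper27
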