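import Cfsg.Agent.Lib.Helper27.WPlane
import Cfsg.Agent.Lib.Helper27.WExt
import Cfsg.Agent.S0352
import Cfsg.Agent.S0355
import Cfsg.Agent.S0356

/-!
# The Witt designs are the systems of octads through 3, 2, 1, 0 points
-/

set_option autoImplicit false

namespace Cfsg.Agent.Lib.Helper27

open Cfsg
open scoped Pointwise

theorem StdEmbAt.move {α : Type*} [DecidableEq α] {B : Set (Finset α)} {m m' c : ℕ}
    (h : StdEmbAt (unmask m) B) (hc : checkM24 c = true) (hm : m < 2 ^ 24)
    (e : permMask c m = m') : StdEmbAt (unmask m') B := by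
  have := h.smul (permOf_mem_M24 hc)
  rwa [smul_unmask_permOf (valid_of_check hc) hm, e] at this

theorem card_ne {α : Type*} [Fintype α] [DecidableEq α] (x : α) :
    Fintype.card {a : α // a ≠ x} = Fintype.card α - 1 := by
  rw [Fintype.card_subtype_compl, Fintype.card_subtype_eq]

theorem emb3 {α : Type*} [Fintype α] [DecidableEq α] (hα : Fintype.card α = 21)
    {L : Set (Finset α)} (hL : IsSteinerSystem 2 5 L) : StdEmbAt (unmask 14680064) L :=
  plane_stdEmbAt pnode0 hα hL

theorem emb2 {α : Type*} [Fintype α] [DecidableEq α] (hα : Fintype.card α = 22)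
    {B : Set (Finset α)} (hB : IsSteinerSystem 3 6 B) : StdEmbAt (unmask 12582912) B := by
  have hne : Nonempty α := by
    rw [← Fintype.card_pos_iff, hα]; norm_num
  obtain ⟨x⟩ := hne
  have hc3 : (unmask 14680064).card = 3 := by decide
  obtain ⟨s, hs, h⟩ := StdEmbAt.extend (t := 2) (k := 5) hB (R' := unmask 14680064)
    (by rw [hc3]) (by rw [hc3]) (by rw [hc3, hα]) (by decide)
    (by
      intro b hb c hc
      rw [hc3]
      by_cases hbc : b = c
      · rw [hbc, Finset.inter_self, hB.1 c hc]; decide
      · rcases S0356.result hα hB hb hc hbc with h | h <;> rw [h] <;> decide)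
    dualProp_R3 x (emb3 (by rw [card_ne, hα]) (S0351.result hB x))
  have hs' : s = pt 21 ∨ s = pt 22 ∨ s = pt 23 :=
    (by decide : ∀ s ∈ unmask 14680064, s = pt 21 ∨ s = pt 22 ∨ s = pt 23) s hs
  rcases hs' with rfl | rfl | rfl
  · have e : (unmask 14680064).erase (pt 21) = unmask 12582912 := by decide
    rwa [e] at h
  · have e : (unmask 14680064).erase (pt 22) = unmask 10485760 := by decide
    rw [e] at h
    exact h.move (c := 917377436256963895195995348283304608) (by decide +kernel) (by norm_num)
      (by decide +kernel)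
  · have e : (unmask 14680064).erase (pt 23) = unmask 6291456 := by decide
    rw [e] at h
    exact h.move (c := 278746872467623138974187913030502852) (by decide +kernel) (by norm_num)
      (by decide +kernel)

theorem emb1 {α : Type*} [Fintype α] [DecidableEq α] (hα : Fintype.card α = 23)
    {B : Set (Finset α)} (hB : IsSteinerSystem 4 7 B) : StdEmbAt (unmask 8388608) B := by
  have hne : Nonempty α := by
    rw [← Fintype.card_pos_iff, hα]; norm_num
  obtain ⟨x⟩ := hne
  have hc3 : (unmask 12582912).card = 2 := by decide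
  obtain ⟨s, hs, h⟩ := StdEmbAt.extend (t := 3) (k := 6) hB (R' := unmask 12582912)
    (by rw [hc3]) (by rw [hc3]) (by rw [hc3, hα]) (by decide)
    (by
      intro b hb c hc
      rw [hc3]
      by_cases hbc : b = c
      · rw [hbc, Finset.inter_self, hB.1 c hc]; decide
      · rcases S0355.result hα hB hb hc hbc with h | h <;> rw [h] <;> decide)
    dualProp_R2 x (emb2 (by rw [card_ne, hα]) (S0351.result hB x))
  have hs' : s = pt 22 ∨ s = pt 23 :=
    (by decide : ∀ s ∈ unmask 12582912, s = pt 22 ∨ s = pt 23) s hs
  rcases hs' with rfl | rfl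
  · have e : (unmask 12582912).erase (pt 22) = unmask 8388608 := by decide
    rwa [e] at h
  · have e : (unmask 12582912).erase (pt 23) = unmask 4194304 := by decide
    rw [e] at h
    exact h.move (c := 155256085014084502883885840519888980) (by decide +kernel) (by norm_num)
      (by decide +kernel)

theorem emb0 {α : Type*} [Fintype α] [DecidableEq α] (hα : Fintype.card α = 24)
    {B : Set (Finset α)} (hB : IsSteinerSystem 5 8 B) : StdEmbAt (∅ : Finset GolayPt) B := by
  have hne : Nonempty α := by
    rw [← Fintype.card_pos_iff, hα]; norm_num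
  obtain ⟨x⟩ := hne
  have hc3 : (unmask 8388608).card = 1 := by decide
  obtain ⟨s, hs, h⟩ := StdEmbAt.extend (t := 4) (k := 7) hB (R' := unmask 8388608)
    (by rw [hc3]) (by rw [hc3]) (by rw [hc3, hα]) (by decide)
    (by
      intro b hb c hc
      rw [hc3]
      by_cases hbc : b = c
      · rw [hbc, Finset.inter_self, hB.1 c hc]; decide
      · rcases S0352.result hα hB hb hc hbc with h | h | h <;> rw [h] <;> decide)
    dualProp_R1 x (emb1 (by rw [card_ne, hα]) (S0351.result hB x))
  have hs' : s = pt 23 :=
    (by decide : ∀ s ∈ unmask 8388608, s = pt 23) s hs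
  subst hs'
  have e : (unmask 8388608).erase (pt 23) = ∅ := by decide
  rwa [e] at h

end Cfsg.Agent.Lib.Helper27
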