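import Cfsg.Agent.Lib.Helper27.Steiner
import Cfsg.Agent.Lib.Helper27.Descent
import Cfsg.Agent.Lib.Helper27.Tests
import Cfsg.Agent.Lib.Helper27.OctadSpan

/-!
# A duality lemma for the octads through a small set

If a set `Z` of points meets evenly every octad containing `R` (`R` one of three standard sets of
size 1, 2, 3), then `Z` differs from a codeword by a subset of `R`.
-/

set_option autoImplicit false

namespace Cfsg.Agent.Lib.Helper27

open Cfsg
open scoped Pointwise

/-- `∃ a ∈ l, f a` as a kernel-friendly loop. -/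
def anyList {α : Type} (f : α → Bool) (l : List α) : Bool :=
  List.rec false (fun a _ ih => bor (f a) ih) l

theorem anyList_cons {α : Type} (f : α → Bool) (a : α) (l : List α) :
    anyList f (a :: l) = (f a || anyList f l) := by
  show bor (f a) (anyList f l) = _
  rw [bor_eq]

theorem anyList_iff {α : Type} (f : α → Bool) (l : List α) :
    anyList f l = true ↔ ∃ a ∈ l, f a = true := by
  induction l with
  | nil => simp [anyList]
  | cons a l ih => rw [anyList_cons, Bool.or_eq_true, ih]; simp

/-- `a` and `o` meet in an even number of bits. -/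
def evenAnd (a o : ℕ) : Bool := Nat.beq (Nat.land (pc (Nat.land a o)) 1) 0

theorem evenAnd_iff (a o : ℕ) : evenAnd a o = true ↔ Even (pc (a &&& o)) := by
  have h : evenAnd a o = Nat.beq ((pc (a &&& o)) &&& 1) 0 := rfl
  rw [h, Nat.beq_eq, Nat.and_one_is_mod, Nat.even_iff]

theorem even_pc_and_of_isCode {a b : ℕ} (ha : isCode a = true) (hb : isCode b = true) :
    Even (pc (a &&& b)) := by
  have h1 := pc_xor_add (isCode_lt ha) (isCode_lt hb)
  have h2 := pc_of_isCode (isCode_xor ha hb)
  have h3 := pc_of_isCode ha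
  have h4 := pc_of_isCode hb
  rw [Nat.even_iff]; omega

theorem even_pc_xor_and {a b o : ℕ} (ha : a < 2 ^ 24) (hb : b < 2 ^ 24)
    (h1 : Even (pc (a &&& o))) (h2 : Even (pc (b &&& o))) : Even (pc ((a ^^^ b) &&& o)) := by
  have hao : a &&& o < 2 ^ 24 := lt_of_le_of_lt Nat.and_le_left ha
  have hbo : b &&& o < 2 ^ 24 := lt_of_le_of_lt Nat.and_le_left hb
  have h := pc_xor_add hao hbo
  rw [Nat.and_xor_distrib_right]
  rw [Nat.even_iff] at *
  omega

/-- the check for one syndrome. -/
def dualCheck (OL EL : List ℕ) (s : ℕ) : Bool :=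
  bor (bnot (allList (fun o => evenAnd (Nat.shiftLeft s 12) o) OL))
    (anyList (fun E => isCode (Nat.xor (Nat.shiftLeft s 12) E)) EL)

theorem dual_of_check (OL EL : List ℕ) (hOL : ∀ o ∈ OL, isCode o = true)
    (h : allBelow (dualCheck OL EL) 4096 = true) {Z : ℕ} (hZ : Z < 2 ^ 24)
    (hev : ∀ o ∈ OL, Even (pc (Z &&& o))) : ∃ E ∈ EL, isCode (Z ^^^ E) = true := by
  have hs := syn_lt hZ
  have hc := (allBelow_iff _ _).1 h _ hs
  have he : Z ^^^ enc Z = syn Z <<< 12 := xor_enc_eq Z
  have hc' : (bnot (allList (fun o => evenAnd (syn Z <<< 12) o) OL) ||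
      anyList (fun E => isCode ((syn Z <<< 12) ^^^ E)) EL) = true := by
    rw [← bor_eq]; exact hc
  rw [Bool.or_eq_true, bnot_eq, Bool.not_eq_true', ← Bool.not_eq_true, allList_iff,
    anyList_iff] at hc'
  rcases hc' with hc' | ⟨E, hE, hE'⟩
  · exfalso
    apply hc'
    intro o ho
    rw [evenAnd_iff, ← he]
    exact even_pc_xor_and hZ (enc_lt Z) (hev o ho) (even_pc_and_of_isCode (isCode_enc Z) (hOL o ho))
  · refine ⟨E, hE, ?_⟩
    have := isCode_xor (isCode_enc Z) hE'
    rw [← he] at this
    have e : enc Z ^^^ (Z ^^^ enc Z ^^^ E) = Z ^^^ E := by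
      rw [Nat.xor_comm Z (enc Z), Nat.xor_assoc (enc Z) Z E, ← Nat.xor_assoc (enc Z) (enc Z),
        Nat.xor_self, Nat.zero_xor]
    rwa [e] at this

/-- the property of a set `R` of points proved here for three standard sets. -/
def DualProp (R : Finset GolayPt) : Prop :=
  ∀ Z : Finset GolayPt, (∀ O ∈ octads, R ⊆ O → Even (Z ∩ O).card) →
    ∃ E ⊆ R, symmDiff Z E ∈ supports (golayCode : Set (GolayPt → ZMod 2))

theorem dualProp_of_check (Rm : ℕ) (OL EL : List ℕ) (hR : Rm < 2 ^ 24)
    (h1 : allList (fun o => band (isCode o) (band (Nat.beq (pc o) 8) (Nat.beq (Nat.land Rm o) Rm))) OL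
      = true)
    (h2 : allList (fun E => Nat.beq (Nat.land E Rm) E) EL = true)
    (h : allBelow (dualCheck OL EL) 4096 = true) : DualProp (unmask Rm) := by
  intro Z hZ
  rw [allList_iff] at h1 h2
  have h1' : ∀ o ∈ OL, isCode o = true ∧ pc o = 8 ∧ Rm &&& o = Rm := by
    intro o ho
    have := h1 o ho
    rw [band_eq, band_eq, Bool.and_eq_true, Bool.and_eq_true, Nat.beq_eq,
      Nat.beq_eq] at this
    exact this
  obtain ⟨E, hE, hE'⟩ := dual_of_check OL EL (fun o ho => (h1' o ho).1) h (mask_lt Z) (by
    intro o ho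
    obtain ⟨a, b, c⟩ := h1' o ho
    have := hZ (unmask o) (unmask_mem_octads a b) (by
      rw [subset_iff_mask, mask_unmask hR, mask_unmask (isCode_lt a)]; exact c)
    rwa [card_eq_pc, mask_inter, mask_unmask (isCode_lt a)] at this)
  have hEm : E &&& Rm = E := Nat.eq_of_beq_eq_true (h2 E hE)
  have hElt : E < 2 ^ 24 := by
    rw [← hEm]; exact lt_of_le_of_lt Nat.and_le_right hR
  refine ⟨unmask E, ?_, ?_⟩
  · rw [subset_iff_mask, mask_unmask hR, mask_unmask hElt]; exact hEm
  · rw [mem_supports_iff, mask_symmDiff, mask_unmask hElt]; exact hE'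

theorem dualProp_R1 : DualProp (unmask 8388608) :=
  dualProp_of_check 8388608
    [13062145, 9347075, 13938692, 11100169, 10170384, 11952160, 15515712, 14254209, 11731203,
      12325377, 11654144, 14919680] [0] (by norm_num) (by decide +kernel) (by decide +kernel)
    (by decide +kernel)

theorem dualProp_R2 : DualProp (unmask 12582912) :=
  dualProp_of_check 12582912
    [13062145, 13938692, 14716939, 13811730, 14176296, 15515712, 14254209, 15274244, 15073798,
      16262146, 14919680] [0, 12582912] (by norm_num) (by decide +kernel) (by decide +kernel)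
    (by decide +kernel)

theorem dualProp_R3 : DualProp (unmask 14680064) :=
  dualProp_of_check 14680064
    [14716939, 16056344, 15335473, 15515712, 14688364, 14762146, 15274244, 15073798, 16262146,
      14919680] [0, 6291456, 10485760, 12582912] (by norm_num) (by decide +kernel)
    (by decide +kernel) (by decide +kernel)

end Cfsg.Agent.Lib.Helper27
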