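import Cfsg.Agent.Lib.Helper27.WDual
import Cfsg.Agent.Lib.Helper27.OctadFlags
import Cfsg.Agent.S0351

/-!
# Embedding Steiner systems into the octads

`StdEmbAt R B`: the set system `B` on `α` is, via a bijection of `α` with the complement of `R`, the
system of all `O \ R`, `O` an octad containing `R`.
-/

set_option autoImplicit false

namespace Cfsg.Agent.Lib.Helper27

open Cfsg
open scoped Pointwise

/-- `B` is the system of the octads through `R`, with `R` removed. -/
def StdEmbAt {α : Type*} (R : Finset GolayPt) (B : Set (Finset α)) : Prop :=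
  ∃ f : α → GolayPt, Function.Injective f ∧ (∀ p, p ∉ R ↔ p ∈ Set.range f) ∧
    ∀ b : Finset α, b ∈ B ↔ b.image f ∪ R ∈ octads

theorem card_golayPt : Fintype.card GolayPt = 24 := by decide

theorem range_of_card {α : Type*} [Fintype α] [DecidableEq α] {R : Finset GolayPt}
    {f : α → GolayPt} (hf : Function.Injective f)
    (hR : ∀ a, f a ∉ R) (hc : Fintype.card α + R.card = 24) : ∀ p, p ∉ R ↔ p ∈ Set.range f := by
  have h1 : Finset.univ.image f ⊆ Rᶜ := by
    intro p hp
    obtain ⟨a, -, rfl⟩ := Finset.mem_image.1 hp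
    exact Finset.mem_compl.2 (hR a)
  have h2 : Finset.univ.image f = Rᶜ := by
    apply Finset.eq_of_subset_of_card_le h1
    rw [Finset.card_image_of_injective _ hf, Finset.card_compl, card_golayPt, Finset.card_univ]
    omega
  intro p
  rw [← Finset.mem_compl, ← h2, Finset.mem_image]
  simp

theorem card_image_union {α : Type*} [DecidableEq α] {R : Finset GolayPt}
    {f : α → GolayPt} (hf : Function.Injective f)
    (hR : ∀ a, f a ∉ R) (b : Finset α) : (b.image f ∪ R).card = b.card + R.card := by
  rw [Finset.card_union_of_disjoint, Finset.card_image_of_injective _ hf]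
  rw [Finset.disjoint_left]
  intro p hp
  obtain ⟨a, -, rfl⟩ := Finset.mem_image.1 hp
  exact hR a

theorem image_union_inter {α : Type*} [DecidableEq α] {R : Finset GolayPt}
    {f : α → GolayPt} (hf : Function.Injective f)
    (hR : ∀ a, f a ∉ R) (b c : Finset α) :
    (b.image f ∪ R) ∩ (c.image f ∪ R) = (b ∩ c).image f ∪ R := by
  rw [Finset.image_inter _ _ hf, Finset.inter_union_distrib_right]

theorem image_eq_of_union_eq {α : Type*} [DecidableEq α] {R : Finset GolayPt}
    {f : α → GolayPt} (hf : Function.Injective f)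
    (hR : ∀ a, f a ∉ R) {b c : Finset α} (h : b.image f ∪ R = c.image f ∪ R) : b = c := by
  have key : ∀ b c : Finset α, b.image f ∪ R = c.image f ∪ R → b ⊆ c := by
    intro b c h a ha
    have : f a ∈ c.image f ∪ R := by
      rw [← h]; exact Finset.mem_union_left _ (Finset.mem_image_of_mem f ha)
    rcases Finset.mem_union.1 this with h1 | h1
    · obtain ⟨a', ha', e⟩ := Finset.mem_image.1 h1
      rwa [← hf e]
    · exact absurd h1 (hR a)
  exact Finset.Subset.antisymm (key b c h) (key c b h.symm)

theorem stdEmbAt_of_forward {α : Type*} [Fintype α] [DecidableEq α] {t k : ℕ}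
    {B : Set (Finset α)} (hB : IsSteinerSystem t k B)
    {R : Finset GolayPt} {f : α → GolayPt} (hf : Function.Injective f) (hR : ∀ a, f a ∉ R)
    (hc : Fintype.card α + R.card = 24) (ht : t + R.card = 5) (hk : k + R.card = 8)
    (h : ∀ b ∈ B, b.image f ∪ R ∈ octads) : StdEmbAt R B := by
  refine ⟨f, hf, range_of_card hf hR hc, fun b => ⟨h b, fun hb => ?_⟩⟩
  have hb8 : (b.image f ∪ R).card = 8 := hb.2
  rw [card_image_union hf hR] at hb8
  obtain ⟨s, hsb, hs⟩ := Finset.exists_subset_card_eq (s := b) (n := t) (by omega)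
  obtain ⟨c, ⟨hcB, hsc⟩, -⟩ := hB.2 s hs
  have e : b.image f ∪ R = c.image f ∪ R := by
    apply octads_eq_of_inter hb (h c hcB)
    rw [image_union_inter hf hR, card_image_union hf hR]
    have : s.card ≤ (b ∩ c).card := Finset.card_le_card (Finset.subset_inter hsb hsc)
    omega
  rw [image_eq_of_union_eq hf hR e]; exact hcB

theorem StdEmbAt.iso {α β : Type*} [DecidableEq α] [DecidableEq β]
    {B : Set (Finset α)} {B' : Set (Finset β)} {R : Finset GolayPt}
    (h : StdEmbAt R B) (h' : StdEmbAt R B') : SetSystemIso B B' := by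
  obtain ⟨f, hf, hr, hB⟩ := h
  obtain ⟨f', hf', hr', hB'⟩ := h'
  have heq : Set.range f = Set.range f' := by
    ext p; rw [← hr, ← hr']
  let e : α ≃ β := (Equiv.ofInjective f hf).trans ((Equiv.setCongr heq).trans
    (Equiv.ofInjective f' hf').symm)
  have he : ∀ a, f' (e a) = f a := by
    intro a
    show f' ((Equiv.ofInjective f' hf').symm _) = f a
    exact Equiv.apply_ofInjective_symm hf' _
  have him : ∀ b : Finset α, (b.image e).image f' = b.image f := by
    intro b
    rw [Finset.image_image]
    exact Finset.image_congr (fun a _ => he a)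
  refine ⟨e, ?_⟩
  ext c
  constructor
  · rintro ⟨b, hb, rfl⟩
    show b.image e ∈ B'
    rw [hB', him, ← hB]; exact hb
  · intro hc
    refine ⟨c.image e.symm, ?_, ?_⟩
    · have : (e ∘ e.symm) = id := by ext; simp
      rw [hB, ← him, Finset.image_image (f := e.symm) (g := e), this, Finset.image_id, ← hB']
      exact hc
    · show (c.image e.symm).image e = c
      rw [Finset.image_image]
      have : (e ∘ e.symm) = id := by ext; simp
      rw [this, Finset.image_id]

theorem smul_mem_octads_iff {g : Equiv.Perm GolayPt} (hg : g ∈ M24) (s : Finset GolayPt) :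
    g • s ∈ octads ↔ s ∈ octads := by
  constructor
  · intro h
    have := smul_mem_octads (M24.inv_mem hg) h
    rwa [inv_smul_smul] at this
  · exact smul_mem_octads hg

theorem StdEmbAt.smul {α : Type*} [DecidableEq α] {B : Set (Finset α)} {R : Finset GolayPt}
    {g : Equiv.Perm GolayPt} (hg : g ∈ M24) (h : StdEmbAt R B) : StdEmbAt (g • R) B := by
  obtain ⟨f, hf, hr, hB⟩ := h
  refine ⟨g ∘ f, g.injective.comp hf, ?_, ?_⟩
  · intro p
    rw [← Finset.inv_smul_mem_iff, hr]
    constructor
    · rintro ⟨a, ha⟩
      refine ⟨a, ?_⟩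
      show g (f a) = p
      rw [ha]; simp
    · rintro ⟨a, rfl⟩
      exact ⟨a, by simp⟩
  · intro b
    have : b.image (g ∘ f) ∪ g • R = g • (b.image f ∪ R) := by
      rw [Finset.smul_finset_union, ← Finset.image_image]
      rfl
    rw [this, smul_mem_octads_iff hg, hB]

end Cfsg.Agent.Lib.Helper27
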