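import Cfsg.Agent.Lib.Helper27.WDual

/-!
# Graphs given by a table of adjacency rows
-/

set_option autoImplicit false

namespace Cfsg.Agent.Lib.Helper27

open Cfsg

/-- number of bits among the low 120 bits. -/
def cnt (r : ℕ) : ℕ :=
  Nat.add (pc r) (Nat.add (pc (Nat.shiftRight r 24)) (Nat.add (pc (Nat.shiftRight r 48))
    (Nat.add (pc (Nat.shiftRight r 72)) (pc (Nat.shiftRight r 96)))))

theorem cnt_eq (r : ℕ) :
    cnt r = ((Finset.range 120).filter (fun x => r.testBit x = true)).card := by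
  rw [← pcAux_eq]
  have e : (120 : ℕ) = 24 + (24 + (24 + (24 + 24))) := rfl
  rw [e, pcAux_add, pcAux_add, pcAux_add, pcAux_add, ← Nat.shiftRight_add, ← Nat.shiftRight_add,
    ← Nat.shiftRight_add, ← pc_eq, ← pc_eq, ← pc_eq, ← pc_eq, ← pc_eq]
  rfl

/-- a numbering `ι` of the vertices of `G` by `0, …, n-1` for which the neighbours of vertex `i` are
the bits of `row i`. -/
structure GModel {V : Type*} (G : SimpleGraph V) (n : ℕ) (row : ℕ → ℕ) (ι : V → ℕ) : Prop where
  inj : Function.Injective ι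
  lt : ∀ v, ι v < n
  surj : ∀ i < n, ∃ v, ι v = i
  adj : ∀ u v, G.Adj u v ↔ (row (ι u)).testBit (ι v) = true

theorem fcard_eq_ncard {γ : Type*} (s : Set γ) [Fintype s] : Fintype.card s = s.ncard := by
  rw [Set.ncard_eq_toFinset_card', Set.toFinset_card]

theorem lt_of_testBit_of_lt {r n x : ℕ} (hr : r < 2 ^ n) (h : r.testBit x = true) : x < n := by
  by_contra hx
  have : r.testBit x = false := by
    apply Nat.testBit_eq_false_of_lt
    exact lt_of_lt_of_le hr (Nat.pow_le_pow_right (by norm_num) (by omega))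
  rw [this] at h
  exact Bool.noConfusion h

section
variable {V : Type*} {G : SimpleGraph V} {n : ℕ} {row : ℕ → ℕ} {ι : V → ℕ}

theorem GModel.ncard_eq (M : GModel G n row ι) (hn : n ≤ 120) (S : Set V) (r : ℕ)
    (hS : ∀ v, v ∈ S ↔ r.testBit (ι v) = true) (hr : r < 2 ^ n) : S.ncard = cnt r := by
  rw [← Set.ncard_image_of_injective S M.inj, cnt_eq]
  have : ι '' S = ↑((Finset.range 120).filter (fun x => r.testBit x = true)) := by
    ext x
    simp only [Set.mem_image, Finset.coe_filter, Finset.mem_range, Set.mem_ofPred_eq]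
    constructor
    · rintro ⟨v, hv, rfl⟩
      exact ⟨lt_of_lt_of_le (M.lt v) hn, (hS v).1 hv⟩
    · rintro ⟨-, hx⟩
      obtain ⟨v, rfl⟩ := M.surj x (lt_of_testBit_of_lt hr hx)
      exact ⟨v, (hS v).2 hx, rfl⟩
  rw [this, Set.ncard_coe_finset]

theorem GModel.card_eq [Fintype V] (M : GModel G n row ι) : Fintype.card V = n := by
  have h1 : (Finset.univ.image ι) = Finset.range n := by
    ext x
    simp only [Finset.mem_image, Finset.mem_univ, true_and, Finset.mem_range]
    constructor
    · rintro ⟨v, rfl⟩; exact M.lt v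
    · exact M.surj x
  rw [← Finset.card_univ, ← Finset.card_image_of_injective _ M.inj, h1, Finset.card_range]

/-- the check of the parameters of a strongly regular graph. -/
def srgCheck (row : ℕ → ℕ) (n k l m : ℕ) : Bool :=
  allBelow (fun i => band (Nat.blt (row i) (Nat.pow 2 n)) (band (Nat.beq (cnt (row i)) k)
    (allBelow (fun j => bor (Nat.beq i j)
      (Nat.beq (cnt (Nat.land (row i) (row j))) (Bool.rec m l (tb (row i) j)))) n))) n

theorem GModel.isSRGWith [Fintype V] [DecidableRel G.Adj] (M : GModel G n row ι) (hn : n ≤ 120)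
    {k l m : ℕ} (hchk : srgCheck row n k l m = true) : G.IsSRGWith n k l m := by
  unfold srgCheck at hchk
  simp only [allBelow_iff, band_eq, Bool.and_eq_true, Nat.blt_eq, Nat.beq_eq, bor_eq,
    Bool.or_eq_true] at hchk
  have hlt : ∀ i < n, row i < 2 ^ n := fun i hi => (hchk i hi).1
  have hcommon : ∀ v w, Fintype.card (G.commonNeighbors v w) = cnt (row (ι v) &&& row (ι w)) := by
    intro v w
    rw [fcard_eq_ncard]
    apply M.ncard_eq hn
    · intro u
      rw [SimpleGraph.mem_commonNeighbors, M.adj, M.adj, Nat.testBit_and, Bool.and_eq_true]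
    · exact lt_of_le_of_lt Nat.and_le_left (hlt _ (M.lt v))
  refine ⟨M.card_eq, ?_, ?_, ?_⟩
  · intro v
    rw [← SimpleGraph.card_neighborSet_eq_degree, fcard_eq_ncard,
      M.ncard_eq hn _ (row (ι v)) (fun u => by rw [SimpleGraph.mem_neighborSet, M.adj])
        (hlt _ (M.lt v))]
    exact (hchk _ (M.lt v)).2.1
  · intro v w hvw
    rw [hcommon]
    rcases (hchk _ (M.lt v)).2.2 _ (M.lt w) with h | h
    · exact absurd (M.inj h) hvw.ne
    · have h2 : tb (row (ι v)) (ι w) = true := by rw [tb_eq]; exact (M.adj v w).1 hvw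
      rw [h2] at h
      exact h
  · intro v w hne hvw
    rw [hcommon]
    rcases (hchk _ (M.lt v)).2.2 _ (M.lt w) with h | h
    · exact absurd (M.inj h) hne
    · have h2 : tb (row (ι v)) (ι w) = false := by
        rw [tb_eq, ← Bool.not_eq_true, ← M.adj]; exact hvw
      rw [h2] at h
      exact h

/-- the check that the table `t`, with inverse `t'`, is an automorphism. -/
def autCheck (row : ℕ → ℕ) (n : ℕ) (t t' : ℕ → ℕ) : Bool :=
  allBelow (fun i => band (Nat.blt (t i) n) (band (Nat.blt (t' i) n) (band (Nat.beq (t' (t i)) i)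
    (band (Nat.beq (t (t' i)) i)
      (allBelow (fun j => Nat.beq (Nat.land (Nat.shiftRight (row (t i)) (t j)) 1)
        (Nat.land (Nat.shiftRight (row i) j) 1)) n))))) n

theorem testBit_eq_of_and_one {a b i j : ℕ} (h : (a >>> i) &&& 1 = (b >>> j) &&& 1) :
    a.testBit i = b.testBit j := by
  rw [shiftRight_and_one, shiftRight_and_one] at h
  cases ha : a.testBit i <;> cases hb : b.testBit j <;> simp [ha, hb] at h ⊢

theorem GModel.exists_aut (M : GModel G n row ι) {t t' : ℕ → ℕ}
    (hchk : autCheck row n t t' = true) : ∃ τ : G ≃g G, ∀ v, ι (τ v) = t (ι v) := by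
  unfold autCheck at hchk
  simp only [allBelow_iff, band_eq, Bool.and_eq_true, Nat.blt_eq, Nat.beq_eq] at hchk
  let e : V ≃ Fin n := Equiv.ofBijective (fun v => ⟨ι v, M.lt v⟩)
    ⟨fun u v h => M.inj (congrArg Fin.val h), fun ⟨i, hi⟩ => by
      obtain ⟨v, rfl⟩ := M.surj i hi
      exact ⟨v, rfl⟩⟩
  have he : ∀ v, ((e v : Fin n) : ℕ) = ι v := fun v => rfl
  let σ : Equiv.Perm (Fin n) :=
    { toFun := fun i => ⟨t i, (hchk i i.2).1⟩
      invFun := fun i => ⟨t' i, (hchk i i.2).2.1⟩
      left_inv := fun i => Fin.ext (hchk i i.2).2.2.1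
      right_inv := fun i => Fin.ext (hchk i i.2).2.2.2.1 }
  have hσ : ∀ i : Fin n, ((σ i : Fin n) : ℕ) = t i := fun i => rfl
  have hι : ∀ v, ι ((e.trans (σ.trans e.symm)) v) = t (ι v) := by
    intro v
    rw [← he]
    show ((e (e.symm (σ (e v))) : Fin n) : ℕ) = t (ι v)
    rw [Equiv.apply_symm_apply, hσ, he]
  refine ⟨⟨e.trans (σ.trans e.symm), ?_⟩, hι⟩
  intro u v
  rw [M.adj, M.adj, hι, hι]
  rw [testBit_eq_of_and_one ((hchk _ (M.lt u)).2.2.2.2 _ (M.lt v))]

end

end Cfsg.Agent.Lib.Helper27
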