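import Cfsg.Agent.Lib.Helper27.WGraph
import Cfsg.Agent.Lib.Helper27.WChain

/-!
# The graph on 100 vertices attached to a Steiner system S(3,6,22): a table model
-/

set_option autoImplicit false
set_option maxRecDepth 100000

namespace Cfsg.Agent.Lib.Helper27

open Cfsg
open scoped Pointwise

/-- `∃ k < n, f k` as a kernel-friendly loop. -/
def anyBelow (f : ℕ → Bool) (n : ℕ) : Bool := Nat.rec false (fun k ih => bor (f k) ih) n

theorem anyBelow_succ (f : ℕ → Bool) (n : ℕ) : anyBelow f (n + 1) = (f n || anyBelow f n) := by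
  show bor (f n) (anyBelow f n) = _
  rw [bor_eq]

theorem anyBelow_iff (f : ℕ → Bool) (n : ℕ) : anyBelow f n = true ↔ ∃ k < n, f k = true := by
  induction n with
  | zero => simp [anyBelow]
  | succ n ih =>
    rw [anyBelow_succ, Bool.or_eq_true, ih]
    constructor
    · rintro (h | ⟨k, hk, h⟩)
      · exact ⟨n, Nat.lt_succ_self n, h⟩
      · exact ⟨k, Nat.lt_succ_of_lt hk, h⟩
    · rintro ⟨k, hk, h⟩
      rcases Nat.lt_succ_iff_lt_or_eq.1 hk with h' | rfl
      · exact Or.inr ⟨k, h', h⟩
      · exact Or.inl h

/-- equality of Booleans by bare recursors. -/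
def beqB (a b : Bool) : Bool := Bool.rec (bnot b) b a

theorem beqB_iff (a b : Bool) : beqB a b = true ↔ a = b := by
  cases a <;> cases b <;> decide

/-- the 77 hexads (octads through the points 22, 23 with these points removed), packed. -/
def hxT : ℕ := 0x3824023500183210c03083203048052cc0402a0031291104280a88260206242181241c2023a8002245082140a221064120900b20849420721020206c2009521e090019808118502818025414b00414468014006313042412c012122209116140111a02108c481028b010151110018e0d22200c10920c040d0b004a0a96000a6084094c1008a1180888260843030838410805e00750010680a80624500585020508c4048a1104680a044134041348030390028145024a6002312202181c020c8301c20c01907001348801201701092900e42100d98000a2c20054460040d9002f040012a500063a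

/-- the `j`-th hexad. -/
def hx (j : ℕ) : ℕ := Nat.land (Nat.shiftRight hxT (Nat.mul 24 j)) 16777215

/-- the adjacency rows of the graph, packed. -/
def rowT : ℕ := 0x66faca5704804000000000067801d07b6a003000000000051e0b809c2e421800000000003b1550330c6106400000000006c8b864610e0900a0000000ab8000027383d9808000000061c8000d40a3a5400620000003660003309054d222080000005d1000589454850151000000301701980006e44c040c0000018cc0d4000ac08c843020000028708aa0030914483840000001b01b0280c000dc75000000002d0a6050600511448a10000004c251491252002428144000005442a2c2186020420c82000004a9243094a8002412016000005138483414c080410928000006184984ac1108040e4200000062492524a210204040d80000036a05606000a414012a40003f00000000000f5dbc120000543800000011ce00ab301020069480000001e3111230a050003e8000000069052e03004a80287080000928029084a9600803089800008d0016580288d00018c600000780022a222800c604a0a800020b034003426084801b11000050184402832580240512480002148c8042824441202d0c00003442203001a2c280062450000128b09004422340403622000062240a41012118900545800001c2485080820516004ca100004a4250881020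2a22061920000451520844020031c2804c8045800001302c1a4440180d100b400000188c2182124300a2805a000002c43018081a18306060300002800631600944822181128000580184152c0050118810d0000a4048094c10830609052080020540111298202853003880004409009114230602520231000506020411104c60185048600034026001086065046402c080028a08009070824848a04680004302900100bc090805880680c80000128ea002890128819013000010a0d015019828300880600008a10c48a02a8031822021000a0050b0a049204a106104a00040408a1188a106110908a08004208091422330142881040803040108d014a0898202c0c100012100882688a0a420c203400011400826908c10915041050100048060720c0922120a610010020085028ac120c2401b0808003000494c04c8142a0411006008040462449423023104028800050043038550031c1040800c0c00041906a2300c103201900500003841888e40422092201010020320e01e400c9400060298000026910349405204040a04802002402ea44060e40260100001802125261c00c808a80046200001c842c241109a0580100010081b3004b1405081110408208001458452a806022408222008000a88c91580448844408040020081b26602831402806000404005e08c40c0c054098190000000254a2d28064100214410020000c74fffff80000000000000000001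f80007fff80000000000000018780078007ff80000000000014470047007007fc0000000001224c040e00e0703f000000001410b020984904c20f800000011408c244404c2a10c700000010c0621250032418886c00000180283043242911043520000012110a1409241404662900000108980c00e015070b0a2000001801540285150980124a80000110c120a28442026881380000111240c01180a88f40a200000120a242202a20a421235000001240118914081945841c000001121211182404a08c4c180000142006884321812a25048000014084910249882142a84800001094050c80924049290b000001804288148a8609051188000010a218212110342111c500000100000000000000000007ffffe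

/-- the `i`-th adjacency row. -/
def rowHS (i : ℕ) : ℕ := Nat.land (Nat.shiftRight rowT (Nat.mul 100 i)) 1267650600228229401496703205375

theorem hx_spec : ∀ j < 77, isCode (hx j ||| 12582912) = true ∧ pc (hx j ||| 12582912) = 8 ∧
    hx j &&& 12582912 = 0 ∧ hx j < 2 ^ 24 := by
  have h : allBelow (fun j => band (isCode (Nat.lor (hx j) 12582912))
      (band (Nat.beq (pc (Nat.lor (hx j) 12582912)) 8) (band (Nat.beq (Nat.land (hx j) 12582912) 0)
        (Nat.blt (hx j) 16777216)))) 77 = true := by decide +kernel
  rw [allBelow_iff] at h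
  intro j hj
  have := h j hj
  simp only [band_eq, Bool.and_eq_true, Nat.beq_eq, Nat.blt_eq] at this
  exact this

theorem hx_complete_mask {m : ℕ} (h1 : isCode m = true) (h2 : pc m = 8)
    (h3 : 12582912 &&& m = 12582912) : ∃ j < 77, hx j = m ^^^ 12582912 := by
  have h := forall_isCode (fun m => bor (bnot (band (Nat.beq (pc m) 8)
      (Nat.beq (Nat.land 12582912 m) 12582912)))
      (anyBelow (fun j => Nat.beq (hx j) (Nat.xor m 12582912)) 77)) (by decide +kernel) m h1
  rw [bor_eq, Bool.or_eq_true, bnot_eq, Bool.not_eq_true', anyBelow_iff] at h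
  rcases h with h | ⟨j, hj, h⟩
  · exfalso
    have e1 : Nat.beq (pc m) 8 = true := by rw [Nat.beq_eq]; exact h2
    have e2 : Nat.beq (Nat.land 12582912 m) 12582912 = true := by rw [Nat.beq_eq]; exact h3
    rw [e1, e2] at h
    exact Bool.noConfusion h
  · rw [Nat.beq_eq] at h
    exact ⟨j, hj, h⟩

theorem hx_complete {s : Finset GolayPt} (hs : s ∪ unmask 12582912 ∈ octads)
    (hd : Disjoint s (unmask 12582912)) : ∃ j < 77, hx j = mask s := by
  rw [mem_octads_iff] at hs
  obtain ⟨j, hj, h⟩ := hx_complete_mask hs.1 hs.2 (by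
    rw [← mask_unmask (by norm_num : 12582912 < 2 ^ 24), ← subset_iff_mask]
    exact Finset.subset_union_right)
  refine ⟨j, hj, ?_⟩
  have e : (12582912 : ℕ) = mask (unmask 12582912) := (mask_unmask (by norm_num)).symm
  have e2 : mask (s ∪ unmask 12582912) ^^^ 12582912 =
      mask (symmDiff (s ∪ unmask 12582912) (unmask 12582912)) := by
    rw [mask_symmDiff, ← e]
  rw [h, e2]
  congr 1
  ext p
  have h3 : p ∈ s → p ∉ unmask 12582912 := fun h => Finset.disjoint_left.1 hd h
  simp only [Finset.mem_symmDiff, Finset.mem_union]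
  tauto

theorem hx_inj : ∀ i < 77, ∀ j < 77, hx i = hx j → i = j := by
  have h : allBelow (fun i => allBelow (fun j => bnot (Nat.beq (hx i) (hx j))) i) 77 = true := by
    decide +kernel
  rw [allBelow_iff] at h
  have key : ∀ i < 77, ∀ j < i, hx i ≠ hx j := by
    intro i hi j hj e
    have h1 := h i hi
    rw [allBelow_iff] at h1
    have h2 := h1 j hj
    rw [bnot_eq, Bool.not_eq_true'] at h2
    have h3 : Nat.beq (hx i) (hx j) = true := by rw [Nat.beq_eq]; exact e
    rw [h3] at h2
    exact Bool.noConfusion h2
  intro i hi j hj e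
  rcases Nat.lt_trichotomy i j with h1 | h1 | h1
  · exact absurd e.symm (key j hj i h1)
  · exact h1
  · exact absurd e (key i hi j h1)

theorem row_zero : (rowHS 0).testBit 0 = false ∧ (∀ i < 22, (rowHS 0).testBit (1 + i) = true) ∧
    ∀ j < 77, (rowHS 0).testBit (23 + j) = false := by
  have h : band (bnot (tb (rowHS 0) 0)) (band (allBelow (fun i => tb (rowHS 0) (Nat.add 1 i)) 22)
      (allBelow (fun j => bnot (tb (rowHS 0) (Nat.add 23 j))) 77)) = true := by decide +kernel
  simp only [band_eq, Bool.and_eq_true, bnot_eq, Bool.not_eq_true', allBelow_iff, tb_eq] at h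
  exact h

theorem row_point : ∀ i < 22, (rowHS (1 + i)).testBit 0 = true ∧
    (∀ i' < 22, (rowHS (1 + i)).testBit (1 + i') = false) ∧
    ∀ j < 77, (rowHS (1 + i)).testBit (23 + j) = (hx j).testBit i := by
  have h : allBelow (fun i => band (tb (rowHS (Nat.add 1 i)) 0)
      (band (allBelow (fun i' => bnot (tb (rowHS (Nat.add 1 i)) (Nat.add 1 i'))) 22)
      (allBelow (fun j => beqB (tb (rowHS (Nat.add 1 i)) (Nat.add 23 j)) (tb (hx j) i)) 77))) 22
      = true := by decide +kernel
  simp only [band_eq, Bool.and_eq_true, bnot_eq, Bool.not_eq_true', allBelow_iff, tb_eq,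
    beqB_iff] at h
  exact h

theorem row_block : ∀ j < 77, (rowHS (23 + j)).testBit 0 = false ∧
    (∀ i < 22, (rowHS (23 + j)).testBit (1 + i) = (hx j).testBit i) ∧
    ∀ j' < 77, (rowHS (23 + j)).testBit (23 + j') = Nat.beq (hx j &&& hx j') 0 := by
  have h : allBelow (fun j => band (bnot (tb (rowHS (Nat.add 23 j)) 0))
      (band (allBelow (fun i => beqB (tb (rowHS (Nat.add 23 j)) (Nat.add 1 i)) (tb (hx j) i)) 22)
      (allBelow (fun j' => beqB (tb (rowHS (Nat.add 23 j)) (Nat.add 23 j'))
        (Nat.beq (Nat.land (hx j) (hx j')) 0)) 77))) 77 = true := by decide +kernel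
  simp only [band_eq, Bool.and_eq_true, bnot_eq, Bool.not_eq_true', allBelow_iff, tb_eq,
    beqB_iff] at h
  exact h

theorem notMem_R2_iff (p : GolayPt) : p ∉ unmask 12582912 ↔ idx p < 22 := by
  revert p; decide

/-- numbering of the blocks of an abstract S(3,6,22). -/
theorem exists_hexIdx {α : Type*} [Fintype α] [DecidableEq α] (hα : Fintype.card α = 22)
    {B : Set (Finset α)} (hB : IsSteinerSystem 3 6 B) :
    ∃ (f : α → GolayPt) (J : B → ℕ), Function.Injective f ∧
      (∀ p, p ∉ unmask 12582912 ↔ p ∈ Set.range f) ∧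
      (∀ b : Finset α, b ∈ B ↔ b.image f ∪ unmask 12582912 ∈ octads) ∧
      (∀ b : B, J b < 77 ∧ hx (J b) = mask ((b : Finset α).image f)) ∧
      ∀ j < 77, ∃ b : B, J b = j := by
  obtain ⟨f, hf, hr, hBf⟩ := emb2 hα hB
  have hdisj : ∀ b : Finset α, Disjoint (b.image f) (unmask 12582912) := by
    intro b
    rw [Finset.disjoint_left]
    intro p hp
    obtain ⟨a, -, rfl⟩ := Finset.mem_image.1 hp
    exact (hr _).2 ⟨a, rfl⟩
  have hex : ∀ b : B, ∃ j, j < 77 ∧ hx j = mask ((b : Finset α).image f) := by
    intro b
    obtain ⟨j, hj, h⟩ := hx_complete ((hBf b).1 b.2) (hdisj b)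
    exact ⟨j, hj, h⟩
  choose J hJ using hex
  refine ⟨f, J, hf, hr, hBf, hJ, ?_⟩
  intro j hj
  obtain ⟨h1, h2, h3, h4⟩ := hx_spec j hj
  have e1 : (Finset.univ.filter (fun a => f a ∈ unmask (hx j))).image f = unmask (hx j) := by
    ext p
    simp only [Finset.mem_image, Finset.mem_filter, Finset.mem_univ, true_and]
    constructor
    · rintro ⟨a, ha, rfl⟩; exact ha
    · intro hp
      have hpR : p ∉ unmask 12582912 := by
        intro hp'
        have : p ∈ unmask (hx j &&& 12582912) := by
          rw [unmask_and]; exact Finset.mem_inter.2 ⟨hp, hp'⟩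
        rw [h3] at this
        simp [unmask] at this
      obtain ⟨a, rfl⟩ := (hr p).1 hpR
      exact ⟨a, hp, rfl⟩
  have hb : (Finset.univ.filter (fun a => f a ∈ unmask (hx j))) ∈ B := by
    rw [hBf, e1, ← unmask_or]
    exact unmask_mem_octads h1 h2
  refine ⟨⟨_, hb⟩, ?_⟩
  apply hx_inj _ (hJ _).1 _ hj
  rw [(hJ _).2]
  show mask ((Finset.univ.filter (fun a => f a ∈ unmask (hx j))).image f) = hx j
  rw [e1, mask_unmask h4]

theorem disjoint_iff_hx {α : Type*} [DecidableEq α] {f : α → GolayPt} (hf : Function.Injective f)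
    (b c : Finset α) : Disjoint b c ↔ mask (b.image f) &&& mask (c.image f) = 0 := by
  rw [← disjoint_iff_mask, Finset.disjoint_image hf]

theorem exists_model_HS {α : Type*} [Fintype α] [DecidableEq α] (hα : Fintype.card α = 22)
    {B : Set (Finset α)} (hB : IsSteinerSystem 3 6 B) :
    ∃ ι : Option (α ⊕ B) → ℕ, GModel (pointBlockGraph B) 100 rowHS ι ∧ ι none = 0 ∧
      (∀ a : α, 1 ≤ ι (some (Sum.inl a)) ∧ ι (some (Sum.inl a)) ≤ 22) ∧
      ∀ b : B, 23 ≤ ι (some (Sum.inr b)) := by
  obtain ⟨f, J, hf, hr, hBf, hJ, hJs⟩ := exists_hexIdx hα hB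
  have hidx : ∀ a, idx (f a) < 22 := fun a => (notMem_R2_iff _).1 ((hr _).2 ⟨a, rfl⟩)
  have hJinj : ∀ b c : B, J b = J c → b = c := by
    intro b c h
    have h1 := (hJ b).2
    rw [h, (hJ c).2] at h1
    exact Subtype.ext (Finset.image_injective hf (mask_injective h1)).symm
  let ι : Option (α ⊕ B) → ℕ := fun v =>
    match v with
    | none => 0
    | some (Sum.inl a) => 1 + idx (f a)
    | some (Sum.inr b) => 23 + J b
  have ι0 : ι none = 0 := rfl
  have ι1 : ∀ a, ι (some (Sum.inl a)) = 1 + idx (f a) := fun _ => rfl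
  have ι2 : ∀ b, ι (some (Sum.inr b)) = 23 + J b := fun _ => rfl
  have hmem : ∀ (a : α) (b : B), a ∈ (b : Finset α) ↔ (hx (J b)).testBit (idx (f a)) = true := by
    intro a b
    rw [(hJ b).2, ← mem_iff_testBit, Finset.mem_image]
    constructor
    · intro h; exact ⟨a, h, rfl⟩
    · rintro ⟨a', h, e⟩; rwa [← hf e]
  have hdis : ∀ b c : B, (b ≠ c ∧ Disjoint (b : Finset α) (c : Finset α)) ↔
      Nat.beq (hx (J b) &&& hx (J c)) 0 = true := by
    intro b c
    rw [Nat.beq_eq, (hJ b).2, (hJ c).2, ← disjoint_iff_hx hf]
    constructor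
    · exact fun h => h.2
    · intro h
      refine ⟨?_, h⟩
      rintro rfl
      rw [disjoint_self, Finset.bot_eq_empty] at h
      have := hB.1 _ b.2
      rw [h] at this
      simp at this
  refine ⟨ι, ⟨?_, ?_, ?_, ?_⟩, ι0, fun a => ?_, fun b => ?_⟩
  · intro u v h
    rcases u with _ | a | b <;> rcases v with _ | a' | b'
    · rfl
    · rw [ι0, ι1] at h; omega
    · rw [ι0, ι2] at h; omega
    · rw [ι0, ι1] at h; omega
    · rw [ι1, ι1] at h
      have : idx (f a) = idx (f a') := by omega
      rw [hf (idx_injective this)]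
    · rw [ι1, ι2] at h
      have := hidx a
      omega
    · rw [ι0, ι2] at h; omega
    · rw [ι1, ι2] at h
      have := hidx a'
      omega
    · rw [ι2, ι2] at h
      have : J b = J b' := by omega
      rw [hJinj _ _ this]
  · intro v
    rcases v with _ | a | b
    · rw [ι0]; norm_num
    · rw [ι1]; have := hidx a; omega
    · rw [ι2]; have := (hJ b).1; omega
  · intro i hi
    by_cases h0 : i = 0
    · exact ⟨none, by rw [ι0, h0]⟩
    · by_cases h1 : i ≤ 22
      · have hp : pt (i - 1) ∉ unmask 12582912 := by
          rw [notMem_R2_iff, idx_pt (by omega)]; omega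
        obtain ⟨a, ha⟩ := (hr _).1 hp
        refine ⟨some (Sum.inl a), ?_⟩
        rw [ι1, ha, idx_pt (by omega)]; omega
      · obtain ⟨b, hb⟩ := hJs (i - 23) (by omega)
        refine ⟨some (Sum.inr b), ?_⟩
        rw [ι2, hb]; omega
  · intro u v
    unfold pointBlockGraph
    rw [SimpleGraph.fromRel_adj]
    rcases u with _ | a | b <;> rcases v with _ | a' | b'
    · rw [ι0, row_zero.1]; simp
    · rw [ι0, ι1, row_zero.2.1 _ (hidx a')]; simp [pointBlockRel]
    · rw [ι0, ι2, row_zero.2.2 _ (hJ b').1]; simp [pointBlockRel]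
    · rw [ι0, ι1, (row_point _ (hidx a)).1]; simp [pointBlockRel]
    · rw [ι1, ι1, (row_point _ (hidx a)).2.1 _ (hidx a')]; simp [pointBlockRel]
    · rw [ι1, ι2, (row_point _ (hidx a)).2.2 _ (hJ b').1, ← hmem]; simp [pointBlockRel]
    · rw [ι0, ι2, (row_block _ (hJ b).1).1]; simp [pointBlockRel]
    · rw [ι1, ι2, (row_block _ (hJ b).1).2.1 _ (hidx a'), ← hmem]; simp [pointBlockRel]
    · rw [ι2, ι2, (row_block _ (hJ b).1).2.2 _ (hJ b').1, ← hdis]
      simp only [pointBlockRel, ne_eq, Option.some.injEq, Sum.inr.injEq]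
      constructor
      · rintro ⟨h1, h2 | h2⟩
        · exact ⟨h1, h2⟩
        · exact ⟨h1, h2.symm⟩
      · rintro ⟨h1, h2⟩
        exact ⟨h1, Or.inl h2⟩
  · rw [ι1]; have := hidx a; omega
  · rw [ι2]; omega

/-- the rows of the graph on the 77 blocks. -/
def row77 (j : ℕ) : ℕ := Nat.shiftRight (rowHS (Nat.add 23 j)) 23

theorem exists_model_77 {α : Type*} [Fintype α] [DecidableEq α] (hα : Fintype.card α = 22)
    {B : Set (Finset α)} (hB : IsSteinerSystem 3 6 B) :
    ∃ ι : B → ℕ, GModel (blockGraph B) 77 row77 ι := by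
  obtain ⟨f, J, hf, hr, hBf, hJ, hJs⟩ := exists_hexIdx hα hB
  refine ⟨J, ⟨?_, fun b => (hJ b).1, hJs, ?_⟩⟩
  · intro b c h
    have h1 := (hJ b).2
    rw [h, (hJ c).2] at h1
    exact Subtype.ext (Finset.image_injective hf (mask_injective h1)).symm
  · intro b c
    have e : (row77 (J b)).testBit (J c) = (rowHS (23 + J b)).testBit (23 + J c) :=
      Nat.testBit_shiftRight ..
    rw [e, (row_block _ (hJ b).1).2.2 _ (hJ c).1, Nat.beq_eq, (hJ b).2, (hJ c).2,
      ← disjoint_iff_hx hf]
    unfold blockGraph
    rw [SimpleGraph.fromRel_adj]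
    constructor
    · rintro ⟨-, h | h⟩
      · exact h
      · exact h.symm
    · intro h
      refine ⟨?_, Or.inl h⟩
      rintro rfl
      rw [disjoint_self, Finset.bot_eq_empty] at h
      have := hB.1 _ b.2
      rw [h] at this
      simp at this

theorem srg_HS : srgCheck rowHS 100 22 0 6 = true := by decide +kernel

theorem srg_77 : srgCheck row77 77 16 0 4 = true := by decide +kernel

end Cfsg.Agent.Lib.Helper27
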