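import Cfsg.Agent.Lib.Helper27.WEmb

/-!
# A certified search for the projective planes of order four

Points are the 21 points of index `< 21` of `GolayPt`; lines are bitmasks.  `PGoal S` says that every
plane containing the lines of the list `S` can be carried, by a permutation of the 21 points, into
the system of the octads through the three remaining points.
-/

set_option autoImplicit false

namespace Cfsg.Agent.Lib.Helper27

open Cfsg
open scoped Pointwise

/-- the 21 points. -/
def PU : Finset GolayPt := unmask 2097151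

/-- the three other points. -/
def PR : Finset GolayPt := unmask 14680064

theorem mem_PU (p : GolayPt) : p ∈ PU ↔ idx p < 21 := by revert p; decide

theorem mem_PR (p : GolayPt) : p ∈ PR ↔ ¬ idx p < 21 := by revert p; decide

theorem card_PU : PU.card = 21 := by decide

theorem card_PR : PR.card = 3 := by decide

/-- a plane of order four on `PU`. -/
structure PSt (B : Set (Finset GolayPt)) : Prop where
  card : ∀ b ∈ B, b.card = 5
  sub : ∀ b ∈ B, b ⊆ PU
  ex : ∀ x ∈ PU, ∀ y ∈ PU, x ≠ y → ∃ b ∈ B, x ∈ b ∧ y ∈ b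
  uniq : ∀ b ∈ B, ∀ c ∈ B, b ≠ c → (b ∩ c).card ≤ 1

theorem PSt.smul {B : Set (Finset GolayPt)} (h : PSt B) {σ : Equiv.Perm GolayPt}
    (hσ : σ • PU = PU) : PSt (σ • B) := by
  have hmem : ∀ x, x ∈ PU → σ⁻¹ • x ∈ PU := by
    intro x hx
    rw [Finset.inv_smul_mem_iff, hσ]; exact hx
  constructor
  · rintro _ ⟨b, hb, rfl⟩
    show (σ • b).card = 5
    rw [Finset.card_smul_finset]; exact h.card b hb
  · rintro _ ⟨b, hb, rfl⟩
    show σ • b ⊆ PU
    rw [← hσ]; exact Finset.smul_finset_subset_smul_finset (h.sub b hb)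
  · intro x hx y hy hxy
    obtain ⟨b, hb, h1, h2⟩ := h.ex _ (hmem x hx) _ (hmem y hy)
      (fun e => hxy (MulAction.injective σ⁻¹ e))
    exact ⟨σ • b, ⟨b, hb, rfl⟩, Finset.inv_smul_mem_iff.1 h1, Finset.inv_smul_mem_iff.1 h2⟩
  · rintro _ ⟨b, hb, rfl⟩ _ ⟨c, hc, rfl⟩ hne
    show (σ • b ∩ σ • c).card ≤ 1
    rw [← Finset.smul_finset_inter, Finset.card_smul_finset]
    exact h.uniq b hb c hc (fun e => hne (by rw [e]))

/-- every plane containing the lines of `S` embeds. -/
def PGoal (S : List ℕ) : Prop :=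
  ∀ B : Set (Finset GolayPt), PSt B → (∀ m ∈ S, unmask m ∈ B) →
    ∃ σ : Equiv.Perm GolayPt, σ • PU = PU ∧ ∀ b ∈ B, σ • b ∪ PR ∈ octads

/-- membership in a list of numbers. -/
def memL (c : ℕ) (l : List ℕ) : Bool := anyList (fun x => Nat.beq x c) l

theorem memL_iff (c : ℕ) (l : List ℕ) : memL c l = true ↔ c ∈ l := by
  unfold memL
  rw [anyList_iff]
  constructor
  · rintro ⟨a, ha, e⟩
    rw [Nat.beq_eq] at e
    rwa [← e]
  · intro h
    exact ⟨c, h, by rw [Nat.beq_eq]⟩

/-- the coded permutation preserves the 21 points and carries each member of `T` into `S`. -/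
def symCheck (S T : List ℕ) (π : ℕ) : Bool :=
  band (validCode π) (band (Nat.beq (permMask π 2097151) 2097151)
    (allList (fun t => band (Nat.blt t 16777216) (memL (permMask π t) S)) T))

theorem PGoal.sym {S T : List ℕ} {π : ℕ} (hchk : symCheck S T π = true) (h : PGoal T) :
    PGoal S := by
  unfold symCheck at hchk
  rw [band_eq, band_eq, Bool.and_eq_true, Bool.and_eq_true, Nat.beq_eq, allList_iff] at hchk
  obtain ⟨hv, hU, hT⟩ := hchk
  intro B hB hS
  have hσ : permOf π • PU = PU := by
    unfold PU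
    rw [smul_unmask_permOf hv (by norm_num), hU]
  have hσ' : (permOf π)⁻¹ • PU = PU := by
    rw [inv_smul_eq_iff, hσ]
  obtain ⟨σ, h1, h2⟩ := h ((permOf π)⁻¹ • B) (hB.smul hσ') (by
    intro t ht
    have := hT t ht
    rw [band_eq, Bool.and_eq_true, Nat.blt_eq, memL_iff] at this
    refine ⟨unmask (permMask π t), hS _ this.2, ?_⟩
    show (permOf π)⁻¹ • unmask (permMask π t) = unmask t
    rw [inv_smul_eq_iff, smul_unmask_permOf hv this.1])
  refine ⟨σ * (permOf π)⁻¹, by rw [mul_smul, hσ', h1], fun b hb => ?_⟩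
  rw [mul_smul]
  exact h2 _ ⟨b, hb, rfl⟩

/-- `c` meets every member of `S` in at most one point. -/
def compat (S : List ℕ) (c : ℕ) : Bool :=
  allList (fun m => Nat.beq (Nat.land (Nat.land c m) (Nat.pred (Nat.land c m))) 0) S

theorem and_pred_of_pc_le {x : ℕ} (hx : x < 2 ^ 24) (h : pc x ≤ 1) : x &&& (x - 1) = 0 := by
  rw [← card_unmask] at h
  rcases Nat.le_one_iff_eq_zero_or_eq_one.1 h with h | h
  · rw [Finset.card_eq_zero] at h
    have : x = 0 := by rw [← mask_unmask hx, h, mask_empty]
    rw [this]; rfl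
  · obtain ⟨p, hp⟩ := Finset.card_eq_one.1 h
    have : x = 2 ^ idx p := by rw [← mask_unmask hx, hp, mask_singleton]
    rw [this, Nat.and_two_pow_sub_one_eq_mod, Nat.mod_self]

theorem compat_of {S : List ℕ} {c : ℕ} (hc : c < 2 ^ 24) (h : ∀ m ∈ S, pc (c &&& m) ≤ 1) :
    compat S c = true := by
  unfold compat
  rw [allList_iff]
  intro m hm
  rw [Nat.beq_eq]
  exact and_pred_of_pc_le (lt_of_le_of_lt Nat.and_le_left hc) (h m hm)

/-- enumeration of the ways of adding `n` points, of decreasing index below the bound, to `c`,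
staying compatible with `S`; `H` is tested on the results. -/
def extC (S : List ℕ) (H : ℕ → Bool) (n : ℕ) : ℕ → ℕ → Bool :=
  Nat.rec (fun c _ => H c)
    (fun _ ih c bound => allBelow (fun i =>
      bor (Nat.beq (Nat.lor c (Nat.shiftLeft 1 i)) c)
        (bor (bnot (compat S (Nat.lor c (Nat.shiftLeft 1 i)))) (ih (Nat.lor c (Nat.shiftLeft 1 i)) i)))
      bound) n

theorem extC_zero (S : List ℕ) (H : ℕ → Bool) (c bound : ℕ) : extC S H 0 c bound = H c := rfl

theorem extC_succ (S : List ℕ) (H : ℕ → Bool) (n c bound : ℕ) :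
    extC S H (n + 1) c bound = allBelow (fun i =>
      bor (Nat.beq (c ||| 1 <<< i) c)
        (bor (bnot (compat S (c ||| 1 <<< i))) (extC S H n (c ||| 1 <<< i) i))) bound := rfl

theorem pc_and_mono {a b m : ℕ} (ha : a < 2 ^ 24) (hb : b < 2 ^ 24) (hab : a &&& b = a) :
    pc (a &&& m) ≤ pc (b &&& m) := by
  rw [← card_unmask, ← card_unmask, unmask_and, unmask_and]
  apply Finset.card_le_card
  apply Finset.inter_subset_inter_right
  rw [subset_iff_mask, mask_unmask ha, mask_unmask hb]; exact hab

theorem extC_sound (S : List ℕ) (H : ℕ → Bool) : ∀ (n c bound : ℕ), c < 2 ^ 24 → bound ≤ 24 →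
    extC S H n c bound = true → ∀ d : Finset GolayPt, d.card = n → (∀ a ∈ d, idx a < bound) →
    Disjoint d (unmask c) → (∀ m ∈ S, pc ((c ||| mask d) &&& m) ≤ 1) →
    H (c ||| mask d) = true := by
  intro n
  induction n with
  | zero =>
    intro c bound _ _ h d hd _ _ _
    rw [Finset.card_eq_zero] at hd
    rw [hd, mask_empty, Nat.or_zero]
    exact h
  | succ n ih =>
    intro c bound hc hbound h d hd hlt hdisj hcomp
    have hne : d.Nonempty := by rw [← Finset.card_pos]; omega
    obtain ⟨a, ha, hmax⟩ := Finset.exists_max_image d idx hne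
    rw [extC_succ, allBelow_iff] at h
    have h1 := h (idx a) (hlt a ha)
    have e1 : 1 <<< idx a = 2 ^ idx a := by rw [Nat.shiftLeft_eq, one_mul]
    rw [e1] at h1
    have hc' : c ||| 2 ^ idx a < 2 ^ 24 :=
      Nat.or_lt_two_pow hc (Nat.pow_lt_pow_right (by norm_num) (idx_lt a))
    have hd' : mask d = 2 ^ idx a ||| mask (d.erase a) := by
      rw [← mask_insert, Finset.insert_erase ha]
    have hassoc : c ||| mask d = (c ||| 2 ^ idx a) ||| mask (d.erase a) := by
      rw [hd', Nat.or_assoc]
    have hac : a ∉ unmask c := Finset.disjoint_left.1 hdisj ha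
    rw [bor_eq, bor_eq, Bool.or_eq_true, Bool.or_eq_true, Nat.beq_eq, bnot_eq,
      Bool.not_eq_true'] at h1
    rcases h1 with h1 | h1 | h1
    · exfalso
      apply hac
      rw [mem_unmask, ← h1, Nat.testBit_or, Nat.testBit_two_pow_self, Bool.or_true]
    · exfalso
      have : compat S (c ||| 2 ^ idx a) = true := by
        apply compat_of hc'
        intro m hm
        refine le_trans (pc_and_mono hc' (Nat.or_lt_two_pow hc (mask_lt d)) ?_) (hcomp m hm)
        rw [hassoc]
        apply Nat.eq_of_testBit_eq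
        intro i
        simp only [Nat.testBit_and, Nat.testBit_or]
        cases c.testBit i <;> cases (2 ^ idx a).testBit i <;> simp
      rw [this] at h1
      exact Bool.noConfusion h1
    · rw [hassoc]
      apply ih (c ||| 2 ^ idx a) (idx a) hc' (le_of_lt (idx_lt a)) h1 (d.erase a)
      · rw [Finset.card_erase_of_mem ha]; omega
      · intro b hb
        have h2 := hmax b (Finset.mem_of_mem_erase hb)
        have h3 : idx b ≠ idx a := fun e => Finset.ne_of_mem_erase hb (idx_injective e)
        omega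
      · rw [Finset.disjoint_left]
        intro b hb hb'
        rw [unmask_or, Finset.mem_union] at hb'
        rcases hb' with hb' | hb'
        · exact Finset.disjoint_left.1 hdisj (Finset.mem_of_mem_erase hb) hb'
        · rw [unmask_two_pow (idx_lt a), pt_idx, Finset.mem_singleton] at hb'
          exact Finset.ne_of_mem_erase hb hb'
      · rw [← hassoc]; exact hcomp

/-- the check of one isomorphism certificate `(c, π, c')`: `π` carries `c' :: S` into `c :: S`. -/
def isoCheck (S reps : List ℕ) (e : ℕ × ℕ × ℕ) : Bool :=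
  band (memL e.2.2 reps) (symCheck (e.1 :: S) (e.2.2 :: S) e.2.1)

/-- the check of a branching node. -/
def branchCheck (S reps : List ℕ) (isos : List (ℕ × ℕ × ℕ)) (p q : ℕ) : Bool :=
  band (Nat.blt p 21) (band (Nat.blt q 21) (band (bnot (Nat.beq p q))
    (band (allList (fun m => band (Nat.blt m 16777216) (bnot (band (tb m p) (tb m q)))) S)
      (band (allList (isoCheck S reps) isos)
        (extC S (fun c => bor (memL c reps) (anyList (fun e => Nat.beq e.1 c) isos)) 3
          (Nat.lor (Nat.shiftLeft 1 p) (Nat.shiftLeft 1 q)) 21)))))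

theorem PGoal.branch {S reps : List ℕ} {isos : List (ℕ × ℕ × ℕ)} {p q : ℕ}
    (hchk : branchCheck S reps isos p q = true) (hreps : ∀ c ∈ reps, PGoal (c :: S)) :
    PGoal S := by
  unfold branchCheck at hchk
  simp only [band_eq, Bool.and_eq_true, Nat.blt_eq, bnot_eq, Bool.not_eq_true', allList_iff] at hchk
  obtain ⟨hp, hq, hpq, hS, hisos, hext⟩ := hchk
  have hpq' : p ≠ q := by
    intro e
    rw [e] at hpq
    have : Nat.beq q q = true := by rw [Nat.beq_eq]
    rw [this] at hpq
    exact Bool.noConfusion hpq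
  intro B hB hSB
  have hp24 : p < 24 := by omega
  have hq24 : q < 24 := by omega
  have hptne : pt p ≠ pt q := by
    intro e
    apply hpq'
    rw [← idx_pt hp24, ← idx_pt hq24, e]
  obtain ⟨b, hb, hpb, hqb⟩ := hB.ex (pt p) ((mem_PU _).2 (by rw [idx_pt hp24]; exact hp)) (pt q)
    ((mem_PU _).2 (by rw [idx_pt hq24]; exact hq)) hptne
  -- the block `b` as an extension of the pair
  have hpair : ({pt p, pt q} : Finset GolayPt) ⊆ b := by
    intro x hx
    rcases Finset.mem_insert.1 hx with rfl | hx
    · exact hpb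
    · rw [Finset.mem_singleton.1 hx]; exact hqb
  have hmaskpair : mask ({pt p, pt q} : Finset GolayPt) = 1 <<< p ||| 1 <<< q := by
    rw [mask_insert, mask_singleton, idx_pt hp24, idx_pt hq24, Nat.shiftLeft_eq, Nat.shiftLeft_eq,
      one_mul, one_mul]
  have hbm : (1 <<< p ||| 1 <<< q) ||| mask (b \ {pt p, pt q}) = mask b := by
    rw [← hmaskpair, ← mask_union, Finset.union_sdiff_of_subset hpair]
  have hcompat : ∀ m ∈ S, pc (mask b &&& m) ≤ 1 := by
    intro m hm
    have hm' := hS m hm
    have hne : b ≠ unmask m := by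
      rintro rfl
      rw [mem_unmask, idx_pt hp24, ← tb_eq] at hpb
      rw [mem_unmask, idx_pt hq24, ← tb_eq] at hqb
      rw [hpb, hqb] at hm'
      exact Bool.noConfusion hm'.2
    have := hB.uniq b hb _ (hSB m hm) hne
    rwa [card_eq_pc, mask_inter, mask_unmask hm'.1] at this
  have hH := extC_sound S _ 3 (1 <<< p ||| 1 <<< q) 21
    (by rw [← hmaskpair]; exact mask_lt _) (by norm_num) hext (b \ {pt p, pt q})
    (by rw [Finset.card_sdiff_of_subset hpair, hB.card b hb, Finset.card_pair hptne])
    (fun a ha => (mem_PU a).1 (hB.sub b hb (Finset.mem_sdiff.1 ha).1))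
    (by rw [← hmaskpair, unmask_mask]; exact Finset.sdiff_disjoint)
    (by rw [hbm]; exact hcompat)
  rw [hbm, bor_eq, Bool.or_eq_true, memL_iff, anyList_iff] at hH
  have hSB' : ∀ m ∈ mask b :: S, unmask m ∈ B := by
    intro m hm
    rcases List.mem_cons.1 hm with rfl | hm
    · rw [unmask_mask]; exact hb
    · exact hSB m hm
  rcases hH with hH | ⟨e, he, he'⟩
  · exact hreps _ hH B hB hSB'
  · have h1 := hisos e he
    unfold isoCheck at h1
    rw [band_eq, Bool.and_eq_true, memL_iff] at h1
    rw [Nat.beq_eq] at he'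
    rw [he'] at h1
    exact (hreps _ h1.1).sym h1.2 B hB hSB'

/-- the check of a leaf. -/
def leafCheck (S : List ℕ) (π : ℕ) : Bool :=
  band (validCode π) (band (Nat.beq (permMask π 2097151) 2097151)
    (band (allBelow (fun i => allBelow (fun j => bor (Nat.beq i j)
        (anyList (fun m => band (tb m i) (tb m j)) S)) 21) 21)
      (allList (fun m => band (Nat.blt m 16777216)
        (band (isCode (Nat.lor (permMask π m) 14680064))
          (Nat.beq (pc (Nat.lor (permMask π m) 14680064)) 8))) S)))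

theorem PGoal.leaf {S : List ℕ} {π : ℕ} (hchk : leafCheck S π = true) : PGoal S := by
  unfold leafCheck at hchk
  simp only [band_eq, Bool.and_eq_true, Nat.blt_eq, allList_iff, allBelow_iff, Nat.beq_eq, bor_eq,
    Bool.or_eq_true, anyList_iff] at hchk
  obtain ⟨hv, hU, hcov, hcode⟩ := hchk
  intro B hB hSB
  refine ⟨permOf π, ?_, ?_⟩
  · unfold PU
    rw [smul_unmask_permOf hv (by norm_num), hU]
  · intro b hb
    obtain ⟨x, hx, y, hy, hxy⟩ := Finset.one_lt_card.1 (by rw [hB.card b hb]; norm_num : 1 < b.card)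
    have hx' := (mem_PU x).1 (hB.sub b hb hx)
    have hy' := (mem_PU y).1 (hB.sub b hb hy)
    rcases hcov _ hx' _ hy' with h | ⟨m, hm, h1, h2⟩
    · exact absurd (idx_injective h) hxy
    · rw [tb_eq, ← mem_unmask] at h1 h2
      have hbm : b = unmask m := by
        by_contra hne
        have h3 := hB.uniq b hb _ (hSB m hm) hne
        have h4 : ({x, y} : Finset GolayPt) ⊆ b ∩ unmask m := by
          intro z hz
          rcases Finset.mem_insert.1 hz with rfl | hz
          · exact Finset.mem_inter.2 ⟨hx, h1⟩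
          · rw [Finset.mem_singleton.1 hz]; exact Finset.mem_inter.2 ⟨hy, h2⟩
        have h5 := Finset.card_le_card h4
        rw [Finset.card_pair hxy] at h5
        omega
      obtain ⟨hlt, hc1, hc2⟩ := hcode m hm
      rw [hbm, smul_unmask_permOf hv hlt]
      unfold PR
      rw [← unmask_or]
      exact unmask_mem_octads hc1 hc2

/-- from the root of the search to the embedding of an arbitrary plane. -/
theorem plane_stdEmbAt (hroot : PGoal []) {α : Type*} [Fintype α] [DecidableEq α]
    (hα : Fintype.card α = 21) {L : Set (Finset α)} (hL : IsSteinerSystem 2 5 L) :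
    StdEmbAt PR L := by
  have e : α ≃ {p : GolayPt // p ∈ PU} := Fintype.equivOfCardEq (by
    rw [hα, Fintype.card_coe, card_PU])
  let f0 : α → GolayPt := fun a => (e a).1
  have hf0 : Function.Injective f0 := fun a a' h => e.injective (Subtype.ext h)
  have hst : PSt ((fun b => b.image f0) '' L) := by
    constructor
    · rintro _ ⟨b, hb, rfl⟩
      show (b.image f0).card = 5
      rw [Finset.card_image_of_injective _ hf0]; exact hL.1 b hb
    · rintro _ ⟨b, hb, rfl⟩ p hp
      obtain ⟨a, -, rfl⟩ := Finset.mem_image.1 hp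
      exact (e a).2
    · intro x hx y hy hxy
      have hne : e.symm ⟨x, hx⟩ ≠ e.symm ⟨y, hy⟩ := by
        intro h
        exact hxy (congrArg Subtype.val (e.symm.injective h))
      obtain ⟨b, ⟨hb, hsub⟩, -⟩ := hL.2 {e.symm ⟨x, hx⟩, e.symm ⟨y, hy⟩} (Finset.card_pair hne)
      refine ⟨b.image f0, ⟨b, hb, rfl⟩, ?_, ?_⟩
      · exact Finset.mem_image.2 ⟨_, hsub (Finset.mem_insert_self _ _), by simp [f0]⟩
      · exact Finset.mem_image.2 ⟨_, hsub (Finset.mem_insert_of_mem (Finset.mem_singleton_self _)),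
          by simp [f0]⟩
    · rintro _ ⟨b, hb, rfl⟩ _ ⟨c, hc, rfl⟩ hne
      show (b.image f0 ∩ c.image f0).card ≤ 1
      rw [← Finset.image_inter _ _ hf0, Finset.card_image_of_injective _ hf0]
      by_contra hlt
      obtain ⟨s, hs, hs2⟩ := Finset.exists_subset_card_eq (s := b ∩ c) (n := 2) (by omega)
      obtain ⟨d, -, hd⟩ := hL.2 s hs2
      have h1 := hd b ⟨hb, hs.trans Finset.inter_subset_left⟩
      have h2 := hd c ⟨hc, hs.trans Finset.inter_subset_right⟩
      exact hne (by rw [h1, h2])
  obtain ⟨σ, hσ, hoct⟩ := hroot _ hst (by simp)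
  apply stdEmbAt_of_forward hL (f := σ ∘ f0) (σ.injective.comp hf0)
  · intro a
    rw [mem_PR, not_not, ← mem_PU, ← hσ]
    exact Finset.smul_mem_smul_finset (e a).2
  · rw [hα, card_PR]
  · rw [card_PR]
  · rw [card_PR]
  · intro b hb
    have := hoct _ ⟨b, hb, rfl⟩
    rw [← Finset.image_image]
    exact this

end Cfsg.Agent.Lib.Helper27
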